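import Mathlib.RingTheory.AdicCompletion.Algebra
import Mathlib.RingTheory.AdicCompletion.Basic
import Mathlib.RingTheory.AdicCompletion.Completeness
import Mathlib.RingTheory.AdicCompletion.LocalRing
import Mathlib.RingTheory.ReesAlgebra
import Mathlib.RingTheory.TensorProduct.Quotient
import Mathlib.RingTheory.FiniteType
import Mathlib.RingTheory.FiniteStability
import Mathlib.RingTheory.Polynomial.Basic

/-!
# A ring complete with respect to a finitely generated ideal with Noetherian quotient is Noetherian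
-/

set_option autoImplicit false
universe u

namespace Groth.Agent.Lead

open Polynomial

variable {A : Type u} [CommRing A] (𝔞 : Ideal A)

/-- The quotient of the Rees algebra by the extension of the ideal is Noetherian. -/
theorem isNoetherianRing_rees_quotient (hfg : 𝔞.FG) [IsNoetherianRing (A ⧸ 𝔞)] :
    IsNoetherianRing (reesAlgebra 𝔞 ⧸ 𝔞.map (algebraMap A (reesAlgebra 𝔞))) := by
  have h1 : Algebra.FiniteType A (reesAlgebra 𝔞) :=
    (Subalgebra.fg_iff_finiteType _).1 (reesAlgebra.fg hfg)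
  have h2 : Algebra.FiniteType (A ⧸ 𝔞) (TensorProduct A (A ⧸ 𝔞) (reesAlgebra 𝔞)) := inferInstance
  have h3 : IsNoetherianRing (TensorProduct A (A ⧸ 𝔞) (reesAlgebra 𝔞)) :=
    Algebra.FiniteType.isNoetherianRing (A ⧸ 𝔞) _
  exact isNoetherianRing_of_ringEquiv _
    (Algebra.TensorProduct.quotIdealMapEquivQuotTensor (reesAlgebra 𝔞) 𝔞).symm.toRingEquiv

/-- coefficients of elements of the extended ideal -/
theorem coeff_mem_of_mem_map {e : reesAlgebra 𝔞} (he : e ∈ 𝔞.map (algebraMap A (reesAlgebra 𝔞)))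
    (n : ℕ) : (e : A[X]).coeff n ∈ 𝔞 ^ (n + 1) := by
  unfold Ideal.map at he
  induction he using Submodule.span_induction generalizing n with
  | mem x hx =>
    obtain ⟨a, ha, rfl⟩ := hx
    change (algebraMap A A[X] a).coeff n ∈ _
    rw [Polynomial.algebraMap_apply, coeff_C]
    split_ifs with h
    · subst h; simpa using ha
    · exact Ideal.zero_mem _
  | zero => simp
  | add x y _ _ hx hy =>
    change ((x : A[X]) + (y : A[X])).coeff n ∈ _
    rw [coeff_add]
    exact Ideal.add_mem _ (hx n) (hy n)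
  | smul r x _ hx =>
    change ((r : A[X]) * (x : A[X])).coeff n ∈ _
    rw [coeff_mul]
    refine Ideal.sum_mem _ ?_
    rintro ⟨i, j⟩ hij
    have hij' : i + j = n := Finset.mem_antidiagonal.mp hij
    have : n + 1 = i + (j + 1) := by omega
    rw [this, pow_add]
    exact Ideal.mul_mem_mul (r.2 i) (hx j)



theorem mem_span_of_series [IsAdicComplete 𝔞 A] (G : Finset A) (D : ℕ) (x : A) (y : ℕ → A)
    (hy : ∀ n, y n ∈ 𝔞 ^ (n - D) • Ideal.span (G : Set A))
    (hx : ∀ n, x - ∑ k ∈ Finset.range n, y k ∈ 𝔞 ^ n) : x ∈ Ideal.span (G : Set A) := by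
  classical
  have h1 : ∀ n, ∃ a : G → A, (∀ i, a i ∈ 𝔞 ^ (n - D)) ∧ ∑ i, a i * (i : A) = y n := by
    intro n
    have h := hy n
    have hG : (G : Set A) = Set.range (Subtype.val : G → A) := by
      ext z; simp
    rw [hG] at h
    obtain ⟨a, ha, hsum⟩ := (Submodule.mem_ideal_smul_span_iff_exists_sum _ _ _).1 h
    refine ⟨a, ha, ?_⟩
    rw [← hsum, Finsupp.sum_fintype]
    · simp
    · simp
  choose a ha hsum using h1
  have h2 : ∀ i : G, ∃ c : A, ∀ n, ∑ k ∈ Finset.range (n + D), a k i - c ∈ 𝔞 ^ n := by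
    intro i
    have hpre : IsPrecomplete 𝔞 A := inferInstance
    obtain ⟨L, hL⟩ := hpre.prec (f := fun n => ∑ k ∈ Finset.range (n + D), a k i) (by
      intro m n hmn
      rw [SModEq.sub_mem, smul_eq_mul, Ideal.mul_top]
      have : ∑ k ∈ Finset.range (m + D), a k i - ∑ k ∈ Finset.range (n + D), a k i
          = - ∑ k ∈ Finset.Ico (m + D) (n + D), a k i := by
        rw [Finset.sum_Ico_eq_sub _ (by omega)]; ring
      rw [this]
      refine Ideal.neg_mem_iff _ |>.2 (Ideal.sum_mem _ ?_)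
      intro k hk
      rw [Finset.mem_Ico] at hk
      exact Ideal.pow_le_pow_right (by omega) (ha k i))
    refine ⟨L, fun n => ?_⟩
    have := hL n
    rwa [SModEq.sub_mem, smul_eq_mul, Ideal.mul_top] at this
  choose c hc using h2
  have h3 : x = ∑ i, c i * (i : A) := by
    rw [IsHausdorff.eq_iff_smodEq (I := 𝔞)]
    intro n
    rw [SModEq.sub_mem, smul_eq_mul, Ideal.mul_top]
    have e : x - ∑ i, c i * (i : A) = (x - ∑ k ∈ Finset.range (n + D), y k)
        + ∑ i, (∑ k ∈ Finset.range (n + D), a k i - c i) * (i : A) := by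
      have : ∑ k ∈ Finset.range (n + D), y k = ∑ i, (∑ k ∈ Finset.range (n + D), a k i) * (i : A) := by
        simp_rw [← hsum, Finset.sum_mul]
        rw [Finset.sum_comm]
      rw [this]
      simp_rw [sub_mul, Finset.sum_sub_distrib]
      ring
    rw [e]
    refine Ideal.add_mem _ (Ideal.pow_le_pow_right (by omega) (hx (n + D))) (Ideal.sum_mem _ ?_)
    intro i _
    exact Ideal.mul_mem_right _ _ (hc i n)
  rw [h3]
  exact Ideal.sum_mem _ (fun i _ => Ideal.mul_mem_left _ _ (Ideal.subset_span i.2))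



/-- the ideal of the Rees algebra of polynomials with all coefficients in `J` -/
def Jstar (J : Ideal A) : Ideal (reesAlgebra 𝔞) where
  carrier := {p | ∀ n, (p : A[X]).coeff n ∈ J}
  add_mem' := fun {a b} ha hb n => by
    change ((a : A[X]) + (b : A[X])).coeff n ∈ J
    rw [coeff_add]; exact J.add_mem (ha n) (hb n)
  zero_mem' := fun n => by
    change (0 : A[X]).coeff n ∈ J
    simp
  smul_mem' := fun r p hp n => by
    change ((r : A[X]) * (p : A[X])).coeff n ∈ J
    rw [coeff_mul]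
    exact J.sum_mem (fun ij _ => J.mul_mem_left _ (hp ij.2))

theorem mem_Jstar {J : Ideal A} {p : reesAlgebra 𝔞} :
    p ∈ Jstar 𝔞 J ↔ ∀ n, (p : A[X]).coeff n ∈ J := Iff.rfl

theorem exists_finset_le_sup {R : Type*} [CommRing R] (E K : Ideal R) [IsNoetherianRing (R ⧸ E)] :
    ∃ S : Finset R, (S : Set R) ⊆ K ∧ K ≤ Ideal.span (S : Set R) ⊔ E := by
  classical
  have hfg : (K.map (Ideal.Quotient.mk E)).FG := IsNoetherian.noetherian _
  change (Submodule.span (R ⧸ E) ((Ideal.Quotient.mk E) '' (K : Set R))).FG at hfg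
  obtain ⟨s', hs', hspan⟩ := (Submodule.fg_span_iff_fg_span_finset_subset _).1 hfg
  obtain ⟨S, hSK, hSs'⟩ := Finset.subset_set_image_iff.1 hs'
  refine ⟨S, hSK, ?_⟩
  intro p hp
  have h1 : Ideal.Quotient.mk E p ∈ Submodule.span (R ⧸ E) ((Ideal.Quotient.mk E) '' (K : Set R)) :=
    Submodule.subset_span ⟨p, hp, rfl⟩
  rw [hspan, ← hSs', Finset.coe_image] at h1
  change Ideal.Quotient.mk E p ∈ Ideal.span ((Ideal.Quotient.mk E) '' (S : Set R)) at h1
  rw [← Ideal.map_span, Ideal.mem_map_iff_of_surjective _ Ideal.Quotient.mk_surjective] at h1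
  obtain ⟨q, hq, hqp⟩ := h1
  have h2 : p - q ∈ E := by
    rw [← Ideal.Quotient.eq, hqp]
  have : p = q + (p - q) := by ring
  rw [this]
  exact Ideal.add_mem _ (Ideal.mem_sup_left hq) (Ideal.mem_sup_right h2)



theorem coeff_mem_of_mem_span [DecidableEq A] (S : Finset (reesAlgebra 𝔞)) (q : reesAlgebra 𝔞)
    (hq : q ∈ Ideal.span (S : Set (reesAlgebra 𝔞))) (n : ℕ) :
    (q : A[X]).coeff n ∈ 𝔞 ^ (n - S.sup (fun p => (p : A[X]).natDegree)) •
      Ideal.span ((S.biUnion (fun p => (p : A[X]).coeffs) : Finset A) : Set A) := by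
  classical
  unfold Ideal.span at hq
  induction hq using Submodule.span_induction generalizing n with
  | mem p hp =>
    by_cases hn : n ≤ S.sup (fun p => (p : A[X]).natDegree)
    · rw [Nat.sub_eq_zero_of_le hn, pow_zero, Ideal.one_eq_top, Submodule.top_smul]
      by_cases h0 : (p : A[X]).coeff n = 0
      · rw [h0]; exact Ideal.zero_mem _
      · apply Ideal.subset_span
        rw [Finset.mem_coe, Finset.mem_biUnion]
        exact ⟨p, hp, Polynomial.coeff_mem_coeffs h0⟩
    · have : (p : A[X]).natDegree < n := by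
        have := Finset.le_sup (f := fun p : reesAlgebra 𝔞 => (p : A[X]).natDegree) hp
        omega
      rw [Polynomial.coeff_eq_zero_of_natDegree_lt this]
      exact Submodule.zero_mem _
  | zero => 
    change (0 : A[X]).coeff n ∈ _
    rw [coeff_zero]; exact Submodule.zero_mem _
  | add x y _ _ hx hy =>
    change ((x : A[X]) + (y : A[X])).coeff n ∈ _
    rw [coeff_add]
    exact Submodule.add_mem _ (hx n) (hy n)
  | smul r x _ hx =>
    change ((r : A[X]) * (x : A[X])).coeff n ∈ _
    rw [coeff_mul]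
    refine Submodule.sum_mem _ ?_
    rintro ⟨i, j⟩ hij
    have hij' : i + j = n := Finset.mem_antidiagonal.mp hij
    have h1 := Submodule.smul_mem_smul (r.2 i) (hx j)
    rw [← mul_smul, ← pow_add] at h1
    refine Submodule.smul_mono_left (Ideal.pow_le_pow_right ?_) h1
    omega



/-- A ring which is complete with respect to a finitely generated ideal `𝔞` such that `A ⧸ 𝔞`
is Noetherian, is Noetherian. -/
theorem isNoetherianRing_of_isAdicComplete (hfg : 𝔞.FG) [IsAdicComplete 𝔞 A]
    [IsNoetherianRing (A ⧸ 𝔞)] : IsNoetherianRing A := by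
  classical
  rw [isNoetherianRing_iff_ideal_fg]
  intro J
  have := isNoetherianRing_rees_quotient 𝔞 hfg
  obtain ⟨S, hSJ, hJS⟩ := exists_finset_le_sup (𝔞.map (algebraMap A (reesAlgebra 𝔞))) (Jstar 𝔞 J)
  set D := S.sup (fun p => (p : A[X]).natDegree) with hD
  set G : Finset A := S.biUnion (fun p => (p : A[X]).coeffs) with hG
  have hGJ : (G : Set A) ⊆ J := by
    intro g hg
    rw [Finset.mem_coe, hG, Finset.mem_biUnion] at hg
    obtain ⟨p, hp, hgp⟩ := hg
    rw [Polynomial.mem_coeffs_iff] at hgp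
    obtain ⟨n, _, rfl⟩ := hgp
    exact hSJ hp n
  have hN : Ideal.span (G : Set A) ≤ J := Ideal.span_le.2 hGJ
  have approx : ∀ n, ∀ z ∈ J, z ∈ 𝔞 ^ n →
      ∃ y ∈ 𝔞 ^ (n - D) • Ideal.span (G : Set A), z - y ∈ 𝔞 ^ (n + 1) := by
    intro n z hzJ hzn
    let P : reesAlgebra 𝔞 := ⟨monomial n z, (reesAlgebra.monomial_mem).2 hzn⟩
    have hP : P ∈ Jstar 𝔞 J := by
      intro k
      change (monomial n z).coeff k ∈ J
      rw [coeff_monomial]
      split_ifs
      · exact hzJ
      · exact J.zero_mem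
    obtain ⟨q, hq, e, he, hqe⟩ := Submodule.mem_sup.1 (hJS hP)
    refine ⟨(q : A[X]).coeff n, coeff_mem_of_mem_span 𝔞 S q hq n, ?_⟩
    have h1 : z = (q : A[X]).coeff n + (e : A[X]).coeff n := by
      have : (P : A[X]).coeff n = ((q + e : reesAlgebra 𝔞) : A[X]).coeff n := by rw [hqe]
      change (monomial n z).coeff n = ((q : A[X]) + (e : A[X])).coeff n at this
      rwa [coeff_monomial_same, coeff_add] at this
    have h2 : z - (q : A[X]).coeff n = (e : A[X]).coeff n := by rw [h1]; ring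
    rw [h2]
    exact coeff_mem_of_mem_map 𝔞 he n
  refine ⟨G, le_antisymm (Ideal.span_le.2 hGJ) ?_⟩
  intro x hx
  have step : ∀ n, ∀ z : {z : A // z ∈ J ∧ z ∈ 𝔞 ^ n},
      ∃ z' : {z : A // z ∈ J ∧ z ∈ 𝔞 ^ (n + 1)},
        (z : A) - z' ∈ 𝔞 ^ (n - D) • Ideal.span (G : Set A) := by
    rintro n ⟨z, hzJ, hzn⟩
    obtain ⟨y, hy, hzy⟩ := approx n z hzJ hzn
    refine ⟨⟨z - y, J.sub_mem hzJ (hN (Submodule.smul_le_right hy)), hzy⟩, ?_⟩
    simpa using hy
  choose nxt hnxt using step
  let zs : ∀ n, {z : A // z ∈ J ∧ z ∈ 𝔞 ^ n} := fun n =>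
    Nat.rec (motive := fun n => {z : A // z ∈ J ∧ z ∈ 𝔞 ^ n}) ⟨x, hx, by simp⟩
      (fun n zn => nxt n zn) n
  have hy : ∀ n, (zs n).1 - (zs (n + 1)).1 ∈ 𝔞 ^ (n - D) • Ideal.span (G : Set A) :=
    fun n => hnxt n (zs n)
  refine mem_span_of_series 𝔞 G D x (fun n => (zs n).1 - (zs (n + 1)).1) hy ?_
  intro n
  rw [Finset.sum_range_sub' (fun n => (zs n).1)]
  have : x - ((zs 0).1 - (zs n).1) = (zs n).1 := by
    change x - (x - (zs n).1) = (zs n).1
    ring
  rw [this]
  exact (zs n).2.2


/-- The adic completion of a ring along a finitely generated ideal `I` with `R ⧸ I` Noetherian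
is Noetherian. -/
theorem isNoetherianRing_adicCompletion {R : Type u} [CommRing R] (I : Ideal R) (hI : I.FG)
    [IsNoetherianRing (R ⧸ I)] : IsNoetherianRing (AdicCompletion I R) := by
  have hc : IsAdicComplete (I.map (algebraMap R (AdicCompletion I R))) (AdicCompletion I R) :=
    (IsAdicComplete.map_algebraMap_iff (I := I) (S := AdicCompletion I R)
      (M := AdicCompletion I R)).2 (AdicCompletion.isAdicComplete hI)
  have hq : IsNoetherianRing
      (AdicCompletion I R ⧸ I.map (algebraMap R (AdicCompletion I R))) := by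
    rw [← AdicCompletion.ker_evalOneₐ_eq_map I hI]
    exact isNoetherianRing_of_ringEquiv _
      (RingHom.quotientKerEquivOfSurjective
        (f := (AdicCompletion.evalOneₐ I).toRingHom) (AdicCompletion.evalOneₐ_surjective I)).symm
  exact isNoetherianRing_of_isAdicComplete (I.map (algebraMap R (AdicCompletion I R))) (hI.map _)

end Groth.Agent.Lead
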