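import Mathlib

/-!
# Nagata's theorem over valuation rings

For a valuation ring `R`, every `R`-saturated submodule of a finite free module over a polynomial
ring `R[x₁,…,xₙ]` is finitely generated.  Consequently finitely generated `R`-torsion-free
modules over `R[x₁,…,xₙ]` are finitely presented.
-/

set_option autoImplicit false

namespace Groth.Agent.Lead.NagataVal

open MvPolynomial

section Homog

variable {σ : Type*} (k : Type*) [Field k]

/-- dehomogenization `x₀ ↦ 1`. -/
noncomputable def dehom : MvPolynomial (Option σ) k →ₐ[k] MvPolynomial σ k :=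
  aeval (fun o : Option σ => Option.elim o 1 X)

@[simp] lemma dehom_X_none : dehom (σ := σ) k (X none) = 1 := by simp [dehom]

@[simp] lemma dehom_X_some (i : σ) : dehom k (X (some i)) = X i := by simp [dehom]

lemma totalDegree_dehom_le {b : MvPolynomial (Option σ) k} {d : ℕ} (hb : b.IsHomogeneous d) :
    (dehom k b).totalDegree ≤ d := by
  classical
  rw [← b.support_sum_monomial_coeff, map_sum]
  refine totalDegree_finsetSum_le (fun β hβ => ?_)
  have hdeg : β.degree = d := by
    rw [Finsupp.degree_eq_weight_one]; exact hb (mem_support_iff.1 hβ)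
  rw [dehom, aeval_monomial]
  refine (totalDegree_mul _ _).trans ?_
  rw [algebraMap_eq, totalDegree_C, zero_add, Finsupp.prod]
  refine (totalDegree_finsetProd _ _).trans ?_
  rw [← hdeg, Finsupp.degree]
  refine Finset.sum_le_sum (fun i _ => ?_)
  refine (totalDegree_pow _ _).trans ?_
  cases i with
  | none => simp
  | some i =>
    simp only [Option.elim_some]
    rw [totalDegree_X, mul_one]

lemma dehom_rename_some (p : MvPolynomial σ k) : dehom k (rename some p) = p := by
  rw [dehom, aeval_rename]
  have : ((fun o : Option σ => Option.elim o (1 : MvPolynomial σ k) X) ∘ some) = X := rfl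
  rw [this, aeval_X_left_apply]

/-- homogenization in degree `d` is possible for polynomials of total degree `≤ d`. -/
lemma exists_homog (a : MvPolynomial σ k) (d : ℕ) (ha : a.totalDegree ≤ d) :
    ∃ b : MvPolynomial (Option σ) k, b.IsHomogeneous d ∧ dehom k b = a := by
  classical
  refine ⟨∑ α ∈ a.support, C (coeff α a) * X none ^ (d - α.degree) * rename some (monomial α 1),
    ?_, ?_⟩
  · refine IsHomogeneous.sum _ _ _ (fun α hα => ?_)
    have hαd : α.degree ≤ d := by
      have := le_totalDegree hα
      rw [Finsupp.degree]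
      exact (le_of_eq rfl).trans (this.trans ha)
    have h1 : (C (coeff α a) * X none ^ (d - α.degree) : MvPolynomial (Option σ) k).IsHomogeneous
        (0 + (d - α.degree)) := (isHomogeneous_C _ _).mul (isHomogeneous_X_pow _ _)
    have h2 : (rename some (monomial α (1 : k)) : MvPolynomial (Option σ) k).IsHomogeneous
        α.degree := (isHomogeneous_monomial _ rfl).rename_isHomogeneous
    have := h1.mul h2
    rwa [zero_add, Nat.sub_add_cancel hαd] at this
  · rw [map_sum]
    conv_rhs => rw [← a.support_sum_monomial_coeff]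
    refine Finset.sum_congr rfl (fun α _ => ?_)
    rw [map_mul, map_mul, map_pow, dehom_X_none, one_pow, mul_one, dehom_rename_some,
      dehom, aeval_C, algebraMap_eq, C_mul_monomial, mul_one]

end Homog

section Aux

attribute [local instance] MvPolynomial.gradedAlgebra in
lemma hc_decompose {τ k : Type*} [CommRing k] (φ : MvPolynomial τ k) (n : ℕ) :
    (DirectSum.decompose (homogeneousSubmodule τ k) φ n : MvPolynomial τ k) =
      homogeneousComponent n φ :=
  decomposition.decompose'_apply φ n

attribute [local instance] MvPolynomial.gradedAlgebra in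
lemma homogeneousComponent_mul_of_isHomogeneous {τ k : Type*} [CommRing k]
    (c v : MvPolynomial τ k) {i : ℕ} (hv : v.IsHomogeneous i) (n : ℕ) :
    homogeneousComponent n (c * v) =
      if i ≤ n then homogeneousComponent (n - i) c * v else 0 := by
  have := DirectSum.coe_decompose_mul_of_right_mem (𝒜 := homogeneousSubmodule τ k) n (a := c)
    (b := v) ((mem_homogeneousSubmodule _ _).2 hv)
  rw [hc_decompose, hc_decompose] at this
  exact this

lemma exists_lift {σ R k : Type*} [CommRing R] [CommRing k] (f : R →+* k)
    (hf : Function.Surjective f) (a : MvPolynomial σ k) :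
    ∃ p : MvPolynomial σ R, map f p = a ∧ p.totalDegree ≤ a.totalDegree := by
  classical
  choose s hs using hf
  refine ⟨∑ α ∈ a.support, monomial α (s (coeff α a)), ?_, ?_⟩
  · rw [map_sum]
    conv_rhs => rw [← a.support_sum_monomial_coeff]
    exact Finset.sum_congr rfl (fun α _ => by rw [map_monomial, hs])
  · refine totalDegree_finsetSum_le (fun α hα => (totalDegree_monomial_le _ _).trans ?_)
    exact le_totalDegree hα

/-- a finite family of polynomials over a valuation ring all of whose coefficients lie in the
maximal ideal is divisible by a single element of the maximal ideal. -/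
lemma exists_eq_C_mul {R : Type*} [CommRing R] [IsDomain R] [ValuationRing R] {σ : Type*} {m : ℕ}
    (w : Fin m → MvPolynomial σ R)
    (hw : ∀ j α, coeff α (w j) ∈ IsLocalRing.maximalIdeal R) :
    ∃ (a : R) (f : Fin m → MvPolynomial σ R), a ∈ IsLocalRing.maximalIdeal R ∧
      (∀ j, w j = C a * f j) ∧ (∀ j, (f j).totalDegree ≤ (w j).totalDegree) ∧
      (a = 0 → ∀ j, f j = 0) := by
  classical
  let S : Set R := ⋃ j : Fin m, (fun α => coeff α (w j)) '' ((w j).support : Set (σ →₀ ℕ))
  have hSfin : S.Finite := Set.finite_iUnion (fun j => (Finset.finite_toSet _).image _)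
  have hfg : (Ideal.span S).FG := ⟨hSfin.toFinset, by simp⟩
  have hprinc : (Ideal.span S).IsPrincipal := IsBezout.isPrincipal_of_FG _ hfg
  obtain ⟨a, ha⟩ := hprinc.principal
  have haS : a ∈ Ideal.span S := by rw [ha]; exact Ideal.mem_span_singleton_self a
  have ham : a ∈ IsLocalRing.maximalIdeal R := by
    refine (Ideal.span_le.2 ?_) haS
    intro c hc
    simp only [S, Set.mem_iUnion, Set.mem_image] at hc
    obtain ⟨j, α, -, rfl⟩ := hc
    exact hw j α
  have hdvd : ∀ j α, a ∣ coeff α (w j) := by
    intro j α
    by_cases hα : α ∈ (w j).support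
    · have : coeff α (w j) ∈ Ideal.span S := Ideal.subset_span (by
        simp only [S, Set.mem_iUnion, Set.mem_image]
        exact ⟨j, α, hα, rfl⟩)
      rw [ha] at this
      exact Ideal.mem_span_singleton.1 this
    · rw [notMem_support_iff.1 hα]; exact dvd_zero a
  by_cases ha0 : a = 0
  · refine ⟨0, fun _ => 0, by simp, fun j => ?_, fun j => by simp, fun _ _ => rfl⟩
    ext α
    have := hdvd j α
    rw [ha0, zero_dvd_iff] at this
    simp [this]
  · have hC : ∀ j, C a ∣ w j := fun j => (C_dvd_iff_dvd_coeff a (w j)).2 (hdvd j)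
    choose f hf using hC
    refine ⟨a, f, ham, hf, fun j => ?_, fun h => absurd h ha0⟩
    refine totalDegree_le_of_support_subset (fun α hα => ?_)
    rw [mem_support_iff] at hα ⊢
    rw [hf j, coeff_C_mul]
    exact mul_ne_zero ha0 hα

end Aux

section Saturated

variable {R : Type*} [CommRing R] [IsDomain R] [ValuationRing R]

/-- over a valuation ring, a saturated submodule of a finite module is a direct summand, hence
finitely generated. -/
lemma fg_of_saturated_of_finite {M : Type*} [AddCommGroup M] [Module R M] [Module.Finite R M]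
    (L : Submodule R M) (hsat : ∀ (r : R) (x : M), r ≠ 0 → r • x ∈ L → x ∈ L) : L.FG := by
  have hflat : Module.Flat R (M ⧸ L) := by
    rw [Module.Flat.flat_iff_torsion_eq_bot_of_isBezout, eq_bot_iff]
    intro x hx
    rw [Submodule.mem_torsion_iff] at hx
    obtain ⟨a, ha⟩ := hx
    obtain ⟨y, rfl⟩ := L.mkQ_surjective x
    rw [Submodule.mem_bot]
    change L.mkQ y = 0
    rw [Submodule.mkQ_apply, Submodule.Quotient.mk_eq_zero]
    refine hsat (a : R) y (nonZeroDivisors.ne_zero a.2) ?_
    rw [← Submodule.Quotient.mk_eq_zero, Submodule.Quotient.mk_smul]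
    exact ha
  haveI : Module.Free R (M ⧸ L) := Module.free_of_flat_of_isLocalRing
  obtain ⟨s, hs⟩ := Module.projective_lifting_property L.mkQ LinearMap.id L.mkQ_surjective
  have hL : L = LinearMap.range (LinearMap.id - s ∘ₗ L.mkQ) := by
    apply le_antisymm
    · intro x hx
      refine ⟨x, ?_⟩
      have : L.mkQ x = 0 := by rwa [Submodule.mkQ_apply, Submodule.Quotient.mk_eq_zero]
      simp [this]
    · rintro _ ⟨x, rfl⟩
      rw [← Submodule.Quotient.mk_eq_zero, ← Submodule.mkQ_apply, LinearMap.sub_apply, map_sub]
      have := LinearMap.congr_fun hs (L.mkQ x)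
      simp only [LinearMap.coe_comp, Function.comp_apply, LinearMap.id_coe, id_eq] at this
      simp only [LinearMap.id_coe, id_eq, LinearMap.coe_comp, Function.comp_apply]
      rw [this, sub_self]
  rw [hL, LinearMap.range_eq_map]
  exact (Module.Finite.fg_top).map _

end Saturated

section Main

variable {R : Type*} [CommRing R] [IsDomain R] [ValuationRing R]

/-- variant of `fg_of_saturated_of_finite` inside an ambient module. -/
lemma fg_of_saturated_of_le {M : Type*} [AddCommGroup M] [Module R M] (F L : Submodule R M)
    (hF : F.FG) (hLF : L ≤ F)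
    (hsat : ∀ (r : R) (x : M), r ≠ 0 → x ∈ F → r • x ∈ L → x ∈ L) : L.FG := by
  haveI : Module.Finite R F := Module.Finite.iff_fg.2 hF
  have h1 : (L.comap F.subtype).FG := by
    refine fg_of_saturated_of_finite _ (fun r x hr hx => ?_)
    exact hsat r x hr x.2 hx
  have h2 : L = (L.comap F.subtype).map F.subtype := by
    rw [Submodule.map_comap_eq, Submodule.range_subtype, inf_eq_right.2 hLF]
  rw [h2]
  exact h1.map _

variable {σ : Type*} [Finite σ] {m : ℕ}

variable (R σ m) in
/-- the degree filtration on `P^m`. -/
noncomputable def Fd (d : ℕ) : Submodule R (Fin m → MvPolynomial σ R) :=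
  Submodule.pi Set.univ (fun _ => restrictTotalDegree σ R d)

lemma mem_Fd {w : Fin m → MvPolynomial σ R} {d : ℕ} :
    w ∈ Fd R σ m d ↔ ∀ j, (w j).totalDegree ≤ d := by
  simp [Fd, Submodule.mem_pi, mem_restrictTotalDegree]

lemma Fd_fg (d : ℕ) : (Fd R σ m d).FG :=
  Submodule.fg_pi (fun _ => Module.Finite.iff_fg.1 inferInstance)

/-- **Nagata's theorem** (module form): over a valuation ring `R`, an `R`-saturated submodule of
a finite free module over `R[x₁,…,xₙ]` is finitely generated. -/
theorem fg_of_saturated (N : Submodule (MvPolynomial σ R) (Fin m → MvPolynomial σ R))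
    (hsat : ∀ (r : R) (w : Fin m → MvPolynomial σ R), r ≠ 0 → r • w ∈ N → w ∈ N) : N.FG := by
  classical
  let k := IsLocalRing.ResidueField R
  let B := MvPolynomial (Option σ) k
  let π : MvPolynomial σ R →+* MvPolynomial σ k := MvPolynomial.map (IsLocalRing.residue R)
  let G : Set (Fin m → B) := {v | ∃ d, (∀ j, (v j).IsHomogeneous d) ∧
    ∃ y ∈ N, y ∈ Fd R σ m d ∧ ∀ j, π (y j) = dehom k (v j)}
  have hfg : (Submodule.span B G).FG := IsNoetherian.noetherian _
  obtain ⟨t, htG, hts⟩ := (Submodule.fg_span_iff_fg_span_finset_subset G).1 hfg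
  choose! deg hdeg gen hgenN hgenF hgenπ using (fun v (hv : v ∈ G) => hv)
  let J : Submodule (MvPolynomial σ R) (Fin m → MvPolynomial σ R) := Submodule.span _ (gen '' ↑t)
  have hJN : J ≤ N := by
    refine Submodule.span_le.2 ?_
    rintro _ ⟨v, hv, rfl⟩
    exact hgenN v (htG hv)
  suffices h : ∀ d, N.restrictScalars R ⊓ Fd R σ m d ≤ J.restrictScalars R by
    refine ⟨t.image gen, ?_⟩
    rw [Finset.coe_image]
    refine le_antisymm hJN (fun y hy => ?_)
    refine h (Finset.univ.sup fun j => (y j).totalDegree) ⟨hy, ?_⟩
    rw [SetLike.mem_coe, mem_Fd]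
    exact fun j => Finset.le_sup (f := fun j => (y j).totalDegree) (Finset.mem_univ j)
  intro d
  set Nd := N.restrictScalars R ⊓ Fd R σ m d with hNd
  have hNdfg : Nd.FG := by
    refine fg_of_saturated_of_le (Fd R σ m d) Nd (Fd_fg d) inf_le_right ?_
    intro r x hr hxF hx
    exact ⟨hsat r x hr hx.1, hxF⟩
  refine Submodule.le_of_le_smul_of_le_jacobson_bot (I := IsLocalRing.maximalIdeal R) hNdfg
    (IsLocalRing.maximalIdeal_le_jacobson ⊥) ?_
  intro y hy
  obtain ⟨hyN, hyF⟩ := hy
  rw [SetLike.mem_coe, mem_Fd] at hyF
  -- homogenize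
  have hπdeg : ∀ j, (π (y j)).totalDegree ≤ d := fun j => by
    have h1 : (map (IsLocalRing.residue R) (y j)).support ⊆ (y j).support :=
      support_map_subset _ _
    exact (Finset.sup_mono h1).trans (hyF j)
  have hex : ∀ j, ∃ b : B, b.IsHomogeneous d ∧ dehom k b = π (y j) := fun j =>
    exists_homog k (π (y j)) d (hπdeg j)
  choose v hvhom hvπ using hex
  have hvG : v ∈ G := ⟨d, hvhom, y, hyN, mem_Fd.2 hyF, fun j => (hvπ j).symm⟩
  have hvspan : v ∈ Submodule.span B (t : Set (Fin m → B)) := by
    rw [← hts]; exact Submodule.subset_span hvG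
  obtain ⟨c, -, hc⟩ := Submodule.mem_span_finset.1 hvspan
  -- the coefficients, cut down to the right degree and dehomogenized
  let q : (Fin m → B) → MvPolynomial σ k := fun u =>
    if deg u ≤ d then dehom k (homogeneousComponent (d - deg u) (c u)) else 0
  have hqdeg : ∀ u, (q u).totalDegree ≤ d - deg u := by
    intro u
    simp only [q]
    split_ifs
    · exact totalDegree_dehom_le k (homogeneousComponent_isHomogeneous _ _)
    · simp
  have hπy : ∀ j, π (y j) = ∑ u ∈ t, q u * π (gen u j) := by
    intro j
    have h1 : v j = ∑ u ∈ t, c u * u j := by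
      have := congr_fun hc j
      simpa [Finset.sum_apply, Pi.smul_apply, smul_eq_mul] using this.symm
    have h2 : v j = ∑ u ∈ t,
        (if deg u ≤ d then homogeneousComponent (d - deg u) (c u) * u j else 0) := by
      conv_lhs => rw [← homogeneousComponent_eq_self (hvhom j), h1, map_sum]
      refine Finset.sum_congr rfl (fun u hu => ?_)
      exact homogeneousComponent_mul_of_isHomogeneous _ _ (hdeg u (htG hu) j) d
    rw [← hvπ j, h2, map_sum]
    refine Finset.sum_congr rfl (fun u hu => ?_)
    simp only [q]
    split_ifs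
    · rw [map_mul, hgenπ u (htG hu) j]
    · simp
  have hlift : ∀ u, ∃ p : MvPolynomial σ R, π p = q u ∧ p.totalDegree ≤ (q u).totalDegree :=
    fun u => exists_lift (IsLocalRing.residue R) IsLocalRing.residue_surjective (q u)
  choose p0 hp0π hp0deg using hlift
  let p : (Fin m → B) → MvPolynomial σ R := fun u => if deg u ≤ d then p0 u else 0
  have hpπ : ∀ u, π (p u) = q u := by
    intro u
    simp only [p]
    split_ifs with h
    · exact hp0π u
    · simp [q, h]
  have hpF : ∀ u ∈ t, p u • gen u ∈ Fd R σ m d := by
    intro u hu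
    rw [mem_Fd]
    intro j
    simp only [p]
    split_ifs with h
    · rw [Pi.smul_apply, smul_eq_mul]
      refine (totalDegree_mul _ _).trans ?_
      have h1 := (hp0deg u).trans (hqdeg u)
      have h2 := mem_Fd.1 (hgenF u (htG hu)) j
      omega
    · simp
  set z : Fin m → MvPolynomial σ R := y - ∑ u ∈ t, p u • gen u with hz
  have hzN : z ∈ N :=
    N.sub_mem hyN (N.sum_mem fun u hu => N.smul_mem _ (hgenN u (htG hu)))
  have hzF : z ∈ Fd R σ m d :=
    (Fd R σ m d).sub_mem (mem_Fd.2 hyF) ((Fd R σ m d).sum_mem hpF)
  have hzπ : ∀ j, π (z j) = 0 := by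
    intro j
    simp only [hz, Pi.sub_apply, Finset.sum_apply, Pi.smul_apply, smul_eq_mul, map_sub, map_sum,
      map_mul, hpπ]
    rw [hπy j, sub_self]
  have hzcoeff : ∀ j α, coeff α (z j) ∈ IsLocalRing.maximalIdeal R := by
    intro j α
    rw [← IsLocalRing.residue_eq_zero_iff, ← coeff_map, show map (IsLocalRing.residue R) (z j) = 0
      from hzπ j, coeff_zero]
  obtain ⟨a, f, ha, hzf, hfdeg, ha0⟩ := exists_eq_C_mul z hzcoeff
  have hzaf : z = a • f := by
    funext j
    rw [Pi.smul_apply, smul_eq_C_mul, hzf j]
  have hfN : f ∈ N := by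
    by_cases h0 : a = 0
    · have : f = 0 := funext (ha0 h0)
      rw [this]; exact N.zero_mem
    · exact hsat a f h0 (hzaf ▸ hzN)
  have hfNd : f ∈ Nd :=
    ⟨hfN, mem_Fd.2 fun j => (hfdeg j).trans (mem_Fd.1 hzF j)⟩
  refine Submodule.mem_sup.2 ⟨∑ u ∈ t, p u • gen u, ?_, z, ?_, by rw [hz]; abel⟩
  · change _ ∈ J
    exact J.sum_mem fun u hu => J.smul_mem _ (Submodule.subset_span ⟨u, hu, rfl⟩)
  · rw [hzaf]
    exact Submodule.smul_mem_smul ha hfNd

end Main

section Corollaries

open TensorProduct

/-- a module over a quotient ring which is finitely presented over the big ring is finitely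
presented over the quotient. -/
lemma finitePresentation_of_surjective {A C M : Type*} [CommRing A] [CommRing C] [Algebra A C]
    (hAC : Function.Surjective (algebraMap A C)) [AddCommGroup M] [Module A M] [Module C M]
    [IsScalarTower A C M] [Module.FinitePresentation A M] : Module.FinitePresentation C M := by
  let φ : C ⊗[A] M →ₗ[C] M := LinearMap.liftBaseChange C (LinearMap.id (R := A) (M := M))
  have hone : ∀ z : C ⊗[A] M, ∃ x : M, z = (1 : C) ⊗ₜ[A] x := by
    intro z
    induction z using TensorProduct.induction_on with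
    | zero => exact ⟨0, by simp⟩
    | tmul c x =>
      obtain ⟨a, rfl⟩ := hAC c
      exact ⟨a • x, by rw [TensorProduct.tmul_smul, TensorProduct.smul_tmul',
        Algebra.algebraMap_eq_smul_one]⟩
    | add z w hz hw =>
      obtain ⟨x, rfl⟩ := hz
      obtain ⟨y, rfl⟩ := hw
      exact ⟨x + y, by rw [TensorProduct.tmul_add]⟩
  have hφ : ∀ x : M, φ ((1 : C) ⊗ₜ[A] x) = x := by
    intro x; simp [φ]
  have hbij : Function.Bijective φ := by
    refine ⟨fun z w h => ?_, fun x => ⟨1 ⊗ₜ x, hφ x⟩⟩
    obtain ⟨x, rfl⟩ := hone z
    obtain ⟨y, rfl⟩ := hone w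
    rw [hφ, hφ] at h
    rw [h]
  exact Module.FinitePresentation.of_equiv (LinearEquiv.ofBijective φ hbij)

variable {R : Type*} [CommRing R] [IsDomain R] [ValuationRing R]

/-- **Nagata**: a finitely generated module over `R[x₁,…,xₙ]`, `R` a valuation ring, which is
`R`-torsion-free is finitely presented. -/
theorem finitePresentation_of_torsionFree {σ : Type*} [Finite σ] (M : Type*) [AddCommGroup M]
    [Module (MvPolynomial σ R) M] [Module R M] [IsScalarTower R (MvPolynomial σ R) M]
    [Module.Finite (MvPolynomial σ R) M]
    (htf : ∀ (r : R) (x : M), r ≠ 0 → r • x = 0 → x = 0) :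
    Module.FinitePresentation (MvPolynomial σ R) M := by
  obtain ⟨n, f, hf⟩ := Module.Finite.exists_fin' (MvPolynomial σ R) M
  refine Module.finitePresentation_of_free_of_surjective f hf ?_
  refine fg_of_saturated _ (fun r w hr hw => ?_)
  rw [LinearMap.mem_ker] at hw ⊢
  refine htf r _ hr ?_
  rw [← hw, ← algebraMap_smul (MvPolynomial σ R) r w, map_smul, algebraMap_smul]

/-- **Nagata / Raynaud–Gruson over a valuation ring**: a finite module over a finite type
algebra over a valuation ring which is flat over the valuation ring is finitely presented. -/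
theorem finitePresentation_of_flat_of_finiteType (C : Type*) [CommRing C] [Algebra R C]
    [Algebra.FiniteType R C] (M : Type*) [AddCommGroup M] [Module C M] [Module R M]
    [IsScalarTower R C M] [Module.Finite C M]
    (htf : ∀ (r : R) (x : M), r ≠ 0 → r • x = 0 → x = 0) :
    Module.FinitePresentation C M := by
  obtain ⟨n, f, hf⟩ := Algebra.FiniteType.iff_quotient_mvPolynomial''.1
    (inferInstance : Algebra.FiniteType R C)
  letI : Algebra (MvPolynomial (Fin n) R) C := f.toRingHom.toAlgebra
  letI : Module (MvPolynomial (Fin n) R) M := Module.compHom M f.toRingHom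
  haveI : IsScalarTower (MvPolynomial (Fin n) R) C M := ⟨fun p c x => by
    change (f p * c) • x = f p • (c • x)
    rw [mul_smul]⟩
  haveI : IsScalarTower R (MvPolynomial (Fin n) R) M := ⟨fun r p x => by
    change f (r • p) • x = r • (f p • x)
    rw [map_smul, smul_assoc]⟩
  haveI : Module.Finite (MvPolynomial (Fin n) R) C :=
    Module.Finite.of_surjective (Algebra.linearMap (MvPolynomial (Fin n) R) C) hf
  haveI : Module.Finite (MvPolynomial (Fin n) R) M := Module.Finite.trans C M
  haveI := finitePresentation_of_torsionFree (σ := Fin n) M htf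
  exact finitePresentation_of_surjective (A := MvPolynomial (Fin n) R) hf

/-- flat modules over a domain are torsion-free (in the elementary form used above). -/
lemma torsionFree_of_flat {M : Type*} [AddCommGroup M] [Module R M] [Module.Flat R M]
    (r : R) (x : M) (hr : r ≠ 0) (h : r • x = 0) : x = 0 := by
  have := Module.Flat.isSMulRegular_of_nonZeroDivisors (M := M)
    (mem_nonZeroDivisors_of_ne_zero hr)
  exact this (by simpa using h)

end Corollaries

section EssFiniteType

variable {R : Type*} [CommRing R] [IsDomain R] [ValuationRing R]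

/-- the essentially-of-finite-type version: a finite module over an algebra essentially of finite
type over a valuation ring `R` which is `R`-torsion-free is finitely presented. -/
theorem finitePresentation_of_essFiniteType (B : Type*) [CommRing B] [Algebra R B]
    [Algebra.EssFiniteType R B] (M : Type*) [AddCommGroup M] [Module B M] [Module R M]
    [IsScalarTower R B M] [Module.Finite B M]
    (htf : ∀ (r : R) (x : M), r ≠ 0 → r • x = 0 → x = 0) :
    Module.FinitePresentation B M := by
  classical
  let C := Algebra.EssFiniteType.subalgebra R B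
  let W := Algebra.EssFiniteType.submonoid R B
  obtain ⟨s, hs⟩ := (Module.Finite.fg_top : (⊤ : Submodule B M).FG)
  let M' : Submodule C M := Submodule.span C (s : Set M)
  haveI : Module.Finite C M' := Module.Finite.span_of_finite C s.finite_toSet
  have htf' : ∀ (r : R) (x : M'), r ≠ 0 → r • x = 0 → x = 0 := fun r x hr h =>
    Subtype.ext (htf r x.1 hr (congrArg Subtype.val h))
  haveI : Module.FinitePresentation C M' := finitePresentation_of_flat_of_finiteType C M' htf'
  haveI : IsLocalizedModule W M'.subtype := by
    refine ⟨fun w => ?_, fun y => ?_, fun {x₁ x₂} h => ⟨1, by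
      have h12 : x₁ = x₂ := Subtype.ext (by simpa using h)
      rw [h12]⟩⟩
    · -- units
      have hu : IsUnit (algebraMap C B w) := w.2
      rw [Module.End.isUnit_iff]
      obtain ⟨u, hu⟩ := hu
      refine ⟨fun x y h => ?_, fun y => ⟨(↑u⁻¹ : B) • y, ?_⟩⟩
      · have h' : (algebraMap C B w) • x = (algebraMap C B w) • y := h
        rw [← hu] at h'
        have := congrArg (fun z => (↑u⁻¹ : B) • z) h'
        simpa [smul_smul] using this
      · change (algebraMap C B w) • ((↑u⁻¹ : B) • y) = y
        rw [← hu, smul_smul, Units.mul_inv, one_smul]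
    · -- surjectivity up to denominators
      have hy : y ∈ Submodule.span B (s : Set M) := by rw [hs]; trivial
      obtain ⟨b, -, hb⟩ := Submodule.mem_span_finset.1 hy
      obtain ⟨w, hw⟩ := IsLocalization.exist_integer_multiples W s b
      choose! c hc using hw
      refine ⟨⟨⟨∑ x ∈ s, c x • x, ?_⟩, w⟩, ?_⟩
      · exact Submodule.sum_mem _ fun x hx => Submodule.smul_mem _ _ (Submodule.subset_span hx)
      · change (w : C) • y = ∑ x ∈ s, c x • x
        rw [← hb, Finset.smul_sum]
        refine Finset.sum_congr rfl (fun x hx => ?_)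
        have h1 := hc x hx
        change (w : C) • (b x • x) = (algebraMap C B (c x)) • x
        rw [h1, smul_assoc]
  exact _root_.FinitePresentation.of_isBaseChange M'.subtype
    (IsLocalizedModule.isBaseChange W B M'.subtype)

end EssFiniteType

end Groth.Agent.Lead.NagataVal
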