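import Mathlib

/-!
# Descent of properties of base changes to a finite stage of a (possibly non-functorial) colimit

`Sys A₀ G A g` : abstract "colimit-like" family of `A₀`-algebras `G i` with maps `g i : G i → A`,
jointly surjective, directed via *compatible* maps, kernels dying along compatible maps.
Main tools: `Sys.t1` (elements of `N ⊗ A` lift), `Sys.t2` (elements of `N ⊗ G i` dying in `N ⊗ A`
die along a compatible map), `Sys.common` (common index for finitely many stable properties).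
-/

set_option autoImplicit false
universe u
open TensorProduct

namespace Groth.Agent.Lead.ColimDescent

section T
variable {R : Type u} [CommRing R] (N : Type u) [AddCommGroup N] [Module R N]
  {X Y Z : Type u} [CommRing X] [CommRing Y] [CommRing Z] [Algebra R X] [Algebra R Y] [Algebra R Z]

/-- `N ⊗ φ`. -/
noncomputable def T (φ : X →ₐ[R] Y) : N ⊗[R] X →ₗ[R] N ⊗[R] Y := LinearMap.lTensor N φ.toLinearMap

lemma T_tmul (φ : X →ₐ[R] Y) (n : N) (x : X) : T N φ (n ⊗ₜ x) = n ⊗ₜ φ x := rfl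

lemma T_comp (ψ : Y →ₐ[R] Z) (φ : X →ₐ[R] Y) (z : N ⊗[R] X) :
    T N (ψ.comp φ) z = T N ψ (T N φ z) := by
  unfold T
  rw [AlgHom.comp_toLinearMap, LinearMap.lTensor_comp_apply]

lemma T_id (z : N ⊗[R] X) : T N (AlgHom.id R X) z = z := by
  unfold T
  rw [AlgHom.toLinearMap_id, LinearMap.lTensor_id, LinearMap.id_apply]

lemma T_rTensor {N N' : Type u} [AddCommGroup N] [Module R N] [AddCommGroup N'] [Module R N']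
    (p : N →ₗ[R] N') (φ : X →ₐ[R] Y) (z : N ⊗[R] X) :
    T N' φ (LinearMap.rTensor X p z) = LinearMap.rTensor Y p (T N φ z) := by
  unfold T
  rw [← LinearMap.comp_apply, ← LinearMap.comp_apply, LinearMap.lTensor_comp_rTensor,
    LinearMap.rTensor_comp_lTensor]

end T

section Core

variable {ι : Type u} (A₀ : Type u) [CommRing A₀] (G : ι → Type u) [∀ i, CommRing (G i)]
  [∀ i, Algebra A₀ (G i)] (A : Type u) [CommRing A] [Algebra A₀ A] (g : ∀ i, G i →ₐ[A₀] A)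

/-- Abstract colimit-like system (no functoriality of transition maps required). -/
structure Sys : Prop where
  ne : Nonempty ι
  surj : ∀ a : A, ∃ i, ∃ x : G i, g i x = a
  dir : ∀ i i', ∃ j, ∃ φ : G i →ₐ[A₀] G j, ∃ φ' : G i' →ₐ[A₀] G j,
    (g j).comp φ = g i ∧ (g j).comp φ' = g i'
  ker : ∀ i (x : G i), g i x = 0 → ∃ j, ∃ φ : G i →ₐ[A₀] G j, (g j).comp φ = g i ∧ φ x = 0

variable {A₀ G A g}

theorem Sys.of_directed [Preorder ι] [IsDirected ι (· ≤ ·)] [Nonempty ι]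
    (f : ∀ i j, i ≤ j → (G i →ₐ[A₀] G j))
    (hg : ∀ i j (h : i ≤ j), (g j).comp (f i j h) = g i)
    (hsurj : ∀ a : A, ∃ i, ∃ x : G i, g i x = a)
    (hker : ∀ i (x : G i), g i x = 0 → ∃ j, ∃ h : i ≤ j, f i j h x = 0) : Sys A₀ G A g where
  ne := inferInstance
  surj := hsurj
  dir i i' := by
    obtain ⟨j, h1, h2⟩ := exists_ge_ge i i'
    exact ⟨j, f i j h1, f i' j h2, hg i j h1, hg i' j h2⟩
  ker i x hx := by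
    obtain ⟨j, h, hx'⟩ := hker i x hx
    exact ⟨j, f i j h, hg i j h, hx'⟩

lemma T_compat (N : Type u) [AddCommGroup N] [Module A₀ N] {i j : ι} (φ : G i →ₐ[A₀] G j)
    (hφ : (g j).comp φ = g i) (z : N ⊗[A₀] G i) : T N (g j) (T N φ z) = T N (g i) z := by
  rw [← T_comp, hφ]

/-- A property of indices is *stable* if it propagates along compatible maps. -/
def Stable (g : ∀ i, G i →ₐ[A₀] A) (P : ι → Prop) : Prop :=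
  ∀ i j (φ : G i →ₐ[A₀] G j), (g j).comp φ = g i → P i → P j

theorem Sys.common (H : Sys A₀ G A g) {α : Type*} (s : Finset α) (P : α → ι → Prop)
    (hP : ∀ a ∈ s, Stable g (P a)) (hex : ∀ a ∈ s, ∃ i, P a i) : ∃ i, ∀ a ∈ s, P a i := by
  classical
  induction s using Finset.induction_on with
  | empty => obtain ⟨i⟩ := H.ne; exact ⟨i, by simp⟩
  | insert a s ha ih =>
    obtain ⟨i₁, h₁⟩ := ih (fun b hb => hP b (Finset.mem_insert_of_mem hb))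
      (fun b hb => hex b (Finset.mem_insert_of_mem hb))
    obtain ⟨i₂, h₂⟩ := hex a (Finset.mem_insert_self a s)
    obtain ⟨j, φ₁, φ₂, c₁, c₂⟩ := H.dir i₁ i₂
    refine ⟨j, fun b hb => ?_⟩
    rcases Finset.mem_insert.1 hb with rfl | hb
    · exact hP _ (Finset.mem_insert_self _ _) i₂ j φ₂ c₂ h₂
    · exact hP b (Finset.mem_insert_of_mem hb) i₁ j φ₁ c₁ (h₁ b hb)

/-- Killing lemma. -/
theorem Sys.kill (H : Sys A₀ G A g) (N : Type u) [AddCommGroup N] [Module A₀ N] (j : ι)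
    (t : N ⊗[A₀] (LinearMap.ker (g j).toLinearMap)) :
    ∀ (j₁ : ι) (ψ₁ : G j →ₐ[A₀] G j₁), (g j₁).comp ψ₁ = g j →
      ∃ (j₂ : ι) (ψ₂ : G j₁ →ₐ[A₀] G j₂), (g j₂).comp ψ₂ = g j₁ ∧
        T N ψ₂ (T N ψ₁
          (LinearMap.lTensor N (LinearMap.ker (g j).toLinearMap).subtype t)) = 0 := by
  induction t using TensorProduct.induction_on with
  | zero =>
    intro j₁ ψ₁ _
    exact ⟨j₁, AlgHom.id A₀ _, AlgHom.comp_id _, by simp⟩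
  | tmul n x =>
    intro j₁ ψ₁ h₁
    have hx : g j₁ (ψ₁ x.1) = 0 := by
      have h2 := DFunLike.congr_fun h₁ x.1
      rw [AlgHom.comp_apply] at h2
      rw [h2]
      exact LinearMap.mem_ker.1 x.2
    obtain ⟨j₂, ψ₂, hc, hk⟩ := H.ker j₁ (ψ₁ x.1) hx
    refine ⟨j₂, ψ₂, hc, ?_⟩
    rw [LinearMap.lTensor_tmul, T_tmul, T_tmul, Submodule.subtype_apply, hk, tmul_zero]
  | add t₁ t₂ ih₁ ih₂ =>
    intro j₁ ψ₁ h₁
    obtain ⟨j₂, ψ₂, hc₂, h₂⟩ := ih₁ j₁ ψ₁ h₁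
    obtain ⟨j₃, ψ₃, hc₃, h₃⟩ := ih₂ j₂ (ψ₂.comp ψ₁) (by rw [← AlgHom.comp_assoc, hc₂, h₁])
    refine ⟨j₃, ψ₃.comp ψ₂, by rw [← AlgHom.comp_assoc, hc₃, hc₂], ?_⟩
    rw [map_add, map_add, map_add, T_comp, T_comp, h₂, map_zero, zero_add,
      ← T_comp N ψ₂ ψ₁]
    exact h₃

theorem Sys.t2_flat (H : Sys A₀ G A g) (F : Type u) [AddCommGroup F] [Module A₀ F]
    [Module.Flat A₀ F] (j : ι) (u : F ⊗[A₀] G j) (hu : T F (g j) u = 0) :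
    ∃ (j' : ι) (ψ : G j →ₐ[A₀] G j'), (g j').comp ψ = g j ∧ T F ψ u = 0 := by
  have hex : Function.Exact (LinearMap.ker (g j).toLinearMap).subtype (g j).toLinearMap :=
    LinearMap.exact_subtype_ker_map _
  have hex' := Module.Flat.lTensor_exact F hex
  obtain ⟨t, rfl⟩ := (hex' u).1 hu
  obtain ⟨j', ψ, hc, hk⟩ := H.kill F j t j (AlgHom.id A₀ _) (AlgHom.comp_id _)
  exact ⟨j', ψ, hc, by rwa [T_id] at hk⟩

theorem Sys.t1 (H : Sys A₀ G A g) (N : Type u) [AddCommGroup N] [Module A₀ N] (z : N ⊗[A₀] A) :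
    ∃ (i : ι) (z' : N ⊗[A₀] G i), T N (g i) z' = z := by
  induction z using TensorProduct.induction_on with
  | zero => obtain ⟨i⟩ := H.ne; exact ⟨i, 0, map_zero _⟩
  | tmul n a =>
    obtain ⟨i, x, hx⟩ := H.surj a
    exact ⟨i, n ⊗ₜ x, by rw [T_tmul, hx]⟩
  | add z₁ z₂ ih₁ ih₂ =>
    obtain ⟨i₁, w₁, h₁⟩ := ih₁
    obtain ⟨i₂, w₂, h₂⟩ := ih₂
    obtain ⟨j, φ₁, φ₂, c₁, c₂⟩ := H.dir i₁ i₂
    exact ⟨j, T N φ₁ w₁ + T N φ₂ w₂, by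
      rw [map_add, T_compat N φ₁ c₁, T_compat N φ₂ c₂, h₁, h₂]⟩

theorem Sys.t2_of_pres (H : Sys A₀ G A g) (N F : Type u) [AddCommGroup N] [Module A₀ N]
    [AddCommGroup F] [Module A₀ F] [Module.Flat A₀ F] (π : F →ₗ[A₀] N)
    (hπ : Function.Surjective π) (i : ι) (z : N ⊗[A₀] G i) (hz : T N (g i) z = 0) :
    ∃ (j : ι) (φ : G i →ₐ[A₀] G j), (g j).comp φ = g i ∧ T N φ z = 0 := by
  have hex : Function.Exact (LinearMap.ker π).subtype π := LinearMap.exact_subtype_ker_map π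
  have hexX : ∀ (X : Type u) [CommRing X] [Algebra A₀ X],
      Function.Exact (LinearMap.rTensor X (LinearMap.ker π).subtype) (LinearMap.rTensor X π) :=
    fun X _ _ => rTensor_exact X hex hπ
  obtain ⟨z', rfl⟩ := LinearMap.rTensor_surjective (G i) hπ z
  have hv : LinearMap.rTensor A π (T F (g i) z') = 0 := by rw [← T_rTensor, hz]
  obtain ⟨w, hw⟩ := (hexX A (T F (g i) z')).1 hv
  obtain ⟨i', w', rfl⟩ := H.t1 (LinearMap.ker π) w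
  obtain ⟨j, φ, φ', c, c'⟩ := H.dir i i'
  have hu : T F (g j) (T F φ z' -
      LinearMap.rTensor (G j) (LinearMap.ker π).subtype (T (LinearMap.ker π) φ' w')) = 0 := by
    rw [map_sub, T_compat F φ c, T_rTensor, T_compat _ φ' c', hw, sub_self]
  obtain ⟨j', ψ, cψ, hk⟩ := H.t2_flat F j _ hu
  refine ⟨j', ψ.comp φ, by rw [← AlgHom.comp_assoc, cψ, c], ?_⟩
  rw [map_sub, sub_eq_zero] at hk
  rw [T_comp, T_rTensor, T_rTensor, hk, T_rTensor]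
  exact (hexX (G j')).apply_apply_eq_zero _

/-- Elements of `N ⊗ G i` dying in `N ⊗ A` die along a compatible map. -/
theorem Sys.t2 (H : Sys A₀ G A g) (N : Type u) [AddCommGroup N] [Module A₀ N] (i : ι)
    (z : N ⊗[A₀] G i) (hz : T N (g i) z = 0) :
    ∃ (j : ι) (φ : G i →ₐ[A₀] G j), (g j).comp φ = g i ∧ T N φ z = 0 :=
  H.t2_of_pres N (N →₀ A₀) (Finsupp.linearCombination A₀ id)
    (Finsupp.linearCombination_id_surjective A₀ N) i z hz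

end Core

section Functors

variable {A₀ : Type u} [CommRing A₀] (B₀ : Type u) [CommRing B₀] [Algebra A₀ B₀]
  {X Y Z : Type u} [CommRing X] [CommRing Y] [CommRing Z] [Algebra A₀ X] [Algebra A₀ Y]
  [Algebra A₀ Z]

/-- `B₀ ⊗ φ` as a `B₀`-algebra map. -/
noncomputable def Bm (φ : X →ₐ[A₀] Y) : B₀ ⊗[A₀] X →ₐ[B₀] B₀ ⊗[A₀] Y :=
  Algebra.TensorProduct.map (AlgHom.id B₀ B₀) φ

lemma Bm_tmul (φ : X →ₐ[A₀] Y) (b : B₀) (x : X) : Bm B₀ φ (b ⊗ₜ x) = b ⊗ₜ φ x := by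
  simp [Bm]

lemma Bm_eq_T (φ : X →ₐ[A₀] Y) (z : B₀ ⊗[A₀] X) : Bm B₀ φ z = T B₀ φ z := by
  induction z using TensorProduct.induction_on with
  | zero => simp
  | tmul b x => rw [Bm_tmul, T_tmul]
  | add z₁ z₂ h₁ h₂ => rw [map_add, map_add, h₁, h₂]

lemma Bm_comp (ψ : Y →ₐ[A₀] Z) (φ : X →ₐ[A₀] Y) (z : B₀ ⊗[A₀] X) :
    Bm B₀ (ψ.comp φ) z = Bm B₀ ψ (Bm B₀ φ z) := by
  rw [Bm_eq_T, Bm_eq_T, Bm_eq_T, T_comp]

variable (C₀ : Type u) [CommRing C₀] [Algebra A₀ C₀] [Algebra B₀ C₀] [IsScalarTower A₀ B₀ C₀]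

/-- `(B₀ ⊗ φ) ⊗ C₀`. -/
noncomputable def Cm (φ : X →ₐ[A₀] Y) :
    (B₀ ⊗[A₀] X) ⊗[B₀] C₀ →ₐ[B₀] (B₀ ⊗[A₀] Y) ⊗[B₀] C₀ :=
  Algebra.TensorProduct.map (Bm B₀ φ) (AlgHom.id B₀ C₀)

lemma Cm_tmul (φ : X →ₐ[A₀] Y) (b : B₀ ⊗[A₀] X) (c : C₀) :
    Cm B₀ C₀ φ (b ⊗ₜ c) = Bm B₀ φ b ⊗ₜ c := by
  simp [Cm]

lemma Cm_algebraMap (φ : X →ₐ[A₀] Y) (b : B₀ ⊗[A₀] X) :
    Cm B₀ C₀ φ (algebraMap (B₀ ⊗[A₀] X) ((B₀ ⊗[A₀] X) ⊗[B₀] C₀) b) =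
      algebraMap (B₀ ⊗[A₀] Y) ((B₀ ⊗[A₀] Y) ⊗[B₀] C₀) (Bm B₀ φ b) := by
  rw [Algebra.TensorProduct.algebraMap_apply, Algebra.TensorProduct.algebraMap_apply, Cm_tmul]
  simp

lemma Cm_one_tmul (φ : X →ₐ[A₀] Y) (c : C₀) :
    Cm B₀ C₀ φ ((1 : B₀ ⊗[A₀] X) ⊗ₜ[B₀] c) = (1 : B₀ ⊗[A₀] Y) ⊗ₜ[B₀] c := by
  rw [Cm_tmul, map_one]

lemma Cm_comp (ψ : Y →ₐ[A₀] Z) (φ : X →ₐ[A₀] Y) (w : (B₀ ⊗[A₀] X) ⊗[B₀] C₀) :
    Cm B₀ C₀ (ψ.comp φ) w = Cm B₀ C₀ ψ (Cm B₀ C₀ φ w) := by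
  induction w using TensorProduct.induction_on with
  | zero => simp
  | tmul b c => rw [Cm_tmul, Cm_tmul, Cm_tmul, Bm_comp]
  | add w₁ w₂ h₁ h₂ => simp only [map_add, h₁, h₂]

variable (Q : Type u) [AddCommGroup Q] [Module A₀ Q] [Module B₀ Q] [IsScalarTower A₀ B₀ Q]

/-- `(B₀ ⊗[A₀] X) ⊗[B₀] Q ≃ Q ⊗[A₀] X`. -/
noncomputable def θ (X : Type u) [CommRing X] [Algebra A₀ X] :
    (B₀ ⊗[A₀] X) ⊗[B₀] Q ≃ₗ[B₀] Q ⊗[A₀] X :=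
  (TensorProduct.comm B₀ (B₀ ⊗[A₀] X) Q).trans
    (TensorProduct.AlgebraTensorModule.cancelBaseChange A₀ B₀ B₀ Q X)

lemma θ_tmul (b : B₀) (x : X) (q : Q) :
    θ B₀ Q X ((b ⊗ₜ[A₀] x) ⊗ₜ[B₀] q) = (b • q) ⊗ₜ[A₀] x := by
  simp [θ]

lemma θ_nat (φ : X →ₐ[A₀] Y) (w : (B₀ ⊗[A₀] X) ⊗[B₀] C₀) :
    θ B₀ C₀ Y (Cm B₀ C₀ φ w) = T C₀ φ (θ B₀ C₀ X w) := by
  induction w using TensorProduct.induction_on with
  | zero => simp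
  | tmul u c =>
    induction u using TensorProduct.induction_on with
    | zero => simp
    | tmul b x => rw [Cm_tmul, Bm_tmul, θ_tmul, θ_tmul, T_tmul]
    | add u₁ u₂ h₁ h₂ => simp only [add_tmul, map_add, h₁, h₂]
  | add w₁ w₂ h₁ h₂ => simp only [map_add, h₁, h₂]

/-- A subalgebra of `(B₀ ⊗ X) ⊗[B₀] C₀` over `B₀ ⊗ X` containing `1 ⊗ c` for generators `c` is `⊤`. -/
lemma eq_top_of_gens (X : Type u) [CommRing X] [Algebra A₀ X]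
    (U : Subalgebra (B₀ ⊗[A₀] X) ((B₀ ⊗[A₀] X) ⊗[B₀] C₀))
    (s : Set C₀) (hs : Algebra.adjoin B₀ s = ⊤)
    (h : ∀ c ∈ s, ((1 : B₀ ⊗[A₀] X) ⊗ₜ[B₀] c) ∈ U) : U = ⊤ := by
  have h1 : ∀ c : C₀, ((1 : B₀ ⊗[A₀] X) ⊗ₜ[B₀] c) ∈ U := by
    have hle : Algebra.adjoin B₀ s ≤
        (U.restrictScalars B₀).comap Algebra.TensorProduct.includeRight :=
      Algebra.adjoin_le (fun c hc => by simpa using h c hc)
    intro c
    have hc : c ∈ Algebra.adjoin B₀ s := by rw [hs]; trivial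
    simpa using hle hc
  rw [eq_top_iff]
  intro w _
  clear * - h1
  induction w using TensorProduct.induction_on with
  | zero => exact zero_mem _
  | tmul b c =>
    have : b ⊗ₜ[B₀] c = algebraMap (B₀ ⊗[A₀] X) ((B₀ ⊗[A₀] X) ⊗[B₀] C₀) b *
        ((1 : B₀ ⊗[A₀] X) ⊗ₜ[B₀] c) := by
      simp [Algebra.TensorProduct.algebraMap_apply]
    rw [this]
    exact U.mul_mem (U.algebraMap_mem b) (h1 c)
  | add w₁ w₂ h₁ h₂ => exact add_mem h₁ h₂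

end Functors

section Descent

variable {ι : Type u} {A₀ : Type u} [CommRing A₀] {G : ι → Type u} [∀ i, CommRing (G i)]
  [∀ i, Algebra A₀ (G i)] {A : Type u} [CommRing A] [Algebra A₀ A] {g : ∀ i, G i →ₐ[A₀] A}
  (B₀ : Type u) [CommRing B₀] [Algebra A₀ B₀]

lemma Bm_compat {i j : ι} (φ : G i →ₐ[A₀] G j) (hφ : (g j).comp φ = g i) (z : B₀ ⊗[A₀] G i) :
    Bm B₀ (g j) (Bm B₀ φ z) = Bm B₀ (g i) z := by
  rw [← Bm_comp, hφ]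

theorem Sys.t1B (H : Sys A₀ G A g) (b : B₀ ⊗[A₀] A) :
    ∃ (i : ι) (b' : B₀ ⊗[A₀] G i), Bm B₀ (g i) b' = b := by
  obtain ⟨i, b', h⟩ := H.t1 B₀ b
  exact ⟨i, b', by rw [Bm_eq_T, h]⟩

theorem Sys.t2B (H : Sys A₀ G A g) (i : ι) (b : B₀ ⊗[A₀] G i) (hb : Bm B₀ (g i) b = 0) :
    ∃ (j : ι) (φ : G i →ₐ[A₀] G j), (g j).comp φ = g i ∧ Bm B₀ φ b = 0 := by
  rw [Bm_eq_T] at hb
  obtain ⟨j, φ, c, hk⟩ := H.t2 B₀ i b hb
  exact ⟨j, φ, c, by rw [Bm_eq_T, hk]⟩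

theorem Sys.liftB_finset (H : Sys A₀ G A g) (s : Finset (B₀ ⊗[A₀] A)) :
    ∃ i, ∀ b ∈ s, b ∈ Set.range (Bm B₀ (g i)) := by
  refine H.common s (fun b i => b ∈ Set.range (Bm B₀ (g i))) ?_ ?_
  · rintro b _ i j φ c ⟨b', hb'⟩
    exact ⟨Bm B₀ φ b', by rw [Bm_compat B₀ φ c, hb']⟩
  · intro b _
    obtain ⟨i, b', h⟩ := H.t1B B₀ b
    exact ⟨i, b', h⟩

variable (C₀ : Type u) [CommRing C₀] [Algebra A₀ C₀] [Algebra B₀ C₀] [IsScalarTower A₀ B₀ C₀]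

lemma Cm_compat {i j : ι} (φ : G i →ₐ[A₀] G j) (hφ : (g j).comp φ = g i)
    (w : (B₀ ⊗[A₀] G i) ⊗[B₀] C₀) :
    Cm B₀ C₀ (g j) (Cm B₀ C₀ φ w) = Cm B₀ C₀ (g i) w := by
  rw [← Cm_comp, hφ]

theorem Sys.t2C (H : Sys A₀ G A g) (i : ι) (w : (B₀ ⊗[A₀] G i) ⊗[B₀] C₀)
    (hw : Cm B₀ C₀ (g i) w = 0) :
    ∃ (j : ι) (φ : G i →ₐ[A₀] G j), (g j).comp φ = g i ∧ Cm B₀ C₀ φ w = 0 := by
  have h0 : T C₀ (g i) (θ B₀ C₀ (G i) w) = 0 := by rw [← θ_nat, hw, map_zero]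
  obtain ⟨j, φ, c, hk⟩ := H.t2 C₀ i _ h0
  refine ⟨j, φ, c, ?_⟩
  rw [← θ_nat] at hk
  exact (θ B₀ C₀ (G j)).injective (by rw [hk, map_zero])

end Descent

section Results

variable {ι : Type u} (A₀ : Type u) [CommRing A₀] {G : ι → Type u} [∀ i, CommRing (G i)]
  [∀ i, Algebra A₀ (G i)] {A : Type u} [CommRing A] [Algebra A₀ A] {g : ∀ i, G i →ₐ[A₀] A}
  (B₀ : Type u) [CommRing B₀] [Algebra A₀ B₀]
  (C₀ : Type u) [CommRing C₀] [Algebra A₀ C₀] [Algebra B₀ C₀] [IsScalarTower A₀ B₀ C₀]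

/-- `1 ⊗ c` lies in the range of the structure map for all `c ∈ s`. -/
def GenRange (X : Type u) [CommRing X] [Algebra A₀ X] (s : Finset C₀) : Prop :=
  ∀ c ∈ s, ((1 : B₀ ⊗[A₀] X) ⊗ₜ[B₀] c) ∈
    Set.range (algebraMap (B₀ ⊗[A₀] X) ((B₀ ⊗[A₀] X) ⊗[B₀] C₀))

variable {A₀ B₀ C₀} in
lemma GenRange.map {X Y : Type u} [CommRing X] [Algebra A₀ X] [CommRing Y] [Algebra A₀ Y]
    {s : Finset C₀} (φ : X →ₐ[A₀] Y) (h : GenRange A₀ B₀ C₀ X s) : GenRange A₀ B₀ C₀ Y s := by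
  intro c hc
  obtain ⟨b, hb⟩ := h c hc
  exact ⟨Bm B₀ φ b, by rw [← Cm_algebraMap, hb, Cm_one_tmul]⟩

variable {A₀ B₀ C₀} in
lemma GenRange.surjective {X : Type u} [CommRing X] [Algebra A₀ X] {s : Finset C₀}
    (hs : Algebra.adjoin B₀ (s : Set C₀) = ⊤) (h : GenRange A₀ B₀ C₀ X s) :
    Function.Surjective (algebraMap (B₀ ⊗[A₀] X) ((B₀ ⊗[A₀] X) ⊗[B₀] C₀)) := by
  have htop : (⊥ : Subalgebra (B₀ ⊗[A₀] X) ((B₀ ⊗[A₀] X) ⊗[B₀] C₀)) = ⊤ :=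
    eq_top_of_gens B₀ C₀ X ⊥ s hs (fun c hc => Algebra.mem_bot.2 (h c hc))
  intro w
  have hw : w ∈ (⊥ : Subalgebra (B₀ ⊗[A₀] X) ((B₀ ⊗[A₀] X) ⊗[B₀] C₀)) := by
    rw [htop]; trivial
  exact Algebra.mem_bot.1 hw

theorem Sys.exists_genRange (H : Sys A₀ G A g) (s : Finset C₀)
    (h : Function.Surjective (algebraMap (B₀ ⊗[A₀] A) ((B₀ ⊗[A₀] A) ⊗[B₀] C₀))) :
    ∃ i, GenRange A₀ B₀ C₀ (G i) s := by
  refine H.common s (fun c i => ((1 : B₀ ⊗[A₀] G i) ⊗ₜ[B₀] c) ∈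
    Set.range (algebraMap (B₀ ⊗[A₀] G i) ((B₀ ⊗[A₀] G i) ⊗[B₀] C₀))) ?_ ?_
  · rintro c _ i j φ _ ⟨b, hb⟩
    exact ⟨Bm B₀ φ b, by rw [← Cm_algebraMap, hb, Cm_one_tmul]⟩
  · intro c _
    obtain ⟨bA, hbA⟩ := h ((1 : B₀ ⊗[A₀] A) ⊗ₜ[B₀] c)
    obtain ⟨i, b', rfl⟩ := H.t1B B₀ bA
    have hw : Cm B₀ C₀ (g i) (algebraMap (B₀ ⊗[A₀] G i) ((B₀ ⊗[A₀] G i) ⊗[B₀] C₀) b' -
        (1 : B₀ ⊗[A₀] G i) ⊗ₜ[B₀] c) = 0 := by
      rw [map_sub, Cm_algebraMap, Cm_one_tmul, hbA, sub_self]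
    obtain ⟨j, φ, _, hk⟩ := H.t2C B₀ C₀ i _ hw
    rw [map_sub, Cm_algebraMap, Cm_one_tmul, sub_eq_zero] at hk
    exact ⟨j, Bm B₀ φ b', hk⟩

/-! ### integrality -/

variable {A₀} in
lemma isIntegral_map {X Y : Type u} [CommRing X] [Algebra A₀ X] [CommRing Y] [Algebra A₀ Y]
    (φ : X →ₐ[A₀] Y) (c : C₀)
    (h : IsIntegral (B₀ ⊗[A₀] X) ((1 : B₀ ⊗[A₀] X) ⊗ₜ[B₀] c)) :
    IsIntegral (B₀ ⊗[A₀] Y) ((1 : B₀ ⊗[A₀] Y) ⊗ₜ[B₀] c) := by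
  have hcomp : (algebraMap (B₀ ⊗[A₀] Y) ((B₀ ⊗[A₀] Y) ⊗[B₀] C₀)).comp (Bm B₀ φ).toRingHom =
      (Cm B₀ C₀ φ).toRingHom.comp (algebraMap (B₀ ⊗[A₀] X) ((B₀ ⊗[A₀] X) ⊗[B₀] C₀)) := by
    refine RingHom.ext (fun b => ?_)
    change algebraMap _ _ (Bm B₀ φ b) = Cm B₀ C₀ φ (algebraMap _ _ b)
    rw [Cm_algebraMap]
  have h2 := IsIntegral.map_of_comp_eq (Bm B₀ φ).toRingHom (Cm B₀ C₀ φ).toRingHom hcomp h
  have e : (Cm B₀ C₀ φ).toRingHom ((1 : B₀ ⊗[A₀] X) ⊗ₜ[B₀] c) = (1 : B₀ ⊗[A₀] Y) ⊗ₜ[B₀] c :=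
    Cm_one_tmul B₀ C₀ φ c
  rwa [e] at h2

variable {A₀} in
lemma Cm_eval₂ {X Y : Type u} [CommRing X] [Algebra A₀ X] [CommRing Y] [Algebra A₀ Y]
    (φ : X →ₐ[A₀] Y) (q : Polynomial (B₀ ⊗[A₀] X)) (c : C₀) :
    Cm B₀ C₀ φ (Polynomial.eval₂ (algebraMap (B₀ ⊗[A₀] X) ((B₀ ⊗[A₀] X) ⊗[B₀] C₀))
      ((1 : B₀ ⊗[A₀] X) ⊗ₜ[B₀] c) q) =
      Polynomial.eval₂ (algebraMap (B₀ ⊗[A₀] Y) ((B₀ ⊗[A₀] Y) ⊗[B₀] C₀))
        ((1 : B₀ ⊗[A₀] Y) ⊗ₜ[B₀] c) (q.map (Bm B₀ φ).toRingHom) := by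
  rw [Polynomial.eval₂_map, Polynomial.eval₂_eq_sum_range, Polynomial.eval₂_eq_sum_range, map_sum]
  refine Finset.sum_congr rfl (fun k _ => ?_)
  rw [map_mul, map_pow, Cm_algebraMap, Cm_one_tmul]
  rfl

theorem Sys.exists_int (H : Sys A₀ G A g) (c : C₀)
    (hc : IsIntegral (B₀ ⊗[A₀] A) ((1 : B₀ ⊗[A₀] A) ⊗ₜ[B₀] c)) :
    ∃ i, IsIntegral (B₀ ⊗[A₀] G i) ((1 : B₀ ⊗[A₀] G i) ⊗ₜ[B₀] c) := by
  classical
  obtain ⟨p, hp, hpc⟩ := hc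
  obtain ⟨i, hi⟩ := H.liftB_finset B₀ (p.support.image p.coeff)
  have hl : p ∈ Polynomial.lifts (Bm B₀ (g i)).toRingHom := by
    rw [Polynomial.lifts_iff_coeff_lifts]
    intro n
    by_cases h0 : p.coeff n = 0
    · rw [h0]; exact ⟨0, map_zero _⟩
    · exact hi _ (Finset.mem_image_of_mem _ (Polynomial.mem_support_iff.2 h0))
  obtain ⟨q, hq, -, hqm⟩ := Polynomial.lifts_and_natDegree_eq_and_monic hl hp
  have hw : Cm B₀ C₀ (g i) (Polynomial.eval₂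
      (algebraMap (B₀ ⊗[A₀] G i) ((B₀ ⊗[A₀] G i) ⊗[B₀] C₀))
      ((1 : B₀ ⊗[A₀] G i) ⊗ₜ[B₀] c) q) = 0 := by
    rw [Cm_eval₂, hq]; exact hpc
  obtain ⟨j, φ, _, hk⟩ := H.t2C B₀ C₀ i _ hw
  rw [Cm_eval₂] at hk
  exact ⟨j, q.map (Bm B₀ φ).toRingHom, hqm.map _, hk⟩

lemma finite_of_gens_integral [Algebra.FiniteType B₀ C₀] (X : Type u) [CommRing X] [Algebra A₀ X]
    (s : Finset C₀) (hs : Algebra.adjoin B₀ (s : Set C₀) = ⊤)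
    (h : ∀ c ∈ s, IsIntegral (B₀ ⊗[A₀] X) ((1 : B₀ ⊗[A₀] X) ⊗ₜ[B₀] c)) :
    Module.Finite (B₀ ⊗[A₀] X) ((B₀ ⊗[A₀] X) ⊗[B₀] C₀) := by
  have htop : integralClosure (B₀ ⊗[A₀] X) ((B₀ ⊗[A₀] X) ⊗[B₀] C₀) = ⊤ :=
    eq_top_of_gens B₀ C₀ X _ s hs (fun c hc => h c hc)
  haveI : Algebra.IsIntegral (B₀ ⊗[A₀] X) ((B₀ ⊗[A₀] X) ⊗[B₀] C₀) :=
    ⟨fun w => by
      have hw : w ∈ integralClosure (B₀ ⊗[A₀] X) ((B₀ ⊗[A₀] X) ⊗[B₀] C₀) := by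
        rw [htop]; trivial
      exact hw⟩
  exact Algebra.IsIntegral.finite

theorem Sys.exists_finite (H : Sys A₀ G A g) [Algebra.FiniteType B₀ C₀]
    (h : Module.Finite (B₀ ⊗[A₀] A) ((B₀ ⊗[A₀] A) ⊗[B₀] C₀)) :
    ∃ i, Module.Finite (B₀ ⊗[A₀] G i) ((B₀ ⊗[A₀] G i) ⊗[B₀] C₀) := by
  obtain ⟨s, hs⟩ := (Algebra.FiniteType.out : (⊤ : Subalgebra B₀ C₀).FG)
  haveI : Algebra.IsIntegral (B₀ ⊗[A₀] A) ((B₀ ⊗[A₀] A) ⊗[B₀] C₀) := Algebra.IsIntegral.of_finite _ _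
  obtain ⟨i, hi⟩ := H.common s
    (fun c i => IsIntegral (B₀ ⊗[A₀] G i) ((1 : B₀ ⊗[A₀] G i) ⊗ₜ[B₀] c))
    (fun c _ i j φ _ hc => isIntegral_map B₀ C₀ φ c hc)
    (fun c _ => H.exists_int A₀ B₀ C₀ c (Algebra.IsIntegral.isIntegral _))
  exact ⟨i, finite_of_gens_integral A₀ B₀ C₀ (G i) s hs hi⟩

/-! ### retractions (for injectivity) -/

variable {A₀ B₀ C₀} in
lemma injective_of_retr {X : Type u} [CommRing X] [Algebra A₀ X] (σ : C₀ →ₐ[B₀] B₀ ⊗[A₀] X) :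
    Function.Injective (algebraMap (B₀ ⊗[A₀] X) ((B₀ ⊗[A₀] X) ⊗[B₀] C₀)) := by
  let ρ : (B₀ ⊗[A₀] X) ⊗[B₀] C₀ →ₐ[B₀ ⊗[A₀] X] B₀ ⊗[A₀] X :=
    Algebra.TensorProduct.lift (AlgHom.id _ _) σ (fun _ _ => Commute.all _ _)
  intro b b' hbb'
  have h2 := congrArg ρ hbb'
  rw [ρ.commutes, ρ.commutes] at h2
  exact h2

theorem Sys.exists_retr (H : Sys A₀ G A g) [Algebra.FinitePresentation B₀ C₀]
    (σ : C₀ →ₐ[B₀] B₀ ⊗[A₀] A) : ∃ i, Nonempty (C₀ →ₐ[B₀] B₀ ⊗[A₀] G i) := by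
  classical
  obtain ⟨n, fp, hfp, hker⟩ := Algebra.FinitePresentation.out (R := B₀) (A := C₀)
  obtain ⟨S, hS⟩ := hker
  obtain ⟨i, hi⟩ := H.liftB_finset B₀
    (Finset.univ.image (fun k : Fin n => σ (fp (MvPolynomial.X k))))
  choose β hβ using fun k : Fin n => hi _ (Finset.mem_image_of_mem _ (Finset.mem_univ k))
  let τ : MvPolynomial (Fin n) B₀ →ₐ[B₀] B₀ ⊗[A₀] G i := MvPolynomial.aeval β
  have hτ : (Bm B₀ (g i)).comp τ = σ.comp fp := by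
    apply MvPolynomial.algHom_ext
    intro k
    simp [τ, hβ]
  have key : ∀ S' : Finset (MvPolynomial (Fin n) B₀), S' ⊆ S →
      ∃ j, ∃ φ : G i →ₐ[A₀] G j, (g j).comp φ = g i ∧ ∀ q ∈ S', Bm B₀ φ (τ q) = 0 := by
    intro S'
    induction S' using Finset.induction_on with
    | empty => intro _; exact ⟨i, AlgHom.id _ _, AlgHom.comp_id _, by simp⟩
    | insert q S' hq ih =>
      intro hsub
      obtain ⟨j, φ, c, hk⟩ := ih (fun x hx => hsub (Finset.mem_insert_of_mem hx))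
      have hq0 : Bm B₀ (g j) (Bm B₀ φ (τ q)) = 0 := by
        rw [Bm_compat B₀ φ c]
        have hfq : fp q = 0 := by
          have hmem : q ∈ RingHom.ker fp.toRingHom := by
            rw [← hS]; exact Ideal.subset_span (hsub (Finset.mem_insert_self _ _))
          exact hmem
        have h2 := DFunLike.congr_fun hτ q
        simp only [AlgHom.comp_apply] at h2
        rw [h2, hfq, map_zero]
      obtain ⟨j', ψ, cψ, hk'⟩ := H.t2B B₀ j _ hq0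
      refine ⟨j', ψ.comp φ, by rw [← AlgHom.comp_assoc, cψ, c], ?_⟩
      intro q' hq'
      rw [Bm_comp]
      rcases Finset.mem_insert.1 hq' with rfl | hq'
      · exact hk'
      · rw [hk q' hq', map_zero]
  obtain ⟨j, φ, c, hk⟩ := key S (Finset.Subset.refl _)
  have hτ' : ∀ a ∈ RingHom.ker fp.toRingHom, ((Bm B₀ φ).comp τ) a = 0 := by
    intro a ha
    rw [← hS] at ha
    have hle : Ideal.span (S : Set (MvPolynomial (Fin n) B₀)) ≤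
        RingHom.ker ((Bm B₀ φ).comp τ).toRingHom :=
      Ideal.span_le.2 (fun q hq => hk q hq)
    exact hle ha
  exact ⟨j, ⟨(Ideal.Quotient.liftₐ (RingHom.ker fp.toRingHom) ((Bm B₀ φ).comp τ) hτ').comp
    (Ideal.quotientKerAlgEquivOfSurjective hfp).symm.toAlgHom⟩⟩

theorem Sys.exists_bijective (H : Sys A₀ G A g) [Algebra.FinitePresentation B₀ C₀]
    (h : Function.Bijective (algebraMap (B₀ ⊗[A₀] A) ((B₀ ⊗[A₀] A) ⊗[B₀] C₀))) :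
    ∃ i, Function.Bijective (algebraMap (B₀ ⊗[A₀] G i) ((B₀ ⊗[A₀] G i) ⊗[B₀] C₀)) := by
  obtain ⟨s, hs⟩ := (Algebra.FiniteType.out : (⊤ : Subalgebra B₀ C₀).FG)
  obtain ⟨i₁, h₁⟩ := H.exists_genRange A₀ B₀ C₀ s h.2
  let e : (B₀ ⊗[A₀] A) ≃ₐ[B₀ ⊗[A₀] A] ((B₀ ⊗[A₀] A) ⊗[B₀] C₀) :=
    AlgEquiv.ofBijective (Algebra.ofId _ _) h
  let σ : C₀ →ₐ[B₀] B₀ ⊗[A₀] A :=
    (e.symm.toAlgHom.restrictScalars B₀).comp Algebra.TensorProduct.includeRight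
  obtain ⟨i₂, ⟨σ₂⟩⟩ := H.exists_retr A₀ B₀ C₀ σ
  obtain ⟨j, φ₁, φ₂, _, _⟩ := H.dir i₁ i₂
  exact ⟨j, injective_of_retr ((Bm B₀ φ₂).comp σ₂), (h₁.map φ₁).surjective hs⟩

end Results

end Groth.Agent.Lead.ColimDescent
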