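import Mathlib
import Groth.Prelude.Def_RegImm

/-!
Transport of `Synt.IsGlobalCI`, `Synt.IsLCIOver`, `Synt.IsSyntomic` along algebra isomorphisms.
-/

set_option autoImplicit false
universe u

namespace Groth.Agent.Lead.SyntIso

open TensorProduct

theorem isGlobalCI_of_algEquiv {k : Type u} [Field k] {S S' : Type u} [CommRing S] [CommRing S']
    [Algebra k S] [Algebra k S'] (e : S ≃ₐ[k] S') (h : Synt.IsGlobalCI k S) :
    Synt.IsGlobalCI k S' := by
  rcases h with h | ⟨n, c, hcn, φ, r, hφ, hker, hdim⟩
  · left
    exact e.symm.toEquiv.subsingleton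
  · right
    refine ⟨n, c, hcn, e.toAlgHom.comp φ, r, ?_, ?_, ?_⟩
    · exact e.surjective.comp hφ
    · rw [← hker]
      ext x
      simp only [RingHom.mem_ker, AlgHom.toRingHom_eq_coe, RingHom.coe_coe, AlgHom.comp_apply]
      constructor
      · intro hx
        exact e.injective (by simpa using hx)
      · intro hx
        rw [hx]; simp
    · rw [← hdim]
      exact (ringKrullDim_eq_of_ringEquiv e.toRingEquiv).symm

theorem isLCIOver_of_algEquiv {k : Type u} [Field k] {S S' : Type u} [CommRing S] [CommRing S']
    [Algebra k S] [Algebra k S'] (e : S ≃ₐ[k] S') (h : Synt.IsLCIOver k S) :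
    Synt.IsLCIOver k S' := by
  obtain ⟨hft, hloc⟩ := h
  refine ⟨Algebra.FiniteType.equiv hft e, fun p' => ?_⟩
  obtain ⟨g, hg, hG⟩ := hloc (PrimeSpectrum.comap e.toAlgHom.toRingHom p')
  refine ⟨e g, ?_, ?_⟩
  · simpa using hg
  · have H : (Submonoid.powers g).map e.toRingEquiv.toMonoidHom = Submonoid.powers (e g) := by
      rw [Submonoid.map_powers]; rfl
    let e₀ : Localization.Away g ≃+* Localization.Away (e g) :=
      IsLocalization.ringEquivOfRingEquiv (M := Submonoid.powers g) (T := Submonoid.powers (e g))
        (Localization.Away g) (Localization.Away (e g)) e.toRingEquiv H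
    have e' : Localization.Away g ≃ₐ[k] Localization.Away (e g) :=
      { e₀ with
        commutes' := fun x => by
          change e₀ _ = _
          rw [IsScalarTower.algebraMap_apply k S (Localization.Away g),
            IsLocalization.ringEquivOfRingEquiv_eq,
            IsScalarTower.algebraMap_apply k S' (Localization.Away (e g))]
          simp }
    exact isGlobalCI_of_algEquiv e' hG

theorem isSyntomic_of_algEquiv {R : Type u} [CommRing R] {S S' : Type u} [CommRing S] [CommRing S']
    [Algebra R S] [Algebra R S'] (e : S ≃ₐ[R] S') (h : Synt.IsSyntomic R S) :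
    Synt.IsSyntomic R S' := by
  obtain ⟨hfl, hfp, hfib⟩ := h
  refine ⟨Module.Flat.of_linearEquiv e.symm.toLinearEquiv, Algebra.FinitePresentation.equiv e,
    fun p => ?_⟩
  exact isLCIOver_of_algEquiv
    (Algebra.TensorProduct.congr (AlgEquiv.refl (R := p.asIdeal.ResidueField)
      (A₁ := p.asIdeal.ResidueField)) e) (hfib p)

end Groth.Agent.Lead.SyntIso
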