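import Mathlib
import Groth.Prelude.Def_RegImm
import Groth.Agent.Lead.SyntIso

/-!
Semilinear transport of `Synt.IsGlobalCI`, `Synt.IsLCIOver` along an isomorphism of base fields.
-/

set_option autoImplicit false
universe u

namespace Groth.Agent.Lead.SyntIso

open TensorProduct

section Field

variable {k k' : Type u} [Field k] [Field k'] {S : Type u} [CommRing S] [Algebra k S] [Algebra k' S]

/-- change of coefficient field along an isomorphism (same ring `S`). -/
theorem isGlobalCI_of_fieldEquiv (σ : k ≃+* k')
    (h : ∀ c, algebraMap k' S (σ c) = algebraMap k S c) (H : Synt.IsGlobalCI k S) :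
    Synt.IsGlobalCI k' S := by
  rcases H with H | ⟨n, c, hcn, φ, r, hφ, hker, hdim⟩
  · exact Or.inl H
  · right
    let me : MvPolynomial (Fin n) k ≃+* MvPolynomial (Fin n) k' := MvPolynomial.mapEquiv (Fin n) σ
    let φ' : MvPolynomial (Fin n) k' →ₐ[k'] S := MvPolynomial.aeval (fun i => φ (MvPolynomial.X i))
    have hcomp : ∀ x, φ' (me x) = φ x := by
      intro x
      induction x using MvPolynomial.induction_on with
      | C a =>
        simp only [me, MvPolynomial.mapEquiv_apply, MvPolynomial.map_C, φ', MvPolynomial.aeval_C,
          RingEquiv.coe_toRingHom]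
        rw [h, ← MvPolynomial.algebraMap_eq, AlgHom.commutes]
      | add p q hp hq => simp only [map_add, hp, hq]
      | mul_X p i hp =>
        simp only [map_mul, hp]
        congr 1
        simp [me, φ']
    refine ⟨n, c, hcn, φ', fun i => me (r i), ?_, ?_, hdim⟩
    · intro s
      obtain ⟨x, rfl⟩ := hφ s
      exact ⟨me x, hcomp x⟩
    · have h1 : RingHom.ker φ'.toRingHom = Ideal.map me.toRingHom (RingHom.ker φ.toRingHom) := by
        ext x'
        obtain ⟨x, rfl⟩ := me.surjective x'
        simp only [RingHom.mem_ker, AlgHom.toRingHom_eq_coe, RingHom.coe_coe]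
        rw [hcomp]
        constructor
        · intro hx
          exact Ideal.mem_map_of_mem _ (by simpa using hx)
        · intro hx
          obtain ⟨y, hy, hyx⟩ :=
            (Ideal.mem_map_iff_of_surjective me.toRingHom me.surjective).mp hx
          have : y = x := me.injective hyx
          subst this
          simpa using hy
      rw [h1, hker, Ideal.map_span]
      congr 1
      ext x
      simp [Set.mem_image, Set.mem_range]

theorem isLCIOver_of_fieldEquiv (σ : k ≃+* k')
    (h : ∀ c, algebraMap k' S (σ c) = algebraMap k S c) (H : Synt.IsLCIOver k S) :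
    Synt.IsLCIOver k' S := by
  obtain ⟨hft, hloc⟩ := H
  refine ⟨?_, fun p => ?_⟩
  · let _ : Algebra k k' := σ.toRingHom.toAlgebra
    have : IsScalarTower k k' S := IsScalarTower.of_algebraMap_eq (fun c => (h c).symm)
    exact Algebra.FiniteType.of_restrictScalars_finiteType k k' S
  · obtain ⟨g, hg, hG⟩ := hloc p
    refine ⟨g, hg, isGlobalCI_of_fieldEquiv σ (fun c => ?_) hG⟩
    rw [IsScalarTower.algebraMap_apply k' S (Localization.Away g), h,
      ← IsScalarTower.algebraMap_apply k S (Localization.Away g)]

end Field

/-- semilinear transport: field iso `σ` and ring iso `e` compatible with the structure maps. -/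
theorem isLCIOver_of_ringEquiv {k k' : Type u} [Field k] [Field k'] {S S' : Type u} [CommRing S]
    [CommRing S'] [Algebra k S] [Algebra k' S'] (σ : k ≃+* k') (e : S ≃+* S')
    (h : ∀ c, e (algebraMap k S c) = algebraMap k' S' (σ c)) (H : Synt.IsLCIOver k S) :
    Synt.IsLCIOver k' S' := by
  let _ : Algebra k' S := ((algebraMap k S).comp σ.symm.toRingHom).toAlgebra
  have h1 : ∀ c, algebraMap k' S (σ c) = algebraMap k S c := by
    intro c
    change (algebraMap k S) (σ.symm (σ c)) = _
    simp
  have H' : Synt.IsLCIOver k' S := isLCIOver_of_fieldEquiv σ h1 H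
  let e' : S ≃ₐ[k'] S' :=
    { e with
      commutes' := fun c' => by
        obtain ⟨c, rfl⟩ := σ.surjective c'
        change e (algebraMap k' S (σ c)) = _
        rw [h1, h] }
  exact isLCIOver_of_algEquiv e' H'

end Groth.Agent.Lead.SyntIso
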