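import Mathlib
import Groth.Prelude.Def_RegImm
import Groth.Agent.Lead.SyntIso2
import Groth.Agent.S9141
import Groth.Agent.S9146

/-!
# `Synt.IsSyntomic` is a local property of ring homomorphisms

`Q f := Synt.IsSyntomic R S` for the algebra structure `f.toAlgebra`.  We prove
`RingHom.PropertyIsLocal Q` and the composition stability with localizations away (source and
target), so that `affineLocally Q` has all the affine-local API of Mathlib, and we identify
`Synt.IsSyntomicMor` with `affineLocally Q`.
-/

set_option autoImplicit false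
universe u

namespace Groth.Agent.Lead.SyntLocal

open TensorProduct

/-- `Synt.IsSyntomic` as a property of ring homomorphisms. -/
def Q {R S : Type u} [CommRing R] [CommRing S] (f : R →+* S) : Prop :=
  @Synt.IsSyntomic R _ S _ f.toAlgebra

/-- the fibre condition -/
def FibLCI {R S : Type u} [CommRing R] [CommRing S] (f : R →+* S) : Prop :=
  letI := f.toAlgebra
  ∀ p : PrimeSpectrum R, Synt.IsLCIOver p.asIdeal.ResidueField (p.asIdeal.Fiber S)

theorem Q_iff {R S : Type u} [CommRing R] [CommRing S] (f : R →+* S) :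
    Q f ↔ f.Flat ∧ f.FinitePresentation ∧ FibLCI f := Iff.rfl

theorem Q_algebraMap_iff {R S : Type u} [CommRing R] [CommRing S] [Algebra R S] :
    Q (algebraMap R S) ↔ Synt.IsSyntomic R S := by
  have : (algebraMap R S).toAlgebra = ‹Algebra R S› := Algebra.algebra_ext _ _ (fun _ => rfl)
  unfold Q
  rw [this]

section Master

variable {R S R' S' : Type u} [CommRing R] [CommRing S] [CommRing R'] [CommRing S']
  [Algebra R S] [Algebra R' S']

/-- Master fibre lemma: if the fibre of `S'` at `p'` is a localization away from an element of the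
fibre of `S` at `p`, semilinearly over an isomorphism of residue fields, then LCI passes over. -/
theorem isLCIOver_fiber_of_away (p : Ideal R) [p.IsPrime] (p' : Ideal R') [p'.IsPrime]
    (σ : p.ResidueField ≃+* p'.ResidueField) (Φ : p.Fiber S →+* p'.Fiber S')
    (hΦ : ∀ c, Φ (algebraMap p.ResidueField (p.Fiber S) c) =
      algebraMap p'.ResidueField (p'.Fiber S') (σ c))
    (g : p.Fiber S) (hloc : @IsLocalization.Away _ _ g (p'.Fiber S') _ Φ.toAlgebra)
    (H : Synt.IsLCIOver p.ResidueField (p.Fiber S)) :
    Synt.IsLCIOver p'.ResidueField (p'.Fiber S') := by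
  letI := Φ.toAlgebra
  haveI : Algebra.FiniteType p.ResidueField (p.Fiber S) := H.1
  have H1 := (Groth.Agent.S9141.result p.ResidueField (p.Fiber S) g).2 H
  let e : Localization.Away g ≃ₐ[p.Fiber S] p'.Fiber S' :=
    IsLocalization.algEquiv (Submonoid.powers g) _ _
  refine SyntIso.isLCIOver_of_ringEquiv σ e.toRingEquiv (fun c => ?_) H1
  rw [IsScalarTower.algebraMap_apply p.ResidueField (p.Fiber S) (Localization.Away g)]
  change e (algebraMap (p.Fiber S) (Localization.Away g) _) = _
  rw [e.commutes]
  exact hΦ c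

/-- special case: ring isomorphism of fibres. -/
theorem isLCIOver_fiber_of_equiv (p : Ideal R) [p.IsPrime] (p' : Ideal R') [p'.IsPrime]
    (σ : p.ResidueField ≃+* p'.ResidueField) (Φ : p.Fiber S ≃+* p'.Fiber S')
    (hΦ : ∀ c, Φ (algebraMap p.ResidueField (p.Fiber S) c) =
      algebraMap p'.ResidueField (p'.Fiber S') (σ c))
    (H : Synt.IsLCIOver p.ResidueField (p.Fiber S)) :
    Synt.IsLCIOver p'.ResidueField (p'.Fiber S') :=
  SyntIso.isLCIOver_of_ringEquiv σ Φ hΦ H

end Master

section BaseChange

variable {R S R' S' : Type u} [CommRing R] [CommRing S] [CommRing R'] [CommRing S']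
  [Algebra R S] [Algebra R R'] [Algebra R' S'] [Algebra S S'] [Algebra R S']
  [IsScalarTower R R' S'] [IsScalarTower R S S'] [Algebra.IsPushout R S R' S']

/-- fibres of a base change along a map inducing an isomorphism of residue fields. -/
theorem isLCIOver_fiber_baseChange (p' : Ideal R') [p'.IsPrime]
    (hbij : Function.Bijective
      (Ideal.ResidueField.mapₐ (p'.comap (algebraMap R R')) p' (Algebra.ofId R R') rfl))
    (H : Synt.IsLCIOver (p'.comap (algebraMap R R')).ResidueField
      ((p'.comap (algebraMap R R')).Fiber S)) :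
    Synt.IsLCIOver p'.ResidueField (p'.Fiber S') := by
  let p : Ideal R := p'.comap (algebraMap R R')
  let σₐ : p.ResidueField ≃ₐ[R] p'.ResidueField :=
    AlgEquiv.ofBijective (Ideal.ResidueField.mapₐ p p' (Algebra.ofId R R') rfl) hbij
  let E1 : p.ResidueField ⊗[R] S ≃ₐ[R] p'.ResidueField ⊗[R] S :=
    Algebra.TensorProduct.congr σₐ AlgEquiv.refl
  let E2 : p'.ResidueField ⊗[R] S ≃ₐ[R] S ⊗[R] p'.ResidueField :=
    Algebra.TensorProduct.comm R p'.ResidueField S
  let E3 : S ⊗[R] p'.ResidueField ≃ₐ[S] S' ⊗[R'] p'.ResidueField :=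
    (Algebra.IsPushout.cancelBaseChangeAlg R S R' S' p'.ResidueField).symm
  let E4 : S' ⊗[R'] p'.ResidueField ≃ₐ[R'] p'.ResidueField ⊗[R'] S' :=
    Algebra.TensorProduct.comm R' S' p'.ResidueField
  let Φ : p.Fiber S ≃+* p'.Fiber S' :=
    E1.toRingEquiv.trans (E2.toRingEquiv.trans (E3.toRingEquiv.trans E4.toRingEquiv))
  refine isLCIOver_fiber_of_equiv p p' σₐ.toRingEquiv Φ (fun c => ?_) H
  rw [Algebra.TensorProduct.algebraMap_apply, Algebra.TensorProduct.algebraMap_apply]
  simp [Φ, E1, E2, E3, E4]

end BaseChange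

section LocalizationAwayPreserves

theorem localizationAwayPreserves : RingHom.LocalizationAwayPreserves @Q := by
  intro R S _ _ f r R' S' _ _ _ _ _ _ hf
  rw [Q_iff] at hf ⊢
  obtain ⟨hflat, hfp, hfib⟩ := hf
  refine ⟨RingHom.Flat.propertyIsLocal.localizationAwayPreserves f r R' S' hflat,
    RingHom.finitePresentation_isLocal.localizationAwayPreserves f r R' S' hfp, ?_⟩
  letI := f.toAlgebra
  letI : Algebra R' S' := (IsLocalization.Away.map R' S' f r).toAlgebra
  letI : Algebra R S' := ((algebraMap S S').comp f).toAlgebra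
  haveI : IsScalarTower R S S' := IsScalarTower.of_algebraMap_eq (fun _ => rfl)
  haveI : IsScalarTower R R' S' := IsScalarTower.of_algebraMap_eq (fun x => by
    change (algebraMap S S') (f x) = (IsLocalization.Away.map R' S' f r) (algebraMap R R' x)
    rw [IsLocalization.Away.map, IsLocalization.map_eq])
  haveI : IsLocalization (Algebra.algebraMapSubmonoid S (Submonoid.powers r)) S' := by
    have : Algebra.algebraMapSubmonoid S (Submonoid.powers r) = Submonoid.powers (f r) := by
      simp [Algebra.algebraMapSubmonoid, Submonoid.map_powers, RingHom.algebraMap_toAlgebra]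
    rw [this]
    infer_instance
  haveI : Algebra.IsPushout R S R' S' :=
    Algebra.isPushout_of_isLocalization (Submonoid.powers r) R' S S'
  intro p'
  have hsurj := RingHom.surjectiveOnStalks_of_isLocalization (Submonoid.powers r) R'
  exact isLCIOver_fiber_baseChange (R := R) (S := S) p'.asIdeal
    (hsurj.residueFieldMap_bijective _ p'.asIdeal rfl)
    (hfib ⟨p'.asIdeal.comap (algebraMap R R'), inferInstance⟩)

end LocalizationAwayPreserves

section Source

theorem isLCIOver_of_subsingleton (k F : Type u) [Field k] [CommRing F] [Algebra k F]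
    [Subsingleton F] : Synt.IsLCIOver k F := by
  refine ⟨⟨∅, ?_⟩, fun p => ?_⟩
  · apply Subsingleton.elim
  · exact absurd (Subsingleton.elim _ _) p.2.ne_top

/-- fibres of `R → R_r → T` versus fibres of `R_r → T`. -/
theorem isLCIOver_fiber_source {R S₀ T : Type u} [CommRing R] [CommRing S₀] [CommRing T]
    [Algebra R S₀] [Algebra S₀ T] [Algebra R T] [IsScalarTower R S₀ T] (M : Submonoid R)
    [IsLocalization M S₀] (p : Ideal R) [p.IsPrime] (hd : Disjoint (M : Set R) ↑p)
    (H : ∀ (p' : Ideal S₀) [p'.IsPrime], Synt.IsLCIOver p'.ResidueField (p'.Fiber T)) :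
    Synt.IsLCIOver p.ResidueField (p.Fiber T) := by
  let p' : Ideal S₀ := p.map (algebraMap R S₀)
  haveI hp' : p'.IsPrime := IsLocalization.isPrime_of_isPrime_disjoint M S₀ p inferInstance hd
  have hcomap : p = p'.comap (algebraMap R S₀) :=
    (IsLocalization.under_map_of_isPrime_disjoint M S₀ inferInstance hd).symm
  have hsurj := RingHom.surjectiveOnStalks_of_isLocalization M S₀
  have hbij : Function.Bijective (Ideal.ResidueField.mapₐ p p' (Algebra.ofId R S₀) hcomap) :=
    hsurj.residueFieldMap_bijective p p' hcomap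
  let σₐ : p.ResidueField ≃ₐ[R] p'.ResidueField :=
    AlgEquiv.ofBijective (Ideal.ResidueField.mapₐ p p' (Algebra.ofId R S₀) hcomap) hbij
  let E1 : p'.ResidueField ⊗[S₀] T ≃ₐ[S₀] p'.ResidueField ⊗[R] T :=
    IsLocalization.algebraTensorEquiv M S₀ p'.ResidueField T
  let E2 : p'.ResidueField ⊗[R] T ≃ₐ[R] p.ResidueField ⊗[R] T :=
    Algebra.TensorProduct.congr σₐ.symm AlgEquiv.refl
  let Φ : p'.Fiber T ≃+* p.Fiber T := E1.toRingEquiv.trans E2.toRingEquiv
  refine isLCIOver_fiber_of_equiv p' p σₐ.symm.toRingEquiv Φ (fun c => ?_) (H p')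
  rw [Algebra.TensorProduct.algebraMap_apply, Algebra.TensorProduct.algebraMap_apply]
  simp [Φ, E1, E2, IsLocalization.algebraTensorEquiv]
  rfl

theorem fiber_subsingleton_of_isUnit {R T : Type u} [CommRing R] [CommRing T] [Algebra R T]
    (p : Ideal R) [p.IsPrime] (r : R) (hr : r ∈ p) (hu : IsUnit (algebraMap R T r)) :
    Subsingleton (p.Fiber T) := by
  obtain ⟨u, hu⟩ := hu.exists_right_inv
  refine subsingleton_of_zero_eq_one ?_
  have h1 : (1 : p.Fiber T) = (1 : p.ResidueField) ⊗ₜ[R] (r • u) := by
    rw [Algebra.smul_def, hu]; rfl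
  rw [h1, TensorProduct.tmul_smul, TensorProduct.smul_tmul', Algebra.smul_def,
    (Ideal.algebraMap_residueField_eq_zero).2 hr, zero_mul, TensorProduct.zero_tmul]

theorem stableUnderCompositionWithLocalizationAwaySource :
    RingHom.StableUnderCompositionWithLocalizationAwaySource @Q := by
  intro R S T _ _ _ _ r _ f hf
  rw [Q_iff] at hf ⊢
  obtain ⟨hflat, hfp, hfib⟩ := hf
  refine ⟨RingHom.Flat.stableUnderComposition _ _ (RingHom.Flat.holdsForLocalizationAway S r) hflat,
    RingHom.finitePresentation_stableUnderComposition _ _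
      (RingHom.finitePresentation_holdsForLocalizationAway S r) hfp, ?_⟩
  letI := f.toAlgebra
  letI : Algebra R T := (f.comp (algebraMap R S)).toAlgebra
  haveI : IsScalarTower R S T := IsScalarTower.of_algebraMap_eq (fun _ => rfl)
  intro p
  by_cases hr : r ∈ p.asIdeal
  · haveI : Subsingleton (p.asIdeal.Fiber T) := by
      refine fiber_subsingleton_of_isUnit p.asIdeal r hr ?_
      change IsUnit (f (algebraMap R S r))
      exact (IsLocalization.Away.algebraMap_isUnit r).map f
    exact isLCIOver_of_subsingleton _ _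
  · refine isLCIOver_fiber_source (S₀ := S) (Submonoid.powers r) p.asIdeal ?_
      (fun p' _ => hfib ⟨p', inferInstance⟩)
    rw [Set.disjoint_left]
    rintro x ⟨n, rfl⟩ hx
    exact hr (p.2.mem_of_pow_mem n hx)

end Source

section Target

attribute [local instance] Algebra.TensorProduct.rightAlgebra in
/-- fibres of `R → S → S_s`. -/
theorem isLCIOver_fiber_target {R S T : Type u} [CommRing R] [CommRing S] [CommRing T]
    [Algebra R S] [Algebra S T] [Algebra R T] [IsScalarTower R S T] (s : S)
    [IsLocalization.Away s T] (p : Ideal R) [p.IsPrime]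
    (H : Synt.IsLCIOver p.ResidueField (p.Fiber S)) :
    Synt.IsLCIOver p.ResidueField (p.Fiber T) := by
  let Φₐ : p.Fiber S →ₐ[p.ResidueField] p.Fiber T :=
    Algebra.TensorProduct.map (AlgHom.id p.ResidueField p.ResidueField)
      (IsScalarTower.toAlgHom R S T)
  letI : Algebra (p.Fiber S) (p.Fiber T) := Φₐ.toRingHom.toAlgebra
  haveI : IsScalarTower p.ResidueField (p.Fiber S) (p.Fiber T) := IsScalarTower.of_algHom Φₐ
  have hloc := IsLocalization.tensorProduct_tensorProduct_right R p.ResidueField
    (Submonoid.powers s) T (by ext x; simp [RingHom.algebraMap_toAlgebra, Φₐ])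
  refine isLCIOver_fiber_of_away (R := R) (R' := R) (S := S) (S' := T) p p (RingEquiv.refl _)
    Φₐ.toRingHom (fun c => ?_) ((1 : p.ResidueField) ⊗ₜ[R] s) ?_ H
  · simp [Φₐ, Algebra.TensorProduct.algebraMap_apply]
  · simpa [Submonoid.map_powers] using hloc

theorem stableUnderCompositionWithLocalizationAwayTarget :
    RingHom.StableUnderCompositionWithLocalizationAwayTarget @Q := by
  intro R S T _ _ _ _ s _ f hf
  rw [Q_iff] at hf ⊢
  obtain ⟨hflat, hfp, hfib⟩ := hf
  refine ⟨RingHom.Flat.stableUnderComposition _ _ hflat (RingHom.Flat.holdsForLocalizationAway T s),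
    RingHom.finitePresentation_stableUnderComposition _ _ hfp
      (RingHom.finitePresentation_holdsForLocalizationAway T s), ?_⟩
  letI := f.toAlgebra
  letI : Algebra R T := ((algebraMap S T).comp f).toAlgebra
  haveI : IsScalarTower R S T := IsScalarTower.of_algebraMap_eq (fun _ => rfl)
  intro p
  exact isLCIOver_fiber_target s p.asIdeal (hfib p)

end Target

section Local

theorem ofLocalizationSpanTarget : RingHom.OfLocalizationSpanTarget @Q := by
  rw [RingHom.ofLocalizationSpanTarget_iff_finite]
  intro R S _ _ f s hs h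
  letI := f.toAlgebra
  refine Groth.Agent.S9146.result R S s hs (fun g hg => ?_)
  have h1 := h ⟨g, hg⟩
  have : ((algebraMap S (Localization.Away g)).comp f).toAlgebra =
      (inferInstance : Algebra R (Localization.Away g)) :=
    Algebra.algebra_ext _ _ (fun r =>
      (IsScalarTower.algebraMap_apply R S (Localization.Away g) r).symm)
  unfold Q at h1
  rw [this] at h1
  exact h1

theorem ofLocalizationSpan : RingHom.OfLocalizationSpan @Q :=
  ofLocalizationSpanTarget.ofLocalizationSpan stableUnderCompositionWithLocalizationAwaySource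

theorem propertyIsLocal : RingHom.PropertyIsLocal @Q where
  localizationAwayPreserves := localizationAwayPreserves
  ofLocalizationSpanTarget := ofLocalizationSpanTarget
  ofLocalizationSpan := ofLocalizationSpan
  StableUnderCompositionWithLocalizationAwayTarget :=
    stableUnderCompositionWithLocalizationAwayTarget

end Local

section Schemes

open AlgebraicGeometry CategoryTheory

/-- syntomic morphisms as a morphism property of schemes. -/
def SyntMor : MorphismProperty Scheme.{u} := fun _ _ f => Synt.IsSyntomicMor f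

theorem isSyntomicMor_iff_affineLocally {X S : Scheme.{u}} (f : X ⟶ S) :
    Synt.IsSyntomicMor f ↔ affineLocally @Q f := by
  haveI : HasRingHomProperty (affineLocally @Q) @Q := ⟨propertyIsLocal, rfl⟩
  rw [HasRingHomProperty.iff_exists_appLE (P := affineLocally @Q)
    stableUnderCompositionWithLocalizationAwaySource]
  constructor
  · intro h x
    obtain ⟨U, V, e, hx, hS⟩ := h x
    exact ⟨V, U, hx, e, hS⟩
  · intro h x
    obtain ⟨V, U, hx, e, hS⟩ := h x
    exact ⟨U, V, e, hx, hS⟩

instance hasRingHomProperty : HasRingHomProperty SyntMor @Q where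
  isLocal_ringHomProperty := propertyIsLocal
  eq_affineLocally' := by
    ext X S f
    exact isSyntomicMor_iff_affineLocally f

/-- syntomic ⇔ syntomic ring maps on all pairs of affine opens. -/
theorem isSyntomicMor_iff_appLE {X S : Scheme.{u}} (f : X ⟶ S) :
    Synt.IsSyntomicMor f ↔
      ∀ (V : S.affineOpens) (U : X.affineOpens) (e : U.1 ≤ f ⁻¹ᵁ V.1), Q (f.appLE V.1 U.1 e).hom :=
  HasRingHomProperty.iff_appLE (P := SyntMor) (f := f)

end Schemes

end Groth.Agent.Lead.SyntLocal
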