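import Groth.Agent.Lead.FlatFibreSmooth2
import Groth.Agent.S2451

/-!
# Cohen algebras are adically formally smooth: reusable pieces
-/

universe u
open IsLocalRing

namespace Groth.Agent.Lead.CohenAlg

/-- A homomorphism of discrete valuation rings with `𝔪_A B = 𝔪_B` is flat. -/
theorem flat_of_dvr {A B : Type*} [CommRing A] [IsDomain A] [IsDiscreteValuationRing A]
    [CommRing B] [IsDomain B] [IsDiscreteValuationRing B] [Algebra A B]
    (hmax : (maximalIdeal A).map (algebraMap A B) = maximalIdeal B) : Module.Flat A B := by
  have hinj : Function.Injective (algebraMap A B) := by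
    rw [RingHom.injective_iff_ker_eq_bot]
    by_contra hne
    have hprime : (RingHom.ker (algebraMap A B)).IsPrime := RingHom.ker_isPrime _
    have hmaxk : (RingHom.ker (algebraMap A B)).IsMaximal := hprime.isMaximal hne
    have heq : RingHom.ker (algebraMap A B) = maximalIdeal A := IsLocalRing.eq_maximalIdeal hmaxk
    have : (maximalIdeal A).map (algebraMap A B) = ⊥ := by
      rw [Ideal.map_eq_bot_iff_le_ker, heq]
    rw [hmax] at this
    exact IsDiscreteValuationRing.not_a_field B this
  rw [Module.Flat.flat_iff_torsion_eq_bot_of_isBezout, eq_bot_iff]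
  intro x hx
  rw [Submodule.mem_torsion_iff] at hx
  obtain ⟨a, ha⟩ := hx
  rw [Submodule.mem_bot]
  have ha' : (a : A) • x = 0 := ha
  rw [Algebra.smul_def] at ha'
  rcases mul_eq_zero.mp ha' with h | h
  · exfalso
    have h0 : (a : A) = 0 := hinj (by rw [h, map_zero])
    exact nonZeroDivisors.coe_ne_zero a h0
  · exact h

/-- The closed fibre of a local homomorphism with `𝔪_A B = 𝔪_B` and separable residue extension is
formally smooth. -/
theorem formallySmooth_closedFibre {A B : Type u} [CommRing A] [IsLocalRing A] [CommRing B]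
    [IsLocalRing B] [Algebra A B] [IsLocalHom (algebraMap A B)]
    (hmax : (maximalIdeal A).map (algebraMap A B) = maximalIdeal B)
    (hsep : Algebra.IsGeometricallyReduced (ResidueField A) (ResidueField B)) :
    Algebra.FormallySmooth (A ⧸ maximalIdeal A) (B ⧸ (maximalIdeal A).map (algebraMap A B)) := by
  have hfs : Algebra.FormallySmooth (ResidueField A) (ResidueField B) :=
    (Groth.Agent.S2451.result).mpr hsep
  letI alg' : Algebra (ResidueField A) (B ⧸ (maximalIdeal A).map (algebraMap A B)) :=
    inferInstanceAs (Algebra (A ⧸ maximalIdeal A) (B ⧸ (maximalIdeal A).map (algebraMap A B)))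
  let e0 : (B ⧸ maximalIdeal B) ≃+* (B ⧸ (maximalIdeal A).map (algebraMap A B)) :=
    Ideal.quotEquivOfEq hmax.symm
  let e : ResidueField B ≃ₐ[ResidueField A] (B ⧸ (maximalIdeal A).map (algebraMap A B)) :=
    { e0 with
      commutes' := by
        intro x
        obtain ⟨a, rfl⟩ := Ideal.Quotient.mk_surjective x
        rfl }
  have h2' : Algebra.FormallySmooth (ResidueField A)
      (B ⧸ (maximalIdeal A).map (algebraMap A B)) := Algebra.FormallySmooth.of_equiv e
  exact h2'

/-- Flat + `𝔪_A B = 𝔪_B` + separable residue extension ⇒ adically formally smooth (any topology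
on `B`). -/
theorem isFormallySmoothAdic {A B : Type u} [CommRing A] [IsLocalRing A] [CommRing B]
    [IsLocalRing B] [Algebra A B] [IsLocalHom (algebraMap A B)] [Module.Flat A B]
    (hmax : (maximalIdeal A).map (algebraMap A B) = maximalIdeal B)
    (hsep : Algebra.IsGeometricallyReduced (ResidueField A) (ResidueField B)) (𝔟 : Ideal B) :
    EGA41.IsFormallySmoothAdic A (maximalIdeal A) B 𝔟 := by
  apply Lead.FlatFibreSmooth.isFormallySmoothAdic_of_forall_quotient
  intro k hk
  haveI := formallySmooth_closedFibre hmax hsep
  exact Lead.FlatFibreSmooth.formallySmooth_quotient_pow (maximalIdeal A) k hk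

end Groth.Agent.Lead.CohenAlg
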