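import Groth.Agent.S2462
import Groth.Agent.S4537
import Groth.Agent.S4534
import Groth.Agent.S9444
import Groth.Agent.Lead.CohenAlg

/-!
# Sections of surjections onto adic-formally-smooth algebras, and consequences
-/

universe u
open IsLocalRing

namespace Groth.Agent.Lead.RetractPS

/-- a surjection from a complete Noetherian local ring onto an adic-formally-smooth local algebra
has a section -/
theorem exists_section {k B C : Type u} [CommRing k] [CommRing B] [IsLocalRing B] [Algebra k B]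
    (hfs : CAlgX.IsAdicFormallySmooth k B (maximalIdeal B))
    [CommRing C] [IsLocalRing C] [IsNoetherianRing C] [IsAdicComplete (maximalIdeal C) C]
    [Algebra k C] (e : C →ₐ[k] B) (he : Function.Surjective e) :
    ∃ v : B →ₐ[k] C, ∀ b, e (v b) = b := by
  have hB : EGA41.IsFormallySmoothAdic k ⊥ B (maximalIdeal B) :=
    (Groth.Agent.S4537.result _).mp hfs
  have hA : (⊥ : Ideal k).map (algebraMap k C) ≤ maximalIdeal C := by
    rw [Ideal.map_bot]; exact bot_le
  have hJ : RingHom.ker e ≠ ⊤ := RingHom.ker_ne_top _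
  let E := Ideal.quotientKerAlgEquivOfSurjective he
  have hE : ∀ c : C, E (Ideal.Quotient.mk _ c) = e c := fun c => rfl
  have hu : (maximalIdeal B).map (E.symm : B →ₐ[k] C ⧸ RingHom.ker e).toRingHom ≤
      (maximalIdeal C).map (Ideal.Quotient.mk (RingHom.ker e)) := by
    rw [Ideal.map_le_iff_le_comap]
    intro b hb
    obtain ⟨c, rfl⟩ := he b
    rw [Ideal.mem_comap]
    have h1 : (E.symm : B →ₐ[k] C ⧸ RingHom.ker e).toRingHom (e c) = Ideal.Quotient.mk _ c := by
      show E.symm (e c) = _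
      rw [← hE, AlgEquiv.symm_apply_apply]
    rw [h1]
    apply Ideal.mem_map_of_mem
    rw [mem_maximalIdeal, mem_nonunits_iff] at hb ⊢
    intro hc
    exact hb (hc.map e)
  obtain ⟨v, -, hv⟩ := Groth.Agent.S2462.result ⊥ (maximalIdeal B) hB hA (RingHom.ker e) hJ
    (E.symm : B →ₐ[k] C ⧸ RingHom.ker e) hu
  refine ⟨v, fun b => ?_⟩
  have h2 : (Ideal.Quotient.mkₐ k (RingHom.ker e)) (v b) = E.symm b := AlgHom.congr_fun hv b
  have h3 : e (v b) = E ((Ideal.Quotient.mkₐ k (RingHom.ker e)) (v b)) := rfl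
  rw [h3, h2, AlgEquiv.apply_symm_apply]

/-- an Artinian local algebra over a field, adic-formally-smooth with separable residue field,
is a field -/
theorem maximalIdeal_eq_bot_of_artinian {k B : Type u} [Field k] [CommRing B] [IsLocalRing B]
    [IsArtinianRing B] [Algebra k B] [Algebra.IsGeometricallyReduced k (ResidueField B)]
    (hfs : CAlgX.IsAdicFormallySmooth k B (maximalIdeal B)) : maximalIdeal B = ⊥ := by
  classical
  obtain ⟨σ, hσ⟩ := Groth.Agent.S2452.result (k := k) (A := B)
  obtain ⟨t, ht⟩ := Groth.Agent.H87.EqCohen.exists_gens (A := B)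
    (IsNoetherian.noetherian (maximalIdeal B))
  obtain ⟨e, heC, heX⟩ := Groth.Agent.H87.PowEval.exists_mvEvalₐ (maximalIdeal B) σ t
    (fun i => by rw [← ht]; exact Ideal.subset_span ⟨i, rfl⟩)
  have hsurj0 := Groth.Agent.H87.EqCohen.surjective_of_section t ht
    (e : MvPowerSeries (Fin (maximalIdeal B).spanFinrank) (ResidueField B) →+* B) heX
    (fun a => ⟨residue B a, by
      have h0 : (e : MvPowerSeries (Fin (maximalIdeal B).spanFinrank) (ResidueField B) →+* B)
          (MvPowerSeries.C (residue B a)) = σ (residue B a) := heC _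
      rw [h0, ← residue_eq_zero_iff, map_sub, sub_eq_zero]
      exact (hσ (residue B a)).symm⟩)
  have hsurj : Function.Surjective e := fun b => by
    obtain ⟨c, hc⟩ := hsurj0 b
    exact ⟨c, hc⟩
  haveI hreg : IsRegularLocalRing
      (MvPowerSeries (Fin (maximalIdeal B).spanFinrank) (ResidueField B)) :=
    Groth.Agent.H61.Obs.ps_isRegularLocalRing _
  haveI : IsNoetherianRing (MvPowerSeries (Fin (maximalIdeal B).spanFinrank) (ResidueField B)) :=
    inferInstance
  haveI := Groth.Agent.H61.Obs.field_isAdicComplete (ResidueField B)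
  obtain ⟨v, hv⟩ := exists_section hfs e hsurj
  obtain ⟨N, hN⟩ := (isArtinianRing_iff_isNilpotent_maximalIdeal B).mp inferInstance
  rw [eq_bot_iff]
  intro x hx
  have h1 : x ^ N = 0 := by
    have h := Ideal.pow_mem_pow hx N
    rwa [hN, Ideal.zero_eq_bot, Ideal.mem_bot] at h
  have h2 : v x ^ N = 0 := by rw [← map_pow, h1, map_zero]
  have h3 : v x = 0 := IsNilpotent.eq_zero ⟨N, h2⟩
  rw [Ideal.mem_bot, ← hv x, h3, map_zero]

/-- adic formal smoothness passes to the closed fibre -/
theorem fs_quotient {A B : Type u} [CommRing A] [IsLocalRing A] [CommRing B] [Algebra A B]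
    (𝔫 : Ideal B) (hfs : CAlgX.IsAdicFormallySmooth A B 𝔫) (I : Ideal B)
    [Algebra (ResidueField A) (B ⧸ I)]
    (hcomp : ∀ a : A, algebraMap (ResidueField A) (B ⧸ I) (residue A a) =
      Ideal.Quotient.mk I (algebraMap A B a))
    (hI : I ≤ (maximalIdeal A).map (algebraMap A B))
    (𝔫₀ : Ideal (B ⧸ I)) (h𝔫 : 𝔫.map (Ideal.Quotient.mk I) ≤ 𝔫₀) :
    CAlgX.IsAdicFormallySmooth (ResidueField A) (B ⧸ I) 𝔫₀ := by
  intro A' _ _ J hJ ψ hψ
  obtain ⟨j, hj⟩ := hψ
  letI algA : Algebra A A' := Algebra.compHom A' (residue A)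
  have halg : ∀ a : A, algebraMap A A' a = algebraMap (ResidueField A) A' (residue A a) :=
    fun a => rfl
  let ψ' : B →ₐ[A] A' ⧸ J :=
    { toRingHom := ψ.toRingHom.comp (Ideal.Quotient.mk I)
      commutes' := fun a => by
        show ψ (Ideal.Quotient.mk I (algebraMap A B a)) = algebraMap A (A' ⧸ J) a
        rw [← hcomp, ψ.commutes]
        rfl }
  have hψ' : ∀ x ∈ 𝔫 ^ j, ψ' x = 0 := by
    intro x hx
    apply hj
    have h1 := Ideal.mem_map_of_mem (Ideal.Quotient.mk I) hx
    rw [Ideal.map_pow] at h1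
    exact Ideal.pow_right_mono h𝔫 j h1
  obtain ⟨χ', hχ'⟩ := hfs A' J hJ ψ' ⟨j, hψ'⟩
  have hkill : ∀ x ∈ I, χ'.toRingHom x = 0 := by
    have h1 : (maximalIdeal A).map (algebraMap A B) ≤ RingHom.ker χ'.toRingHom := by
      rw [Ideal.map_le_iff_le_comap]
      intro a ha
      rw [Ideal.mem_comap, RingHom.mem_ker]
      show χ' (algebraMap A B a) = 0
      rw [χ'.commutes, halg, (residue_eq_zero_iff a).mpr ha, map_zero]
    intro x hx
    exact h1 (hI hx)
  refine ⟨{ toRingHom := Ideal.Quotient.lift I χ'.toRingHom hkill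
            commutes' := fun c => by
              obtain ⟨a, rfl⟩ := residue_surjective c
              rw [hcomp]
              show χ' (algebraMap A B a) = _
              rw [χ'.commutes, halg] }, AlgHom.ext fun x => ?_⟩
  obtain ⟨b, rfl⟩ := Ideal.Quotient.mk_surjective x
  exact AlgHom.congr_fun hχ' b

/-- the EGA form (adic base) implies the discrete-base form when the base topology is carried
into the topology of the algebra -/
theorem cAlgX_of_ega {A B : Type u} [CommRing A] [CommRing B] [Algebra A B] (𝔞 : Ideal A)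
    (𝔟 : Ideal B) (hcont : 𝔞.map (algebraMap A B) ≤ 𝔟)
    (h : EGA41.IsFormallySmoothAdic A 𝔞 B 𝔟) : CAlgX.IsAdicFormallySmooth A B 𝔟 := by
  intro A' _ _ J hJ ψ hψ
  obtain ⟨j, hj⟩ := hψ
  refine h A' J ⟨2, by rw [hJ]; rfl⟩ ⟨2 * j, ?_⟩ ψ ⟨j, hj⟩
  have h1 : (𝔞 ^ j).map (algebraMap A A') ≤ J := by
    rw [Ideal.map_le_iff_le_comap]
    intro a ha
    rw [Ideal.mem_comap, ← Ideal.Quotient.eq_zero_iff_mem]
    have h2 : algebraMap A B a ∈ 𝔟 ^ j := by
      have h := Ideal.mem_map_of_mem (algebraMap A B) ha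
      rw [Ideal.map_pow] at h
      exact Ideal.pow_right_mono hcont j h
    have h3 := hj _ h2
    rw [AlgHom.commutes] at h3
    exact h3
  rw [eq_bot_iff, two_mul, pow_add, Ideal.map_mul, ← hJ, pow_two]
  exact Ideal.mul_mono h1 h1

end Groth.Agent.Lead.RetractPS
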