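import Groth.Agent.S2453
import Groth.Agent.Lead.RetractPS
import Groth.Agent.H71.RegularLoc

/-!
# Adic formal smoothness over a field implies (geometric) regularity
-/

universe u
open IsLocalRing TensorProduct

namespace Groth.Agent.Lead.GeomReg

/-- the algebra structure over the prime field -/
@[reducible] noncomputable def primeFieldAlgebra (k A : Type u) [Field k] [CommRing A] [Algebra k A] :
    Algebra (⊥ : Subfield k) A :=
  ((algebraMap k A).comp (⊥ : Subfield k).subtype).toAlgebra

/-- adic f.s. over a field ⇒ adic f.s. over its prime field. -/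
theorem fs_primeField {k A : Type u} [Field k] [CommRing A] [Algebra k A] (𝔫 : Ideal A)
    (h : CAlgX.IsAdicFormallySmooth k A 𝔫) :
    @CAlgX.IsAdicFormallySmooth (⊥ : Subfield k) _ A _ (primeFieldAlgebra k A) 𝔫 := by
  letI algF : Algebra (⊥ : Subfield k) A := primeFieldAlgebra k A
  haveI hST := IsScalarTower.of_algebraMap_eq (R := (⊥ : Subfield k)) (S := k) (A := A)
    (fun x => rfl)
  have hF1 : Algebra.FormallySmooth (⊥ : Subfield k) k :=
    Groth.Agent.H44.CoeffField.formallySmooth_bot' k k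
  have h1 : EGA41.IsFormallySmoothAdic (⊥ : Subfield k) ⊥ k ⊥ := by
    intro C _ _ J hJ _ u _
    exact Algebra.FormallySmooth.exists_lift J hJ u
  have h2 := (Groth.Agent.S4537.result _).mp h
  have h3 := Groth.Agent.S4534.result (⊥ : Ideal (⊥ : Subfield k)) (⊥ : Ideal k) _
    ⟨1, by simp⟩ ⟨1, by simp⟩ h1 h2
  exact (Groth.Agent.S4537.result _).mpr h3

theorem regular_of_fs {k A : Type u} [Field k] [CommRing A] [IsLocalRing A] [IsNoetherianRing A]
    [Algebra k A] (h : CAlgX.IsAdicFormallySmooth k A (maximalIdeal A)) :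
    IsRegularLocalRing A := by
  letI algF : Algebra (⊥ : Subfield k) A := primeFieldAlgebra k A
  have hF := fs_primeField (maximalIdeal A) h
  have hfsR : Algebra.FormallySmooth (⊥ : Subfield k) (ResidueField A) :=
    Groth.Agent.H44.CoeffField.formallySmooth_bot' k _
  haveI : Algebra.IsGeometricallyReduced (⊥ : Subfield k) (ResidueField A) :=
    Groth.Agent.S2451.result.1 hfsR
  exact ((Groth.Agent.S2453.result (k := (⊥ : Subfield k)) (A := A)).out 0 3).mp hF

theorem exists_iso_of_fs {k A : Type u} [Field k] [CommRing A] [IsLocalRing A] [IsNoetherianRing A]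
    [Algebra k A] (h : CAlgX.IsAdicFormallySmooth k A (maximalIdeal A)) :
    ∃ n : ℕ, Nonempty (AdicCompletion (maximalIdeal A) A ≃+*
      MvPowerSeries (Fin n) (ResidueField A)) := by
  letI algF : Algebra (⊥ : Subfield k) A := primeFieldAlgebra k A
  have hF := fs_primeField (maximalIdeal A) h
  have hfsR : Algebra.FormallySmooth (⊥ : Subfield k) (ResidueField A) :=
    Groth.Agent.H44.CoeffField.formallySmooth_bot' k _
  haveI : Algebra.IsGeometricallyReduced (⊥ : Subfield k) (ResidueField A) :=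
    Groth.Agent.S2451.result.1 hfsR
  exact ((Groth.Agent.S2453.result (k := (⊥ : Subfield k)) (A := A)).out 0 2).mp hF

/-- localizations of `k' ⊗ A` at maximal ideals over the closed point are adic f.s. over `k'` -/
theorem fs_localization_tensor {k A : Type u} [Field k] [CommRing A] [IsLocalRing A] [Algebra k A]
    (h : CAlgX.IsAdicFormallySmooth k A (maximalIdeal A))
    (k' : Type u) [Field k'] [Algebra k k'] (𝔫 : Ideal (k' ⊗[k] A)) [𝔫.IsMaximal]
    (hcontr : ∀ a ∈ maximalIdeal A, (1 : k') ⊗ₜ[k] a ∈ 𝔫) :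
    CAlgX.IsAdicFormallySmooth k' (Localization.AtPrime 𝔫)
      (maximalIdeal (Localization.AtPrime 𝔫)) := by
  intro C _ _ J hJ ψ hψ
  obtain ⟨j, hj⟩ := hψ
  letI algkC : Algebra k C := Algebra.compHom C (algebraMap k k')
  haveI hST : IsScalarTower k k' C := IsScalarTower.of_algebraMap_eq (fun x => rfl)
  let ι : A →ₐ[k] k' ⊗[k] A := Algebra.TensorProduct.includeRight
  let φ : A →ₐ[k] C ⧸ J :=
    { toRingHom := (ψ.toRingHom.comp
        (algebraMap (k' ⊗[k] A) (Localization.AtPrime 𝔫))).comp ι.toRingHom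
      commutes' := fun x => by
        show ψ (algebraMap (k' ⊗[k] A) (Localization.AtPrime 𝔫) (ι (algebraMap k A x))) =
          algebraMap k (C ⧸ J) x
        rw [ι.commutes, IsScalarTower.algebraMap_apply k k' (k' ⊗[k] A),
          ← IsScalarTower.algebraMap_apply k' (k' ⊗[k] A) (Localization.AtPrime 𝔫), ψ.commutes]
        rfl }
  have hφ : ∀ x ∈ maximalIdeal A ^ j, φ x = 0 := by
    intro x hx
    apply hj
    have hle : (maximalIdeal A).map ((algebraMap (k' ⊗[k] A) (Localization.AtPrime 𝔫)).comp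
        ι.toRingHom) ≤ maximalIdeal (Localization.AtPrime 𝔫) := by
      rw [Ideal.map_le_iff_le_comap]
      intro a ha
      rw [Ideal.mem_comap]
      show algebraMap (k' ⊗[k] A) (Localization.AtPrime 𝔫) (ι a) ∈ _
      rw [IsLocalization.AtPrime.to_map_mem_maximal_iff (Localization.AtPrime 𝔫) 𝔫]
      exact hcontr a ha
    have h1 := Ideal.mem_map_of_mem ((algebraMap (k' ⊗[k] A) (Localization.AtPrime 𝔫)).comp
        ι.toRingHom) hx
    rw [Ideal.map_pow] at h1
    exact Ideal.pow_right_mono hle j h1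
  obtain ⟨φt, hφt⟩ := h C J hJ φ ⟨j, hφ⟩
  let Φ : k' ⊗[k] A →ₐ[k'] C :=
    Algebra.TensorProduct.lift (Algebra.ofId k' C) φt (fun _ _ => Commute.all _ _)
  have hΦ : ∀ r, Ideal.Quotient.mk J (Φ r) =
      ψ (algebraMap (k' ⊗[k] A) (Localization.AtPrime 𝔫) r) := by
    intro r
    induction r using TensorProduct.induction_on with
    | zero => simp
    | tmul a b =>
      have h1 : (a ⊗ₜ[k] b : k' ⊗[k] A) = algebraMap k' (k' ⊗[k] A) a * ι b := by
        rw [Algebra.TensorProduct.algebraMap_apply, Algebra.TensorProduct.includeRight_apply,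
          Algebra.TensorProduct.tmul_mul_tmul, mul_one, one_mul]
        rfl
      have h2 : Φ (a ⊗ₜ[k] b) = algebraMap k' C a * φt b :=
        Algebra.TensorProduct.lift_tmul _ _ _ a b
      rw [h2, h1, map_mul, map_mul, map_mul,
        ← IsScalarTower.algebraMap_apply k' (k' ⊗[k] A) (Localization.AtPrime 𝔫), ψ.commutes]
      congr 1
      exact AlgHom.congr_fun hφt b
    | add x y hx hy => rw [map_add, map_add, map_add, map_add, hx, hy]
  have hunits : ∀ y : 𝔫.primeCompl, IsUnit (Φ y) := by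
    intro y
    rw [← IsNilpotent.isUnit_quotient_mk_iff (I := J) ⟨2, hJ⟩, hΦ]
    exact (IsLocalization.map_units (Localization.AtPrime 𝔫) y).map ψ
  let χ : Localization.AtPrime 𝔫 →ₐ[k'] C := IsLocalization.liftAlgHom (M := 𝔫.primeCompl) hunits
  refine ⟨χ, ?_⟩
  apply AlgHom.coe_ringHom_injective
  apply IsLocalization.ringHom_ext 𝔫.primeCompl
  refine RingHom.ext fun r => ?_
  show Ideal.Quotient.mk J (χ (algebraMap (k' ⊗[k] A) (Localization.AtPrime 𝔫) r)) =
    ψ (algebraMap (k' ⊗[k] A) (Localization.AtPrime 𝔫) r)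
  rw [← hΦ]
  congr 1
  exact IsLocalization.lift_eq _ r

theorem isGeometricallyRegular_of_fs {k A : Type u} [Field k] [CommRing A] [IsLocalRing A]
    [IsNoetherianRing A] [Algebra k A]
    (h : CAlgX.IsAdicFormallySmooth k A (maximalIdeal A)) : CAlg.IsGeometricallyRegular k A := by
  intro k' _ _ hfin
  haveI := hfin
  haveI hN' : IsNoetherianRing (A ⊗[k] k') := IsNoetherianRing.of_finite A (A ⊗[k] k')
  haveI hN : IsNoetherianRing (k' ⊗[k] A) :=
    isNoetherianRing_of_ringEquiv (A ⊗[k] k') (Algebra.TensorProduct.comm k A k').toRingEquiv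
  apply Groth.Agent.H71.RL.isRegularRing_of_maximal
  intro 𝔫 h𝔫
  have hcontr : ∀ a ∈ maximalIdeal A, (1 : k') ⊗ₜ[k] a ∈ 𝔫 := by
    intro a ha
    let e : k' ⊗[k] A ≃ₐ[k] A ⊗[k] k' := Algebra.TensorProduct.comm k k' A
    haveI : (𝔫.comap (e.symm : A ⊗[k] k' →+* k' ⊗[k] A)).IsMaximal :=
      Ideal.comap_isMaximal_of_surjective _ e.symm.surjective
    haveI : Algebra.IsIntegral A (A ⊗[k] k') := Algebra.IsIntegral.of_finite A _
    have hmax : ((𝔫.comap (e.symm : A ⊗[k] k' →+* k' ⊗[k] A)).comap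
        (algebraMap A (A ⊗[k] k'))).IsMaximal :=
      Ideal.isMaximal_comap_of_isIntegral_of_isMaximal _
    have heq := IsLocalRing.eq_maximalIdeal hmax
    have h1 : a ∈ ((𝔫.comap (e.symm : A ⊗[k] k' →+* k' ⊗[k] A)).comap
        (algebraMap A (A ⊗[k] k'))) := by rw [heq]; exact ha
    rw [Ideal.mem_comap, Ideal.mem_comap] at h1
    have h2 : (e.symm : A ⊗[k] k' →+* k' ⊗[k] A) (algebraMap A (A ⊗[k] k') a) =
        (1 : k') ⊗ₜ[k] a := by
      rw [Algebra.TensorProduct.algebraMap_apply]
      exact Algebra.TensorProduct.comm_symm_tmul k (1 : k') a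
    rwa [h2] at h1
  haveI : IsNoetherianRing (Localization.AtPrime 𝔫) :=
    IsLocalization.isNoetherianRing 𝔫.primeCompl _ hN
  exact regular_of_fs (fs_localization_tensor h k' 𝔫 hcontr)

end Groth.Agent.Lead.GeomReg
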