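import Mathlib
import Groth.Prelude.Def_EtRam
import Groth.Prelude.Def_Found
import Groth.Agent.H10.ValDVR
import Groth.Agent.H73.NagataField

/-!
# (NF) and (ND) of helper14's S7151 squad (Epp, purely inseparable step)
-/

set_option autoImplicit false
set_option maxHeartbeats 400000
set_option linter.style.haveILetI false

universe u

open IsLocalRing

namespace Groth.Agent.Lead.PI_ND

/-- Elements of the integral closure lie in every valuation subring containing the base. -/
theorem integral_mem_valuationSubring {B M : Type u} [CommRing B] [Field M] [Algebra B M]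
    (W : ValuationSubring M) (hW : ∀ b : B, algebraMap B M b ∈ W) {c : M} (hc : IsIntegral B c) :
    c ∈ W := by
  obtain ⟨p, hp, hpx⟩ := hc
  have hcomp : (algebraMap W.toSubring M).comp
      (RingHom.codRestrict (algebraMap B M) W.toSubring hW) = algebraMap B M :=
    RingHom.ext (fun a => rfl)
  have hint : IsIntegral W.toSubring c := by
    refine ⟨p.map (RingHom.codRestrict (algebraMap B M) W.toSubring hW), hp.map _, ?_⟩
    rw [Polynomial.eval₂_map, hcomp]
    exact hpx
  exact LocalSubring.mem_of_isMax_of_isIntegral W.isMax_toLocalSubring hint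

/-- (NF) elements of a dominating valuation ring are fractions of integral elements. -/
theorem exists_fraction (B L M : Type u) [CommRing B] [IsDomain B] [IsDiscreteValuationRing B]
    [Field L] [Field M] [Algebra B L] [IsFractionRing B L] [Algebra L M] [FiniteDimensional L M]
    [Algebra B M] [IsScalarTower B L M] (hfin : Module.Finite B (integralClosure B M))
    (W : ValuationSubring M) (hW : EtRam.Dominates B (algebraMap B M) W) (a : M) (ha : a ∈ W) :
    ∃ c s : M, IsIntegral B c ∧ IsIntegral B s ∧ s ≠ 0 ∧ s⁻¹ ∈ W ∧ a * s = c := by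
  classical
  haveI hBfr : IsFractionRing (integralClosure B M) M :=
    integralClosure.isFractionRing_of_finite_extension L M
  haveI hnoeth : IsNoetherianRing (integralClosure B M) :=
    isNoetherian_of_tower B (isNoetherian_of_isNoetherianRing_of_finite B (integralClosure B M))
  haveI hic : IsIntegrallyClosed (integralClosure B M) :=
    integralClosure.isIntegrallyClosedOfFiniteExtension L
  haveI hBded : IsDedekindDomain (integralClosure B M) :=
    { toIsDomain := inferInstance
      toIsNoetherian := hnoeth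
      toDimensionLEOne := inferInstance
      toIsIntegralClosure := hic }
  have hBV : ∀ b : integralClosure B M, (b : M) ∈ W := fun b =>
    integral_mem_valuationSubring W hW.1 b.2
  let ι : integralClosure B M →+* W :=
    RingHom.codRestrict ((integralClosure B M).val : integralClosure B M →+* M) W hBV
  have hιval : ∀ b, ((ι b : W) : M) = (b : M) := fun b => rfl
  obtain ⟨n, hn⟩ : ∃ n : Ideal (integralClosure B M), n = (maximalIdeal W).comap ι := ⟨_, rfl⟩
  have hnmem : ∀ b, b ∈ n ↔ ¬ IsUnit (ι b) := by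
    intro b; rw [hn, Ideal.mem_comap, mem_maximalIdeal, mem_nonunits_iff]
  haveI : n.IsPrime := by rw [hn]; exact Ideal.comap_isPrime ι _
  have hunits : ∀ y : n.primeCompl, IsUnit (ι y) := by
    intro y
    by_contra hy
    exact y.2 ((hnmem _).mpr hy)
  let ρ : Localization.AtPrime n →+* W := IsLocalization.lift (M := n.primeCompl) (g := ι) hunits
  have hρ : ∀ b, ρ (algebraMap _ _ b) = ι b := fun b => IsLocalization.lift_eq _ b
  have hρloc : ∀ y, IsUnit (ρ y) → IsUnit y := by
    intro y hy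
    obtain ⟨⟨b, s⟩, rfl⟩ := IsLocalization.mk'_surjective n.primeCompl y
    have h1 : ρ (IsLocalization.mk' _ b s) * ι s = ι b := by
      rw [← hρ (s : integralClosure B M), ← map_mul, IsLocalization.mk'_spec, hρ]
    have hb : IsUnit (ι b) := by rw [← h1]; exact hy.mul (hunits s)
    have hbn : b ∈ n.primeCompl := fun hbn => (hnmem b).mp hbn hb
    exact (IsLocalization.AtPrime.isUnit_mk'_iff (Localization.AtPrime n) n b s).mpr hbn
  obtain ⟨π, hπ⟩ := IsDiscreteValuationRing.exists_irreducible B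
  have hπm : π ∈ maximalIdeal B := by
    rw [hπ.maximalIdeal_eq]; exact Ideal.mem_span_singleton_self π
  have hinjBM : Function.Injective (algebraMap B M) := by
    rw [IsScalarTower.algebraMap_eq B L M]
    exact (algebraMap L M).injective.comp (IsFractionRing.injective B L)
  have hn0 : n ≠ ⊥ := by
    intro h0
    have h1 : algebraMap B (integralClosure B M) π ∈ n := by
      rw [hn, Ideal.mem_comap]
      show ι (algebraMap B (integralClosure B M) π) ∈ maximalIdeal W
      rw [ValuationSubring.valuation_lt_one_iff]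
      exact hW.2 π hπm
    rw [h0, Ideal.mem_bot] at h1
    have h2 : algebraMap B M π = 0 := congrArg (fun b : integralClosure B M => (b : M)) h1
    exact hπ.ne_zero (hinjBM (by rw [h2, map_zero]))
  haveI : IsDomain (Localization.AtPrime n) :=
    IsLocalization.isDomain_localization n.primeCompl_le_nonZeroDivisors
  haveI hO : IsDiscreteValuationRing (Localization.AtPrime n) :=
    IsLocalization.AtPrime.isDiscreteValuationRing_of_dedekind_domain (integralClosure B M) hn0
      (Localization.AtPrime n)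
  letI algOL : Algebra (Localization.AtPrime n) M := (W.subtype.comp ρ).toAlgebra
  haveI : IsScalarTower (integralClosure B M) (Localization.AtPrime n) M :=
    IsScalarTower.of_algebraMap_eq (fun b => by
      show (b : M) = W.subtype (ρ (algebraMap _ _ b))
      rw [hρ]; rfl)
  haveI : IsFractionRing (Localization.AtPrime n) M :=
    IsFractionRing.isFractionRing_of_isDomain_of_isLocalization n.primeCompl
      (Localization.AtPrime n) M
  have hρsurj : Function.Surjective ρ := by
    intro x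
    rcases ValuationRing.isInteger_or_isInteger (Localization.AtPrime n) (x : M) with
      ⟨y, hy⟩ | ⟨y, hy⟩
    · exact ⟨y, Subtype.ext hy⟩
    · have hy' : ((ρ y : W) : M) = (x : M)⁻¹ := hy
      by_cases hx0 : x = 0
      · exact ⟨0, by rw [map_zero, hx0]⟩
      · have hxL : (x : M) ≠ 0 := fun h => hx0 (Subtype.ext h)
        by_cases hyu : IsUnit y
        · obtain ⟨u, rfl⟩ := hyu
          refine ⟨↑u⁻¹, Subtype.ext ?_⟩
          have h2 : ((ρ ↑u⁻¹ : W) : M) * ((ρ ↑u : W) : M) = 1 := by
            have h3 : ρ ↑u⁻¹ * ρ ↑u = 1 := by rw [← map_mul, Units.inv_mul, map_one]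
            exact congrArg Subtype.val h3
          rw [eq_inv_of_mul_eq_one_left h2, hy', inv_inv]
        · exfalso
          have hny : ¬ IsUnit (ρ y) := fun h => hyu (hρloc y h)
          apply hny
          refine IsUnit.of_mul_eq_one x (Subtype.ext ?_)
          show ((ρ y : W) : M) * (x : M) = 1
          rw [hy', inv_mul_cancel₀ hxL]
  obtain ⟨y, hy⟩ := hρsurj ⟨a, ha⟩
  obtain ⟨⟨c, s⟩, rfl⟩ := IsLocalization.mk'_surjective n.primeCompl y
  have h1 : ρ (IsLocalization.mk' _ c s) * ι s = ι c := by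
    rw [← hρ (s : integralClosure B M), ← map_mul, IsLocalization.mk'_spec, hρ]
  rw [hy] at h1
  have h1' : a * ((s : integralClosure B M) : M) = (c : M) := congrArg Subtype.val h1
  have hsu : IsUnit (ι s) := hunits s
  have hs0 : ((s : integralClosure B M) : M) ≠ 0 := by
    intro h0
    have : ι s = 0 := Subtype.ext h0
    rw [this] at hsu
    exact not_isUnit_zero hsu
  refine ⟨(c : M), ((s : integralClosure B M) : M), c.2, (s : integralClosure B M).2, hs0, ?_, h1'⟩
  obtain ⟨u, hu⟩ := hsu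
  have h2 : ((↑u⁻¹ : W) : M) * ((ι s : W) : M) = 1 := by
    have h3 : (↑u⁻¹ : W) * ι s = 1 := by rw [← hu, Units.inv_mul]
    exact congrArg Subtype.val h3
  have : ((s : integralClosure B M) : M)⁻¹ = ((↑u⁻¹ : W) : M) :=
    (eq_inv_of_mul_eq_one_left h2).symm
  rw [this]
  exact (↑u⁻¹ : W).2

section FieldPkg

open Polynomial

variable {L M : Type u} [Field L] [Field M] [Algebra L M] (F₁ : IntermediateField L M) (y : M)
  (p : ℕ) (hp : p.Prime) [CharP M p]

include hp in
theorem minpoly_eq (hy : y ∉ F₁) (hyp : y ^ p ∈ F₁) :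
    minpoly F₁ y = X ^ p - C (⟨y ^ p, hyp⟩ : F₁) := by
  haveI : Fact p.Prime := ⟨hp⟩
  have hirr : Irreducible (X ^ p - C (⟨y ^ p, hyp⟩ : F₁)) := by
    apply X_pow_sub_C_irreducible_of_prime hp
    intro b hb
    have h1 : ((b : F₁) : M) ^ p = y ^ p := congrArg Subtype.val hb
    have h2 : ((b : F₁) : M) = y := frobenius_inj M p h1
    exact hy (h2 ▸ b.2)
  have hmonic : (X ^ p - C (⟨y ^ p, hyp⟩ : F₁)).Monic := monic_X_pow_sub_C _ hp.ne_zero
  have heval : aeval y (X ^ p - C (⟨y ^ p, hyp⟩ : F₁)) = 0 := by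
    rw [map_sub, map_pow, aeval_X, aeval_C]
    exact sub_self _
  exact (minpoly.eq_of_irreducible_of_monic hirr heval hmonic).symm

include hp in
theorem coeff_unique (hy : y ∉ F₁) (hyp : y ^ p ∈ F₁) (c : Fin p → M) (hc : ∀ j, c j ∈ F₁)
    (h0 : ∑ j, c j * y ^ (j : ℕ) = 0) : ∀ j, c j = 0 := by
  classical
  let q : F₁[X] := ∑ j : Fin p, C (⟨c j, hc j⟩ : F₁) * X ^ (j : ℕ)
  have hq : aeval y q = 0 := by
    simp only [q, map_sum, map_mul, map_pow, aeval_X, aeval_C]
    exact h0
  have hdeg : q.degree < p := Polynomial.degree_sum_fin_lt _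
  have hq0 : q = 0 := by
    by_contra hne
    have h1 := minpoly.degree_le_of_ne_zero F₁ y hne hq
    rw [minpoly_eq F₁ y p hp hy hyp, degree_X_pow_sub_C hp.pos] at h1
    exact absurd (lt_of_le_of_lt h1 hdeg) (lt_irrefl _)
  intro j
  have h2 : q.coeff (j : ℕ) = (⟨c j, hc j⟩ : F₁) := by
    simp only [q, finsetSum_coeff, coeff_C_mul_X_pow]
    rw [Finset.sum_eq_single j]
    · simp
    · intro i _ hij
      rw [if_neg]
      intro h
      exact hij (Fin.ext h.symm)
    · intro h
      exact absurd (Finset.mem_univ j) h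
  rw [hq0, coeff_zero] at h2
  exact (congrArg Subtype.val h2).symm

include hp in
theorem exists_coeffs (hy : y ∉ F₁) (hyp : y ^ p ∈ F₁) (htop : Algebra.adjoin F₁ {y} = ⊤)
    (m : M) : ∃ c : Fin p → M, (∀ j, c j ∈ F₁) ∧ m = ∑ j, c j * y ^ (j : ℕ) := by
  have hm : m ∈ Algebra.adjoin F₁ {y} := by rw [htop]; trivial
  rw [Algebra.adjoin_singleton_eq_range_aeval] at hm
  obtain ⟨q, rfl⟩ := hm
  set f : F₁[X] := X ^ p - C (⟨y ^ p, hyp⟩ : F₁) with hf
  have hmonic : f.Monic := monic_X_pow_sub_C _ hp.ne_zero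
  have heval : aeval y f = 0 := by
    rw [hf, map_sub, map_pow, aeval_X, aeval_C]
    exact sub_self _
  have hfdeg : f.natDegree = p := natDegree_X_pow_sub_C
  have hr : aeval y q = aeval y (q %ₘ f) := by
    conv_lhs => rw [← Polynomial.modByMonic_add_div q f]
    rw [map_add, map_mul, heval, zero_mul, add_zero]
  have hrdeg : (q %ₘ f).natDegree < p := by
    have := Polynomial.natDegree_modByMonic_lt q hmonic (by
      intro h1
      rw [h1, natDegree_one] at hfdeg
      exact hp.ne_zero hfdeg.symm)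
    rwa [hfdeg] at this
  refine ⟨fun j => (((q %ₘ f).coeff (j : ℕ) : F₁) : M), fun j => ((q %ₘ f).coeff (j : ℕ)).2, ?_⟩
  rw [AlgHom.toRingHom_eq_coe, RingHom.coe_coe, hr, Polynomial.aeval_eq_sum_range' hrdeg,
    ← Fin.sum_univ_eq_sum_range (fun i => (q %ₘ f).coeff i • y ^ i) p]
  rfl

end FieldPkg

section DVRlemmas

variable {B : Type u} [CommRing B] [IsDomain B] [IsDiscreteValuationRing B]

/-- every nonzero element of a DVR divides a power of any nonzero non-unit -/
theorem exists_dvd_pow (ϖ : B) (hϖ0 : ϖ ≠ 0) (hϖm : ϖ ∈ maximalIdeal B) (b : B) (hb : b ≠ 0) :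
    ∃ n : ℕ, b ∣ ϖ ^ n := by
  obtain ⟨π, hπ⟩ := IsDiscreteValuationRing.exists_irreducible B
  obtain ⟨n, u, rfl⟩ := IsDiscreteValuationRing.eq_unit_mul_pow_irreducible hb hπ
  obtain ⟨m, u', rfl⟩ := IsDiscreteValuationRing.eq_unit_mul_pow_irreducible hϖ0 hπ
  have hm : m ≠ 0 := by
    intro h0
    rw [h0, pow_zero, mul_one] at hϖm
    exact (mem_maximalIdeal _).mp hϖm u'.isUnit
  refine ⟨n, ?_⟩
  have hle : n ≤ m * n := Nat.le_mul_of_pos_left n (Nat.pos_of_ne_zero hm)
  refine ⟨(↑u⁻¹ : B) * (↑u' : B) ^ n * π ^ (m * n - n), ?_⟩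
  rw [mul_pow, ← pow_mul]
  calc (↑u' : B) ^ n * π ^ (m * n) = (↑u' : B) ^ n * (π ^ n * π ^ (m * n - n)) := by
        rw [← pow_add, Nat.add_sub_cancel' hle]
    _ = ((↑u : B) * (↑u⁻¹ : B)) * ((↑u' : B) ^ n * (π ^ n * π ^ (m * n - n))) := by
        rw [Units.mul_inv, one_mul]
    _ = _ := by ring

variable {M : Type u} [Field M] [Algebra B M]

theorem exists_pow_mul_integral (hinj : Function.Injective (algebraMap B M))
    [Algebra.IsAlgebraic B M] (ϖ : B) (hϖ0 : ϖ ≠ 0) (hϖm : ϖ ∈ maximalIdeal B) (m : M) :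
    ∃ t : ℕ, ∀ t' : ℕ, t ≤ t' → IsIntegral B (algebraMap B M ϖ ^ t' * m) := by
  obtain ⟨b, hb, hbm⟩ := (Algebra.IsAlgebraic.isAlgebraic (R := B) m).exists_integral_multiple
  obtain ⟨n, d, hd⟩ := exists_dvd_pow ϖ hϖ0 hϖm b hb
  refine ⟨n, fun t' ht' => ?_⟩
  have h1 : algebraMap B M ϖ ^ t' * m =
      algebraMap B M (ϖ ^ (t' - n) * d) * (b • m) := by
    rw [Algebra.smul_def, ← mul_assoc, ← map_mul, ← map_pow]
    congr 2
    rw [mul_assoc, mul_comm d b, ← hd, ← pow_add, Nat.sub_add_cancel ht']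
  rw [h1]
  exact (isIntegral_algebraMap).mul hbm

end DVRlemmas

section ND
variable (p : ℕ) (hp : p.Prime) (B K L : Type u) [CommRing B] [IsDomain B]
    [IsDiscreteValuationRing B] [Field K] [Field L] [Algebra B L] [IsFractionRing B L]
    [Algebra K L] [CharP K p] [Algebra.IsGeometricallyReduced K L]
    (K₁ K₂ : Type u) [Field K₁] [Field K₂] [Algebra K K₁] [Algebra K K₂] [Algebra K₁ K₂]
    [IsScalarTower K K₁ K₂] [FiniteDimensional K K₁] [FiniteDimensional K₁ K₂]
    (x : K₂) (hx : x ∉ (algebraMap K₁ K₂).range) (hxp : x ^ p ∈ (algebraMap K₁ K₂).range)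
    (M : Type u) [Field M] [Algebra K M] [Algebra L M] [Algebra K₂ M] [IsScalarTower K L M]
    [IsScalarTower K K₂ M] (hgen : Algebra.adjoin L (Set.range (algebraMap K₂ M)) = ⊤)

include K hp hx hxp hgen in
/-- (ND) bounded denominators (uses Nagata).  NOTE: `K` and its instances (`CharP K p`,
`FiniteDimensional K K₁`, the towers) are `include`d here; without them the statement has neither
characteristic `p` nor finiteness of `M/L`. -/
theorem bounded_denominators (hdeg : Module.finrank K₁ K₂ = p)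
    (hNI : algebraMap K₂ M x ∉
      Algebra.adjoin L (Set.range ((algebraMap K₂ M).comp (algebraMap K₁ K₂))))
    (hB : CAlg.IsNagata B) (ϖ : B) (hϖ0 : ϖ ≠ 0)
    (hϖm : ϖ ∈ IsLocalRing.maximalIdeal B) :
    ∃ t : ℕ, ∀ W : ValuationSubring M,
      EtRam.Dominates B ((algebraMap L M).comp (algebraMap B L)) W →
      ∀ c : Fin p → M,
        (∀ i, c i ∈ Algebra.adjoin L (Set.range ((algebraMap K₂ M).comp (algebraMap K₁ K₂)))) →
        ∀ i, ∃ w ∈ W, algebraMap L M (algebraMap B L ϖ) ^ t * c i =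
          w * ∑ j, c j * algebraMap K₂ M x ^ (j : ℕ) := by
  classical
  haveI : Fact p.Prime := ⟨hp⟩
  -- basic structure
  haveI : FiniteDimensional K K₂ := FiniteDimensional.trans K K₁ K₂
  haveI hfinLM : FiniteDimensional L M :=
    Groth.Agent.H10.ValDVR.finite_of_adjoin_eq_top K L K₂ M hgen
  haveI : Algebra.IsAlgebraic L M := inferInstance
  haveI : CharP M p := charP_of_injective_algebraMap (algebraMap K M).injective p
  letI algBM : Algebra B M := ((algebraMap L M).comp (algebraMap B L)).toAlgebra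
  haveI : IsScalarTower B L M := IsScalarTower.of_algebraMap_eq (fun _ => rfl)
  have hinjBM : Function.Injective (algebraMap B M) :=
    (algebraMap L M).injective.comp (IsFractionRing.injective B L)
  haveI : Algebra.IsAlgebraic B L := IsLocalization.isAlgebraic L (nonZeroDivisors B)
  haveI : Algebra.IsAlgebraic B M := Algebra.IsAlgebraic.trans B L M
  set g₁ : K₁ →+* M := (algebraMap K₂ M).comp (algebraMap K₁ K₂) with hg₁
  set y : M := algebraMap K₂ M x with hydef
  let F₁ : IntermediateField L M := IntermediateField.adjoin L (Set.range g₁)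
  have hF₁ : F₁.toSubalgebra = Algebra.adjoin L (Set.range g₁) :=
    IntermediateField.adjoin_toSubalgebra (Set.range g₁)
  have hmem : ∀ m : M, m ∈ Algebra.adjoin L (Set.range g₁) ↔ m ∈ F₁ := by
    intro m
    rw [← hF₁]
    exact Iff.rfl
  have hg₁mem : ∀ k, g₁ k ∈ F₁ := fun k =>
    IntermediateField.subset_adjoin L _ ⟨k, rfl⟩
  have hy : y ∉ F₁ := fun h => hNI ((hmem y).mpr h)
  obtain ⟨ξ₁, hξ₁⟩ := hxp
  have hyp : y ^ p ∈ F₁ := by
    have : y ^ p = g₁ ξ₁ := by
      rw [hydef, ← map_pow, ← hξ₁]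
      rfl
    rw [this]
    exact hg₁mem ξ₁
  -- K₂ = K₁[x]
  have hK₂ : ∀ k : K₂, ∃ q : Polynomial K₁, k = Polynomial.aeval x q := by
    intro k
    haveI := IntermediateField.isSimpleOrder_of_finrank_prime (F := K₁) (E := K₂) (hdeg ▸ hp)
    have htop : IntermediateField.adjoin K₁ {x} = ⊤ := by
      rcases eq_bot_or_eq_top (IntermediateField.adjoin K₁ {x}) with h | h
      · exfalso
        have hxm : x ∈ IntermediateField.adjoin K₁ {x} :=
          IntermediateField.mem_adjoin_simple_self K₁ x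
        rw [h, IntermediateField.mem_bot] at hxm
        obtain ⟨a, ha⟩ := hxm
        exact hx ⟨a, ha⟩
      · exact h
    have hk : k ∈ (IntermediateField.adjoin K₁ {x}).toSubalgebra := by
      rw [htop]; trivial
    rw [IntermediateField.adjoin_toSubalgebra, Algebra.adjoin_singleton_eq_range_aeval] at hk
    obtain ⟨q, hq⟩ := hk
    exact ⟨q, hq.symm⟩
  -- M = F₁[y]
  have hadj : Algebra.adjoin F₁ {y} = ⊤ := by
    have hle : Algebra.adjoin L (Set.range (algebraMap K₂ M)) ≤
        (Algebra.adjoin F₁ {y}).restrictScalars L := by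
      apply Algebra.adjoin_le
      rintro _ ⟨k, rfl⟩
      obtain ⟨q, rfl⟩ := hK₂ k
      show algebraMap K₂ M (Polynomial.aeval x q) ∈ Algebra.adjoin F₁ {y}
      rw [Polynomial.aeval_def, Polynomial.hom_eval₂, Polynomial.eval₂_eq_sum_range]
      have hterm : ∀ i : ℕ, g₁ (q.coeff i) * y ^ i ∈ Algebra.adjoin F₁ {y} := by
        intro i
        have h1 : g₁ (q.coeff i) ∈ Algebra.adjoin F₁ {y} :=
          Subalgebra.algebraMap_mem (Algebra.adjoin F₁ {y})
            (⟨g₁ (q.coeff i), hg₁mem _⟩ : F₁)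
        exact Subalgebra.mul_mem _ h1
          (Subalgebra.pow_mem _ (Algebra.subset_adjoin (Set.mem_singleton y)) i)
      exact Subalgebra.sum_mem _ fun i _ => hterm i
    rw [hgen] at hle
    rw [eq_top_iff]
    intro m _
    exact hle (show m ∈ (⊤ : Subalgebra L M) from trivial)
  have hU := coeff_unique F₁ y p hp hy hyp
  have hSp := exists_coeffs F₁ y p hp hy hyp hadj
  -- p-th powers lie in F₁
  have hpow : ∀ m : M, m ^ p ∈ F₁ := by
    intro m
    obtain ⟨c, hc, rfl⟩ := hSp m
    rw [sum_pow_char]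
    refine F₁.sum_mem fun j _ => ?_
    rw [mul_pow, ← pow_mul, mul_comm (j : ℕ) p, pow_mul]
    exact F₁.mul_mem (pow_mem (hc j) p) (pow_mem hyp _)
  -- integral closure finite
  have hfinC : Module.Finite B (integralClosure B M) := by
    apply Groth.Agent.H73.NagataFin.finite_integralClosure_of_isNagata_field B hB L M
    intro z
    obtain ⟨a, b, hb, rfl⟩ := IsFractionRing.div_surjective (A := B) z
    refine ⟨a, b, ?_, ?_⟩
    · exact IsFractionRing.to_map_ne_zero_of_mem_nonZeroDivisors hb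
    · rw [div_mul_cancel₀]
      exact IsFractionRing.to_map_ne_zero_of_mem_nonZeroDivisors hb
  obtain ⟨n, e, he⟩ := Module.Finite.exists_fin (R := B) (M := integralClosure B M)
  -- coefficients of the generators
  choose a ha hae using fun k : Fin n => hSp ((e k : integralClosure B M) : M)
  -- clear denominators
  choose τ hτ using fun kj : Fin n × Fin p =>
    exists_pow_mul_integral hinjBM ϖ hϖ0 hϖm (a kj.1 kj.2)
  let t₀ : ℕ := Finset.univ.sup τ
  have ht₀ : ∀ k j, IsIntegral B (algebraMap B M ϖ ^ t₀ * a k j) := fun k j =>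
    hτ (k, j) t₀ (Finset.le_sup (f := τ) (Finset.mem_univ (k, j)))
  refine ⟨t₀ + 1, ?_⟩
  intro W hW c hc i
  have hWB : ∀ b : B, algebraMap B M b ∈ W := hW.1
  have hWint : ∀ {m : M}, IsIntegral B m → m ∈ W := fun hm =>
    integral_mem_valuationSubring W hWB hm
  have hc' : ∀ j, c j ∈ F₁ := fun j => (hmem _).mp (hc j)
  -- key step (h)
  have key : ∀ (d : Fin p → M), (∀ j, d j ∈ F₁) → (∑ j, d j * y ^ (j : ℕ)) ∈ W →
      ∀ j, algebraMap B M ϖ ^ t₀ * d j ∈ W := by
    intro d hd hdW j
    obtain ⟨yC, s, hyC, hs, hs0, hsW, hmul⟩ :=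
      exists_fraction B L M hfinC W hW (∑ j, d j * y ^ (j : ℕ)) hdW
    -- replace s by s^p
    set σ : M := s ^ p with hσ
    have hσF : σ ∈ F₁ := hpow s
    have hσ0 : σ ≠ 0 := pow_ne_zero p hs0
    have hσW : σ⁻¹ ∈ W := by
      rw [hσ, ← inv_pow]
      exact W.pow_mem hsW p
    have hyC' : IsIntegral B (yC * s ^ (p - 1)) := hyC.mul (hs.pow _)
    have hmul' : (∑ j, d j * y ^ (j : ℕ)) * σ = yC * s ^ (p - 1) := by
      rw [hσ, ← hmul, mul_assoc, ← pow_succ', Nat.sub_add_cancel hp.one_le]
    -- write the integral element in terms of generators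
    have hspan : (⟨yC * s ^ (p - 1), hyC'⟩ : integralClosure B M) ∈
        Submodule.span B (Set.range e) := by rw [he]; trivial
    obtain ⟨β, hβ⟩ := (Submodule.mem_span_range_iff_exists_fun B).mp hspan
    have hβ' : yC * s ^ (p - 1) = ∑ k, algebraMap B M (β k) * ((e k : integralClosure B M) : M) := by
      have := congrArg (fun z : integralClosure B M => (z : M)) hβ
      simp only [AddSubmonoidClass.coe_finset_sum, Algebra.smul_def] at this
      rw [← this]
      rfl
    -- compare coefficients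
    have hcmp : ∑ j, (σ * d j - ∑ k, algebraMap B M (β k) * a k j) * y ^ (j : ℕ) = 0 := by
      have h1 : ∑ j, (σ * d j) * y ^ (j : ℕ) = yC * s ^ (p - 1) := by
        rw [← hmul', Finset.sum_mul]
        refine Finset.sum_congr rfl fun j _ => ?_
        ring
      have h2 : ∑ j, (∑ k, algebraMap B M (β k) * a k j) * y ^ (j : ℕ) = yC * s ^ (p - 1) := by
        rw [hβ']
        simp_rw [Finset.sum_mul]
        rw [Finset.sum_comm]
        refine Finset.sum_congr rfl fun k _ => ?_
        rw [hae k, Finset.mul_sum]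
        refine Finset.sum_congr rfl fun j _ => ?_
        ring
      simp_rw [sub_mul]
      rw [Finset.sum_sub_distrib, h1, h2, sub_self]
    have hBF : ∀ b : B, algebraMap B M b ∈ F₁ := fun b => F₁.algebraMap_mem (algebraMap B L b)
    have hz := hU (fun j => σ * d j - ∑ k, algebraMap B M (β k) * a k j)
      (fun j => F₁.sub_mem (F₁.mul_mem hσF (hd j))
        (F₁.sum_mem fun k _ => F₁.mul_mem (hBF _) (ha k j))) hcmp j
    have hdj : d j = σ⁻¹ * ∑ k, algebraMap B M (β k) * a k j := by
      have : σ * d j = ∑ k, algebraMap B M (β k) * a k j := sub_eq_zero.mp hz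
      rw [← this, ← mul_assoc, inv_mul_cancel₀ hσ0, one_mul]
    rw [hdj, mul_left_comm, Finset.mul_sum]
    refine W.mul_mem _ _ hσW (W.toSubring.sum_mem fun k _ => ?_)
    rw [mul_left_comm]
    exact W.mul_mem _ _ (hWB _) (hWint (ht₀ k j))
  -- final step
  have hϖeq : algebraMap L M (algebraMap B L ϖ) = algebraMap B M ϖ := rfl
  rw [hϖeq]
  set S : M := ∑ j, c j * y ^ (j : ℕ) with hS
  by_cases hS0 : S = 0
  · have := hU c hc' hS0 i
    exact ⟨0, W.zero_mem, by rw [this, mul_zero, zero_mul]⟩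
  · have hϖM0 : algebraMap B M ϖ ≠ 0 := fun h => hϖ0 (hinjBM (by rw [h, map_zero]))
    refine ⟨algebraMap B M ϖ ^ (t₀ + 1) * c i / S, ?_, by rw [div_mul_cancel₀ _ hS0]⟩
    by_contra hw
    have hw0 : algebraMap B M ϖ ^ (t₀ + 1) * c i / S ≠ 0 := fun h => hw (h ▸ W.zero_mem)
    have hci : c i ≠ 0 := by
      intro h
      rw [h, mul_zero, zero_div] at hw0
      exact hw0 rfl
    have hwinv : (algebraMap B M ϖ ^ (t₀ + 1) * c i / S)⁻¹ ∈ W :=
      (W.mem_or_inv_mem _).resolve_left hw
    set μ : M := (algebraMap B M ϖ ^ (t₀ + 1) * c i)⁻¹ with hμ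
    have hϖF : algebraMap B M ϖ ∈ F₁ := F₁.algebraMap_mem (algebraMap B L ϖ)
    have hμF : μ ∈ F₁ := F₁.inv_mem (F₁.mul_mem (pow_mem hϖF _) (hc' i))
    have hμS : ∑ j, (μ * c j) * y ^ (j : ℕ) ∈ W := by
      have : ∑ j, (μ * c j) * y ^ (j : ℕ) = (algebraMap B M ϖ ^ (t₀ + 1) * c i / S)⁻¹ := by
        simp_rw [mul_assoc]
        rw [← Finset.mul_sum, ← hS, hμ, inv_div, div_eq_mul_inv, mul_comm]
      rw [this]
      exact hwinv
    have h3 := key (fun j => μ * c j) (fun j => F₁.mul_mem hμF (hc' j)) hμS i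
    have h4 : algebraMap B M ϖ ^ t₀ * (μ * c i) = (algebraMap B M ϖ)⁻¹ := by
      rw [hμ, pow_succ, mul_inv, mul_inv]
      field_simp
    rw [h4] at h3
    have h5 : W.valuation (algebraMap B M ϖ) < 1 := hW.2 ϖ hϖm
    have h6 : W.valuation (algebraMap B M ϖ)⁻¹ ≤ 1 := (W.valuation_le_one_iff _).mpr h3
    rw [map_inv₀] at h6
    have h7 : W.valuation (algebraMap B M ϖ) ≠ 0 := by
      rw [ne_eq, map_eq_zero]
      exact hϖM0
    have h8 : 1 ≤ W.valuation (algebraMap B M ϖ) := by
      rwa [inv_le_one₀ (zero_lt_iff.mpr h7)] at h6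
    exact absurd h5 (not_lt.mpr h8)

end ND

end Groth.Agent.Lead.PI_ND
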