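import Mathlib
import Groth.Prelude.Def_EtRam
import Groth.Prelude.Def_Hensel
import Groth.Agent.H10.UnramExt
import Groth.Agent.H10.ValDVR
import Groth.Agent.H47.HensNoeth2

/-!
# (UD) for helper14's S7162 squad: the unramified direction
-/

set_option autoImplicit false
set_option linter.style.haveILetI false
universe u
open IsLocalRing

namespace Groth.Agent.Lead.SH_UD

section Union

variable {B V : Type u} [CommRing B] [IsLocalRing B] [CommRing V] [IsLocalRing V] [Algebra B V]
  [IsLocalHom (algebraMap B V)]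

/-- If a local `B`-algebra `V` is covered by local sub-extensions `B → W → V` which are weakly
unramified with separable residue extension, so is `V`. -/
theorem union_principle
    (H : ∀ x : V, ∃ (W : Type u) (_ : CommRing W) (_ : IsLocalRing W) (_ : Algebra B W)
        (_ : Algebra W V) (_ : IsScalarTower B W V) (_ : IsLocalHom (algebraMap B W))
        (_ : IsLocalHom (algebraMap W V)),
        (maximalIdeal B).map (algebraMap B W) = maximalIdeal W ∧
          Algebra.IsSeparable (ResidueField B) (ResidueField W) ∧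
          x ∈ Set.range (algebraMap W V)) :
    (maximalIdeal B).map (algebraMap B V) = maximalIdeal V ∧
      Algebra.IsSeparable (ResidueField B) (ResidueField V) := by
  constructor
  · apply le_antisymm
    · exact ((local_hom_TFAE (algebraMap B V)).out 0 2 rfl rfl).mp ‹_›
    · intro x hx
      obtain ⟨W, _, _, _, _, _, _, _, h1, -, w, rfl⟩ := H x
      have hw : w ∈ maximalIdeal W := by
        rw [mem_maximalIdeal, mem_nonunits_iff]
        intro hu
        exact ((mem_maximalIdeal _).1 hx) (hu.map _)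
      rw [← h1] at hw
      have h3 := Ideal.mem_map_of_mem (algebraMap W V) hw
      rwa [Ideal.map_map, ← IsScalarTower.algebraMap_eq] at h3
  · refine ⟨fun y => ?_⟩
    obtain ⟨x, rfl⟩ := residue_surjective y
    obtain ⟨W, _, _, _, _, _, _, _, -, h2, w, rfl⟩ := H x
    have hsep : IsSeparable (ResidueField B) (residue W w) := Algebra.IsSeparable.isSeparable _ _
    let f : ResidueField W →ₐ[ResidueField B] ResidueField V :=
      { ResidueField.map (algebraMap W V) with
        commutes' := by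
          intro r
          obtain ⟨b, rfl⟩ := residue_surjective r
          show ResidueField.map (algebraMap W V) (residue W (algebraMap B W b)) =
            residue V (algebraMap B V b)
          rw [ResidueField.map_residue, ← IsScalarTower.algebraMap_apply] }
    have hf : f (residue W w) = residue V (algebraMap W V w) := ResidueField.map_residue _ _
    rw [← hf]
    unfold IsSeparable at hsep ⊢
    rwa [minpoly.algHom_eq f f.injective]

end Union

section Stage

variable {A : Type u} [CommRing A] {N K₂ : Type u} [Field N] [Field K₂]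
  (h₂ : N →+* K₂) (V₂ : ValuationSubring K₂)
  {E : Type u} [CommRing E] [Algebra A E] (ψ : E →+* K₂)

/-- the subfield of `K₂` generated by `h₂ N` and `ψ E` -/
def FE : Subfield K₂ := Subfield.closure (Set.range h₂ ∪ Set.range ψ)

/-- the valuation ring `V₂ ∩ FE` -/
abbrev WE : ValuationSubring (FE h₂ ψ) := V₂.comap (FE h₂ ψ).subtype

/-- `B = V₂ ∩ N → V₂ ∩ FE` -/
def bToW : V₂.comap h₂ →+* WE h₂ V₂ ψ where
  toFun b := ⟨⟨h₂ b, Subfield.subset_closure (Or.inl ⟨b, rfl⟩)⟩, b.2⟩
  map_one' := Subtype.ext (Subtype.ext (map_one h₂))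
  map_mul' x y := Subtype.ext (Subtype.ext (map_mul h₂ (x : N) (y : N)))
  map_zero' := Subtype.ext (Subtype.ext (map_zero h₂))
  map_add' x y := Subtype.ext (Subtype.ext (map_add h₂ (x : N) (y : N)))

/-- `E → V₂ ∩ FE` -/
def eToW (hψV : ∀ e, ψ e ∈ V₂) : E →+* WE h₂ V₂ ψ where
  toFun e := ⟨⟨ψ e, Subfield.subset_closure (Or.inr ⟨e, rfl⟩)⟩, hψV e⟩
  map_one' := Subtype.ext (Subtype.ext (map_one ψ))
  map_mul' x y := Subtype.ext (Subtype.ext (map_mul ψ x y))
  map_zero' := Subtype.ext (Subtype.ext (map_zero ψ))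
  map_add' x y := Subtype.ext (Subtype.ext (map_add ψ x y))

theorem isLocalHom_bToW : IsLocalHom (bToW h₂ V₂ ψ) := by
  constructor
  intro b hb
  have h1 : IsUnit (EtRam.inclOfComap V₂ (FE h₂ ψ).subtype (bToW h₂ V₂ ψ b)) := hb.map _
  have h2 : EtRam.inclOfComap V₂ (FE h₂ ψ).subtype (bToW h₂ V₂ ψ b) =
      EtRam.inclOfComap V₂ h₂ b := Subtype.ext rfl
  rw [h2] at h1
  exact isUnit_of_map_unit (EtRam.inclOfComap V₂ h₂) b h1

theorem stage [IsDiscreteValuationRing (V₂.comap h₂)] (a : A →+* N)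
    (ha : ∀ x, a x ∈ V₂.comap h₂)
    [Algebra.EssFiniteType A E] [Algebra.FormallyUnramified A E]
    (hψV : ∀ e, ψ e ∈ V₂) (hψa : ∀ x : A, ψ (algebraMap A E x) = h₂ (a x)) :
    letI : Algebra (V₂.comap h₂) (WE h₂ V₂ ψ) := (bToW h₂ V₂ ψ).toAlgebra
    haveI : IsLocalHom (algebraMap (V₂.comap h₂) (WE h₂ V₂ ψ)) := isLocalHom_bToW h₂ V₂ ψ
    (maximalIdeal (V₂.comap h₂)).map (algebraMap (V₂.comap h₂) (WE h₂ V₂ ψ)) =
        maximalIdeal (WE h₂ V₂ ψ) ∧
      Algebra.IsSeparable (ResidueField (V₂.comap h₂)) (ResidueField (WE h₂ V₂ ψ)) := by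
  letI algBW : Algebra (V₂.comap h₂) (WE h₂ V₂ ψ) := (bToW h₂ V₂ ψ).toAlgebra
  letI algAB : Algebra A (V₂.comap h₂) := (RingHom.codRestrict a (V₂.comap h₂) ha).toAlgebra
  letI algAW : Algebra A (WE h₂ V₂ ψ) :=
    ((bToW h₂ V₂ ψ).comp (algebraMap A (V₂.comap h₂))).toAlgebra
  letI algEW : Algebra E (WE h₂ V₂ ψ) := (eToW h₂ V₂ ψ hψV).toAlgebra
  haveI : IsScalarTower A (V₂.comap h₂) (WE h₂ V₂ ψ) :=
    IsScalarTower.of_algebraMap_eq (fun x => rfl)
  haveI : IsScalarTower A E (WE h₂ V₂ ψ) :=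
    IsScalarTower.of_algebraMap_eq (fun x => Subtype.ext (Subtype.ext (hψa x).symm))
  haveI : IsLocalHom (algebraMap (V₂.comap h₂) (WE h₂ V₂ ψ)) := isLocalHom_bToW h₂ V₂ ψ
  have hgen : ∀ z : FE h₂ ψ, z ∈ Subfield.closure
      (Set.range ((algebraMap (WE h₂ V₂ ψ) (FE h₂ ψ)).comp
          (algebraMap (V₂.comap h₂) (WE h₂ V₂ ψ))) ∪
        Set.range ((algebraMap (WE h₂ V₂ ψ) (FE h₂ ψ)).comp (algebraMap E (WE h₂ V₂ ψ)))) := by
    intro z
    set S : Set (FE h₂ ψ) := Set.range ((algebraMap (WE h₂ V₂ ψ) (FE h₂ ψ)).comp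
          (algebraMap (V₂.comap h₂) (WE h₂ V₂ ψ))) ∪
        Set.range ((algebraMap (WE h₂ V₂ ψ) (FE h₂ ψ)).comp (algebraMap E (WE h₂ V₂ ψ))) with hS
    have hle : FE h₂ ψ ≤ (Subfield.closure S).map (FE h₂ ψ).subtype := by
      rw [RingHom.map_field_closure]
      unfold FE
      rw [Subfield.closure_le]
      rintro _ (⟨n, rfl⟩ | ⟨e, rfl⟩)
      · have key1 : ∀ m : N, m ∈ V₂.comap h₂ →
            h₂ m ∈ Subfield.closure ((FE h₂ ψ).subtype '' S) := by
          intro m hm
          apply Subfield.subset_closure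
          refine ⟨⟨h₂ m, Subfield.subset_closure (Or.inl ⟨m, rfl⟩)⟩, Or.inl ⟨⟨m, hm⟩, rfl⟩, rfl⟩
        rcases (V₂.comap h₂).mem_or_inv_mem n with hn | hn
        · exact key1 n hn
        · have := key1 n⁻¹ hn
          rw [map_inv₀] at this
          have h' := Subfield.inv_mem _ this
          rwa [inv_inv] at h'
      · apply Subfield.subset_closure
        exact ⟨⟨ψ e, Subfield.subset_closure (Or.inr ⟨e, rfl⟩)⟩, Or.inr ⟨e, rfl⟩, rfl⟩
    obtain ⟨y, hy, hyz⟩ := hle z.2
    have : y = z := Subtype.ext hyz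
    rwa [← this]
  obtain ⟨fu, eft⟩ := Groth.Agent.H10.UnramExt.key A E (WE h₂ V₂ ψ) (FE h₂ ψ) hgen
  haveI := fu
  haveI := eft
  exact ⟨Algebra.FormallyUnramified.map_maximalIdeal, inferInstance⟩

end Stage

section Main

theorem exists_finset {A' K' : Type u} [CommRing A'] [IsDomain A'] [Field K'] [Algebra A' K']
    [IsFractionRing A' K'] {N K₂ : Type u} [Field N] [Field K₂] [Algebra K' K₂]
    (h₂ : N →+* K₂) (hgen : Algebra.adjoin K' (Set.range h₂) = ⊤) (x : K₂) :
    ∃ Y : Finset A', x ∈ Subfield.closure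
      (Set.range h₂ ∪ ((algebraMap K' K₂).comp (algebraMap A' K')) '' (Y : Set A')) := by
  classical
  have hx : x ∈ Algebra.adjoin K' (Set.range h₂) := by rw [hgen]; exact Algebra.mem_top
  have mono : ∀ Y Y' : Finset A', Y ⊆ Y' → Subfield.closure
      (Set.range h₂ ∪ ((algebraMap K' K₂).comp (algebraMap A' K')) '' (Y : Set A')) ≤
      Subfield.closure
      (Set.range h₂ ∪ ((algebraMap K' K₂).comp (algebraMap A' K')) '' (Y' : Set A')) := by
    intro Y Y' hYY'
    apply Subfield.closure_mono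
    apply Set.union_subset_union_right
    apply Set.image_mono
    exact Finset.coe_subset.2 hYY'
  induction hx using Algebra.adjoin_induction with
  | mem y hy => exact ⟨∅, Subfield.subset_closure (Or.inl hy)⟩
  | algebraMap r =>
    obtain ⟨p, s, rfl⟩ := IsLocalization.exists_mk'_eq (nonZeroDivisors A') r
    refine ⟨{p, (s : A')}, ?_⟩
    rw [IsFractionRing.mk'_eq_div, map_div₀]
    apply Subfield.div_mem
    · apply Subfield.subset_closure
      exact Or.inr ⟨p, by simp, rfl⟩
    · apply Subfield.subset_closure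
      exact Or.inr ⟨(s : A'), by simp, rfl⟩
  | add y z _ _ hy hz =>
    obtain ⟨Y, hY⟩ := hy
    obtain ⟨Z, hZ⟩ := hz
    exact ⟨Y ∪ Z, Subfield.add_mem _ (mono _ _ Finset.subset_union_left hY)
      (mono _ _ Finset.subset_union_right hZ)⟩
  | mul y z _ _ hy hz =>
    obtain ⟨Y, hY⟩ := hy
    obtain ⟨Z, hZ⟩ := hz
    exact ⟨Y ∪ Z, Subfield.mul_mem _ (mono _ _ Finset.subset_union_left hY)
      (mono _ _ Finset.subset_union_right hZ)⟩

/-- (UD) the unramified direction: for `K₂ = K'·h₂(N)` and a valuation ring `V₂` of `K₂`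
dominating the strict henselization `A'`, the extension `V₂ ∩ N → V₂` is weakly unramified with
separable algebraic residue field extension. -/
theorem unramified_direction (A A' K K' : Type u) [CommRing A] [IsDomain A]
    [IsDiscreteValuationRing A] [CommRing A'] [IsDomain A'] [IsDiscreteValuationRing A']
    [Algebra A A'] [IsLocalHom (algebraMap A A')] [Hensel.IsStrictHenselization A A']
    [Field K] [Field K'] [Algebra A K] [IsFractionRing A K] [Algebra A' K'] [IsFractionRing A' K']
    [Algebra K K'] [Algebra A K'] [IsScalarTower A K K'] [IsScalarTower A A' K']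
    (N K₂ : Type u) [Field N] [Field K₂] [Algebra K N] [FiniteDimensional K N] [Algebra K' K₂]
    [Algebra K K₂] [IsScalarTower K K' K₂] (h₂ : N →ₐ[K] K₂)
    (hgen : Algebra.adjoin K' (Set.range h₂) = ⊤) (V₂ : ValuationSubring K₂)
    (hV₂ : EtRam.Dominates A' ((algebraMap K' K₂).comp (algebraMap A' K')) V₂) :
    @EtRam.IsWeaklyUnramified (V₂.comap (h₂ : N →+* K₂)) V₂ _ _ _ _
      (EtRam.inclOfComap V₂ (h₂ : N →+* K₂)).toAlgebra ∧
    @Algebra.IsSeparable (ResidueField (V₂.comap (h₂ : N →+* K₂))) (ResidueField V₂) _ _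
      (ResidueField.map (EtRam.inclOfComap V₂ (h₂ : N →+* K₂))).toAlgebra := by
  classical
  let g' : A' →+* K₂ := (algebraMap K' K₂).comp (algebraMap A' K')
  let a : A →+* N := (algebraMap K N).comp (algebraMap A K)
  let h : N →+* K₂ := (h₂ : N →+* K₂)
  have hcompat : ∀ x : A, h (a x) = g' (algebraMap A A' x) := by
    intro x
    show h₂ (algebraMap K N (algebraMap A K x)) =
      algebraMap K' K₂ (algebraMap A' K' (algebraMap A A' x))
    rw [h₂.commutes, ← IsScalarTower.algebraMap_apply A A' K',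
      IsScalarTower.algebraMap_apply A K K', ← IsScalarTower.algebraMap_apply K K' K₂]
  have ha : ∀ x, a x ∈ V₂.comap h := by
    intro x
    show h (a x) ∈ V₂
    rw [hcompat]
    exact hV₂.1 _
  letI algAN : Algebra A N := a.toAlgebra
  haveI : IsScalarTower A K N := IsScalarTower.of_algebraMap_eq (fun _ => rfl)
  haveI hB : IsDiscreteValuationRing (V₂.comap h) := by
    apply Groth.Agent.H10.ValDVR.isDVR_of_dominates_finite A K N
    refine ⟨ha, fun x hx => ?_⟩
    have hx' : algebraMap A A' x ∈ maximalIdeal A' := by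
      rw [mem_maximalIdeal, mem_nonunits_iff] at hx ⊢
      exact fun hu => hx (isUnit_of_map_unit _ _ hu)
    have h1 : V₂.valuation (g' (algebraMap A A' x)) < 1 := hV₂.2 _ hx'
    rw [← hcompat] at h1
    have hb : (⟨a x, ha x⟩ : V₂.comap h) ∈ maximalIdeal (V₂.comap h) := by
      rw [mem_maximalIdeal, mem_nonunits_iff]
      intro hu
      have hu' : IsUnit (EtRam.inclOfComap V₂ h ⟨a x, ha x⟩) := hu.map _
      rw [ValuationSubring.valuation_eq_one_iff] at hu'
      have : V₂.valuation (h (a x)) = 1 := hu'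
      rw [this] at h1
      exact lt_irrefl _ h1
    exact (ValuationSubring.valuation_lt_one_iff _ _).1 hb
  letI algBV : Algebra (V₂.comap h) V₂ := (EtRam.inclOfComap V₂ h).toAlgebra
  haveI : IsLocalHom (algebraMap (V₂.comap h) V₂) := EtRam.isLocalHom_inclOfComap V₂ h
  have hrep := (Groth.Agent.H47.HensNoeth.isIndEtaleLocal_of_isStrictHenselization A A').rep
  have main := union_principle (B := V₂.comap h) (V := V₂) (fun x => by
    obtain ⟨Y, hY⟩ := exists_finset (A' := A') (K' := K') h hgen (x : K₂)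
    obtain ⟨E, _, _, _, φ, hφ⟩ := hrep Y
    let ψ : E →+* K₂ := g'.comp (φ : E →+* A')
    have hψV : ∀ e, ψ e ∈ V₂ := fun e => hV₂.1 _
    have hψa : ∀ x : A, ψ (algebraMap A E x) = h (a x) := by
      intro x
      show g' (φ (algebraMap A E x)) = h (a x)
      rw [φ.commutes, hcompat]
    have hxF : (x : K₂) ∈ FE h ψ := by
      refine Subfield.closure_mono ?_ hY
      apply Set.union_subset_union_right
      rintro _ ⟨y, hy, rfl⟩
      obtain ⟨e, he⟩ := hφ y hy
      exact ⟨e, by show g' (φ e) = g' y; rw [he]⟩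
    obtain ⟨s1, s2⟩ := stage (A := A) h V₂ ψ a ha hψV hψa
    refine ⟨WE h V₂ ψ, inferInstance, inferInstance, (bToW h V₂ ψ).toAlgebra,
      (EtRam.inclOfComap V₂ (FE h ψ).subtype).toAlgebra,
      @IsScalarTower.of_algebraMap_eq _ _ _ _ _ _ (_) (_) (_) (fun b => Subtype.ext rfl),
      isLocalHom_bToW h V₂ ψ, EtRam.isLocalHom_inclOfComap V₂ (FE h ψ).subtype, s1, s2,
      ⟨⟨⟨(x : K₂), hxF⟩, x.2⟩, Subtype.ext rfl⟩⟩)
  refine ⟨main.1, ?_⟩
  have hinst : (ResidueField.map (EtRam.inclOfComap V₂ (h₂ : N →+* K₂))).toAlgebra =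
      (ResidueField.instAlgebra : Algebra (ResidueField (V₂.comap h)) (ResidueField V₂)) := by
    apply Algebra.algebra_ext
    intro r
    obtain ⟨b, rfl⟩ := residue_surjective r
    rfl
  rw [hinst]
  exact main.2

end Main

end Groth.Agent.Lead.SH_UD
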