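import Mathlib

/-!
# Projectivity of `(B/𝔄) ⊗_B Ω_{B/A}` from one lifting problem

For an `A`-algebra `B` and an ideal `𝔄` of `B`, put `R = B/𝔄`, `P = R ⊗_B Ω_{B/A}`,
`F = P →₀ R` (free on `P`), `π : F → P` the canonical surjection.  The kernel of
`R ⊕ F → R ⊕ P` (trivial square-zero extensions) has square zero, and a lift of
`b ↦ (b mod 𝔄, 1 ⊗ db) : B → R ⊕ P` to `R ⊕ F` gives an `R`-linear section of `π`.
-/

universe u
open TensorProduct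

namespace Groth.Agent.Lead.KaehlerProj

variable (A B : Type u) [CommRing A] [CommRing B] [Algebra A B] (𝔄 : Ideal B)

/-- `P = (B/𝔄) ⊗_B Ω_{B/A}`. -/
abbrev P : Type u := (B ⧸ 𝔄) ⊗[B] Ω[B⁄A]
/-- the free module on `P`. -/
abbrev F : Type u := (P A B 𝔄) →₀ (B ⧸ 𝔄)
/-- `R ⊕ F`. -/
abbrev C : Type u := TrivSqZeroExt (B ⧸ 𝔄) (F A B 𝔄)
/-- `R ⊕ P`. -/
abbrev C' : Type u := TrivSqZeroExt (B ⧸ 𝔄) (P A B 𝔄)

/-- the canonical surjection `F → P`. -/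
noncomputable def π : F A B 𝔄 →ₗ[B ⧸ 𝔄] P A B 𝔄 := Finsupp.linearCombination (B ⧸ 𝔄) id

lemma π_single (p : P A B 𝔄) : π A B 𝔄 (Finsupp.single p 1) = p := by
  simp [π]

/-- `R ⊕ F → R ⊕ P`. -/
noncomputable def f : C A B 𝔄 →ₐ[A] C' A B 𝔄 :=
  (TrivSqZeroExt.map (π A B 𝔄)).restrictScalars A

lemma fst_f (x : C A B 𝔄) : (f A B 𝔄 x).fst = x.fst := TrivSqZeroExt.fst_map _ x
lemma snd_f (x : C A B 𝔄) : (f A B 𝔄 x).snd = π A B 𝔄 x.snd := TrivSqZeroExt.snd_map _ x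

lemma f_surjective : Function.Surjective (f A B 𝔄) := by
  intro y
  refine ⟨TrivSqZeroExt.inl y.fst + TrivSqZeroExt.inr (Finsupp.single y.snd 1), ?_⟩
  apply TrivSqZeroExt.ext
  · rw [fst_f]; simp
  · rw [snd_f]; simp [π_single]

lemma ker_sq : RingHom.ker (f A B 𝔄) ^ 2 = ⊥ := by
  rw [eq_bot_iff, pow_two, Ideal.mul_le]
  intro x hx y hy
  have hx0 : x.fst = 0 := by
    have := congrArg TrivSqZeroExt.fst ((RingHom.mem_ker).mp hx)
    rwa [fst_f] at this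
  have hy0 : y.fst = 0 := by
    have := congrArg TrivSqZeroExt.fst ((RingHom.mem_ker).mp hy)
    rwa [fst_f] at this
  rw [Ideal.mem_bot]
  apply TrivSqZeroExt.ext
  · rw [TrivSqZeroExt.fst_mul, hx0, zero_mul]; rfl
  · rw [TrivSqZeroExt.snd_mul, hx0, hy0]; simp

lemma ker_nilpotent : IsNilpotent (RingHom.ker (f A B 𝔄)) := ⟨2, ker_sq A B 𝔄⟩

/-- `b ↦ 1 ⊗ db`. -/
noncomputable def δ : Derivation A B (P A B 𝔄) :=
  (TensorProduct.mk B (B ⧸ 𝔄) Ω[B⁄A] 1).compDer (KaehlerDifferential.D A B)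

lemma δ_apply (b : B) : δ A B 𝔄 b = (1 : B ⧸ 𝔄) ⊗ₜ[B] KaehlerDifferential.D A B b := rfl

/-- `b ↦ (b mod 𝔄, 1 ⊗ db)`. -/
noncomputable def u₁ : B →ₐ[A] C' A B 𝔄 where
  toFun b := TrivSqZeroExt.inl (algebraMap B (B ⧸ 𝔄) b) + TrivSqZeroExt.inr (δ A B 𝔄 b)
  map_one' := by
    apply TrivSqZeroExt.ext <;> simp
  map_mul' x y := by
    apply TrivSqZeroExt.ext
    · simp
    · simp only [TrivSqZeroExt.snd_add, TrivSqZeroExt.snd_inl, TrivSqZeroExt.snd_inr, zero_add,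
        TrivSqZeroExt.snd_mul, TrivSqZeroExt.fst_add, TrivSqZeroExt.fst_inl, TrivSqZeroExt.fst_inr,
        add_zero, Derivation.leibniz, op_smul_eq_smul, algebraMap_smul]
  map_zero' := by
    apply TrivSqZeroExt.ext <;> simp
  map_add' x y := by
    apply TrivSqZeroExt.ext <;> simp [add_add_add_comm]
  commutes' a := by
    apply TrivSqZeroExt.ext
    · simp [TrivSqZeroExt.algebraMap_eq_inl', ← IsScalarTower.algebraMap_apply]
    · simp [TrivSqZeroExt.algebraMap_eq_inl']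

lemma u₁_apply (b : B) : u₁ A B 𝔄 b =
    TrivSqZeroExt.inl (algebraMap B (B ⧸ 𝔄) b) + TrivSqZeroExt.inr (δ A B 𝔄 b) := rfl

/-- `(R ⊕ F)/ker ≃ R ⊕ P`. -/
noncomputable def e : (C A B 𝔄 ⧸ RingHom.ker (f A B 𝔄)) ≃ₐ[A] C' A B 𝔄 :=
  Ideal.quotientKerAlgEquivOfSurjective (f_surjective A B 𝔄)

lemma e_mk (x : C A B 𝔄) : e A B 𝔄 (Ideal.Quotient.mk _ x) = f A B 𝔄 x := rfl

/-- the map to lift. -/
noncomputable def u : B →ₐ[A] (C A B 𝔄 ⧸ RingHom.ker (f A B 𝔄)) :=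
  ((e A B 𝔄).symm : C' A B 𝔄 →ₐ[A] _).comp (u₁ A B 𝔄)

lemma u_apply (b : B) : u A B 𝔄 b = (e A B 𝔄).symm (u₁ A B 𝔄 b) := rfl

lemma u₁_eq_zero_of_mem_mul {x : B} (hx : x ∈ 𝔄 * 𝔄) : u₁ A B 𝔄 x = 0 := by
  have h1 : algebraMap B (B ⧸ 𝔄) x = 0 :=
    Ideal.Quotient.eq_zero_iff_mem.mpr (Ideal.mul_le_left hx)
  have h2 : δ A B 𝔄 x = 0 := by
    refine Submodule.smul_induction_on hx ?_ ?_
    · intro a ha b hb
      rw [smul_eq_mul, Derivation.leibniz, ← algebraMap_smul (B ⧸ 𝔄) a,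
        ← algebraMap_smul (B ⧸ 𝔄) b]
      rw [show algebraMap B (B ⧸ 𝔄) a = 0 from Ideal.Quotient.eq_zero_iff_mem.mpr ha,
        show algebraMap B (B ⧸ 𝔄) b = 0 from Ideal.Quotient.eq_zero_iff_mem.mpr hb]
      simp
    · intro a b ha hb
      rw [map_add, ha, hb, add_zero]
  rw [u₁_apply, h1, h2]
  simp

lemma u_eq_zero_of_mem_mul {x : B} (hx : x ∈ 𝔄 * 𝔄) : u A B 𝔄 x = 0 := by
  rw [u_apply, u₁_eq_zero_of_mem_mul A B 𝔄 hx, map_zero]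

lemma algebraMap_C_eq_zero {a : A} (ha : algebraMap A B a ∈ 𝔄) :
    algebraMap A (C A B 𝔄) a = 0 := by
  rw [TrivSqZeroExt.algebraMap_eq_inl']
  have : algebraMap A (B ⧸ 𝔄) a = 0 := by
    rw [IsScalarTower.algebraMap_apply A B (B ⧸ 𝔄)]
    exact Ideal.Quotient.eq_zero_iff_mem.mpr ha
  rw [this, TrivSqZeroExt.inl_zero]

theorem projective_of_lift (v : B →ₐ[A] C A B 𝔄)
    (hv : (Ideal.Quotient.mkₐ A (RingHom.ker (f A B 𝔄))).comp v = u A B 𝔄) :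
    Module.Projective (B ⧸ 𝔄) (P A B 𝔄) := by
  have hfv : ∀ b, f A B 𝔄 (v b) = u₁ A B 𝔄 b := by
    intro b
    have h1 : Ideal.Quotient.mk (RingHom.ker (f A B 𝔄)) (v b) = (e A B 𝔄).symm (u₁ A B 𝔄 b) :=
      DFunLike.congr_fun hv b
    rw [← e_mk, h1, AlgEquiv.apply_symm_apply]
  have hfst : ∀ b, (v b).fst = algebraMap B (B ⧸ 𝔄) b := by
    intro b
    have := congrArg TrivSqZeroExt.fst (hfv b)
    rw [fst_f, u₁_apply] at this
    simpa using this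
  have hsnd : ∀ b, π A B 𝔄 (v b).snd = δ A B 𝔄 b := by
    intro b
    have := congrArg TrivSqZeroExt.snd (hfv b)
    rw [snd_f, u₁_apply] at this
    simpa using this
  let D₀ : B →ₗ[A] F A B 𝔄 :=
    { toFun := fun b => (v b).snd
      map_add' := fun x y => by rw [map_add, TrivSqZeroExt.snd_add]
      map_smul' := fun a x => by rw [map_smul, TrivSqZeroExt.snd_smul]; rfl }
  let D' : Derivation A B (F A B 𝔄) := Derivation.mk' D₀ (by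
    intro a b
    change (v (a * b)).snd = a • (v b).snd + b • (v a).snd
    rw [map_mul, TrivSqZeroExt.snd_mul, hfst a, hfst b, op_smul_eq_smul, algebraMap_smul,
      algebraMap_smul])
  have hD' : ∀ b, D' b = (v b).snd := fun b => rfl
  let ℓ : Ω[B⁄A] →ₗ[B] F A B 𝔄 := D'.liftKaehlerDifferential
  let hh : P A B 𝔄 →ₗ[B ⧸ 𝔄] F A B 𝔄 := LinearMap.liftBaseChange (B ⧸ 𝔄) ℓ
  have key : ((π A B 𝔄).restrictScalars B) ∘ₗ ℓ = TensorProduct.mk B (B ⧸ 𝔄) Ω[B⁄A] 1 := by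
    apply LinearMap.ext_on (KaehlerDifferential.span_range_derivation A B)
    rintro _ ⟨b, rfl⟩
    change π A B 𝔄 (D'.liftKaehlerDifferential (KaehlerDifferential.D A B b)) = _
    rw [Derivation.liftKaehlerDifferential_comp_D, hD', hsnd]
    rfl
  refine Module.Projective.of_split hh (π A B 𝔄) ?_
  apply TensorProduct.AlgebraTensorModule.ext
  intro r ω
  have h3 : π A B 𝔄 (ℓ ω) = (1 : B ⧸ 𝔄) ⊗ₜ[B] ω := LinearMap.congr_fun key ω
  change π A B 𝔄 (LinearMap.liftBaseChange (B ⧸ 𝔄) ℓ (r ⊗ₜ[B] ω)) = r ⊗ₜ[B] ω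
  rw [LinearMap.liftBaseChange_tmul, map_smul, h3, TensorProduct.smul_tmul', smul_eq_mul, mul_one]

end Groth.Agent.Lead.KaehlerProj
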