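import Groth.Agent.Lead.GeomReg
import Groth.Agent.S4573
import Groth.Agent.S9406

/-!
# Geometric regularity: base change to arbitrary field extensions

Key facts (EGA IV 6.7.4, 0_IV 22.5.8), for a Noetherian algebra `S` over a field `k`:
* `geomRegular_iff_locFS`: `S` is geometrically regular over `k` iff every local ring of `S` is formally
  smooth over `k` for its adic topology;
* `regular_tensor_of_locFS`: then `L ⊗[k] S` is regular for EVERY field extension `L` of `k` for which it is
  Noetherian;
* `fs_iff_of_isSeparable`: adic formal smoothness does not change along a separable algebraic extension of the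
  base field.
-/

set_option autoImplicit false
universe u
open IsLocalRing TensorProduct

namespace Groth.Agent.Lead.GeomRegBC

/-- A localization of a regular ring is regular. -/
theorem isRegularRing_of_isLocalization {R : Type*} [CommRing R] (M : Submonoid R) (S : Type*)
    [CommRing S] [Algebra R S] [IsLocalization M S] [IsRegularRing R] : IsRegularRing S := by
  haveI : IsNoetherianRing S := IsLocalization.isNoetherianRing M S inferInstance
  rw [isRegularRing_iff]
  intro P hP
  haveI : IsLocalization.AtPrime (Localization.AtPrime P) (P.comap (algebraMap R S)) :=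
    IsLocalization.isLocalization_isLocalization_atPrime_isLocalization M (Localization.AtPrime P) P
  exact IsRegularLocalRing.of_ringEquiv
    (IsLocalization.algEquiv (P.comap (algebraMap R S)).primeCompl
      (Localization.AtPrime (P.comap (algebraMap R S))) (Localization.AtPrime P)).toRingEquiv

/-- `k' ⊗ S_q` is a localization of `k' ⊗ S`, hence regular when the latter is. -/
theorem regular_tensor_localization (k S : Type u) [Field k] [CommRing S] [Algebra k S]
    (k' : Type u) [CommRing k'] [Algebra k k'] (q : Ideal S) [q.IsPrime]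
    [IsRegularRing (k' ⊗[k] S)] : IsRegularRing (k' ⊗[k] Localization.AtPrime q) := by
  let f : k' ⊗[k] S →ₐ[k'] k' ⊗[k] Localization.AtPrime q :=
    Algebra.TensorProduct.map (AlgHom.id k' k') (IsScalarTower.toAlgHom k S (Localization.AtPrime q))
  letI : Algebra (k' ⊗[k] S) (k' ⊗[k] Localization.AtPrime q) := f.toRingHom.toAlgebra
  haveI : IsScalarTower k' (k' ⊗[k] S) (k' ⊗[k] Localization.AtPrime q) :=
    IsScalarTower.of_algebraMap_eq' f.comp_algebraMap.symm
  haveI := IsLocalization.tensorProduct_tensorProduct_right k k' q.primeCompl (Localization.AtPrime q)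
    (RingHom.ext fun x => by
      show f ((1 : k') ⊗ₜ[k] x) = (1 : k') ⊗ₜ[k] algebraMap S (Localization.AtPrime q) x
      simp [f])
  exact isRegularRing_of_isLocalization
    (q.primeCompl.map (Algebra.TensorProduct.includeRight (R := k) (A := k'))) _

/-- Generalization of `GeomReg.fs_localization_tensor`: if `A_q` is adic formally smooth over `k` and `Q` is a
prime of `L ⊗[k] A` contracting to `q`, then `(L ⊗[k] A)_Q` is adic formally smooth over `L`. -/
theorem fs_tensor_localization {k A : Type u} [Field k] [CommRing A] [Algebra k A]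
    (q : Ideal A) [q.IsPrime]
    (h : CAlgX.IsAdicFormallySmooth k (Localization.AtPrime q)
      (maximalIdeal (Localization.AtPrime q)))
    (L : Type u) [Field L] [Algebra k L] (Q : Ideal (L ⊗[k] A)) [Q.IsPrime]
    (hQ : Q.comap (Algebra.TensorProduct.includeRight : A →ₐ[k] L ⊗[k] A).toRingHom = q) :
    CAlgX.IsAdicFormallySmooth L (Localization.AtPrime Q)
      (maximalIdeal (Localization.AtPrime Q)) := by
  intro C _ _ J hJ ψ hψ
  obtain ⟨j, hj⟩ := hψ
  letI algkC : Algebra k C := Algebra.compHom C (algebraMap k L)
  haveI hST : IsScalarTower k L C := IsScalarTower.of_algebraMap_eq (fun x => rfl)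
  let ι : A →ₐ[k] L ⊗[k] A := Algebra.TensorProduct.includeRight
  let g : A →+* C ⧸ J :=
    (ψ.toRingHom.comp (algebraMap (L ⊗[k] A) (Localization.AtPrime Q))).comp ι.toRingHom
  have hg_apply : ∀ a : A, g a = ψ (algebraMap (L ⊗[k] A) (Localization.AtPrime Q) (ι a)) :=
    fun a => rfl
  have hmemQ : ∀ a : A, ι a ∈ Q ↔ a ∈ q := by
    intro a
    rw [← hQ, Ideal.mem_comap]
    rfl
  have hg_units : ∀ s : q.primeCompl, IsUnit (g s) := by
    intro s
    have hs : ι (s : A) ∈ Q.primeCompl := fun hmem => s.2 ((hmemQ _).mp hmem)
    rw [hg_apply]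
    exact (IsLocalization.map_units (Localization.AtPrime Q) ⟨ι (s : A), hs⟩).map ψ
  let φr : Localization.AtPrime q →+* C ⧸ J := IsLocalization.lift hg_units
  have hφr : ∀ a : A, φr (algebraMap A (Localization.AtPrime q) a) = g a :=
    fun a => IsLocalization.lift_eq hg_units a
  have hg_alg : ∀ x : k, g (algebraMap k A x) = algebraMap k (C ⧸ J) x := by
    intro x
    rw [hg_apply, ι.commutes, IsScalarTower.algebraMap_apply k L (L ⊗[k] A),
      ← IsScalarTower.algebraMap_apply L (L ⊗[k] A) (Localization.AtPrime Q), ψ.commutes]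
    rfl
  let φ : Localization.AtPrime q →ₐ[k] C ⧸ J :=
    { toRingHom := φr
      commutes' := fun x => by
        show φr (algebraMap k (Localization.AtPrime q) x) = _
        rw [IsScalarTower.algebraMap_apply k A (Localization.AtPrime q), hφr, hg_alg] }
  have hle' : q.map ((algebraMap (L ⊗[k] A) (Localization.AtPrime Q)).comp ι.toRingHom) ≤
      maximalIdeal (Localization.AtPrime Q) := by
    rw [Ideal.map_le_iff_le_comap]
    intro a ha
    rw [Ideal.mem_comap]
    show algebraMap (L ⊗[k] A) (Localization.AtPrime Q) (ι a) ∈ _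
    rw [IsLocalization.AtPrime.to_map_mem_maximal_iff (Localization.AtPrime Q) Q]
    exact (hmemQ a).mpr ha
  have hgker : ∀ x ∈ q ^ j, g x = 0 := by
    intro x hx
    rw [hg_apply]
    apply hj
    have h1 := Ideal.mem_map_of_mem
      ((algebraMap (L ⊗[k] A) (Localization.AtPrime Q)).comp ι.toRingHom) hx
    rw [Ideal.map_pow] at h1
    exact Ideal.pow_right_mono hle' j h1
  have hφ : ∀ x ∈ maximalIdeal (Localization.AtPrime q) ^ j, φ x = 0 := by
    intro x hx
    rw [← Localization.AtPrime.map_eq_maximalIdeal, ← Ideal.map_pow] at hx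
    have hker : (q ^ j).map (algebraMap A (Localization.AtPrime q)) ≤ RingHom.ker φr := by
      rw [Ideal.map_le_iff_le_comap]
      intro a ha
      rw [Ideal.mem_comap, RingHom.mem_ker, hφr]
      exact hgker a ha
    exact hker hx
  obtain ⟨φt, hφt⟩ := h C J hJ φ ⟨j, hφ⟩
  let φt' : A →ₐ[k] C := φt.comp (IsScalarTower.toAlgHom k A (Localization.AtPrime q))
  let Φ : L ⊗[k] A →ₐ[L] C :=
    Algebra.TensorProduct.lift (Algebra.ofId L C) φt' (fun _ _ => Commute.all _ _)
  have hΦ : ∀ r, Ideal.Quotient.mk J (Φ r) =
      ψ (algebraMap (L ⊗[k] A) (Localization.AtPrime Q) r) := by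
    intro r
    induction r using TensorProduct.induction_on with
    | zero => simp
    | tmul a b =>
      have h1 : (a ⊗ₜ[k] b : L ⊗[k] A) = algebraMap L (L ⊗[k] A) a * ι b := by
        rw [Algebra.TensorProduct.algebraMap_apply, Algebra.TensorProduct.includeRight_apply,
          Algebra.TensorProduct.tmul_mul_tmul, mul_one, one_mul]
        rfl
      have h2 : Φ (a ⊗ₜ[k] b) = algebraMap L C a * φt' b :=
        Algebra.TensorProduct.lift_tmul _ _ _ a b
      have h3 : Ideal.Quotient.mk J (φt' b) = g b := by
        rw [← hφr]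
        exact AlgHom.congr_fun hφt (algebraMap A (Localization.AtPrime q) b)
      rw [h2, h1, map_mul, map_mul, map_mul,
        ← IsScalarTower.algebraMap_apply L (L ⊗[k] A) (Localization.AtPrime Q), ψ.commutes]
      congr 1
    | add x y hx hy => rw [map_add, map_add, map_add, map_add, hx, hy]
  have hunits : ∀ y : Q.primeCompl, IsUnit (Φ y) := by
    intro y
    rw [← IsNilpotent.isUnit_quotient_mk_iff (I := J) ⟨2, hJ⟩, hΦ]
    exact (IsLocalization.map_units (Localization.AtPrime Q) y).map ψ
  let χ : Localization.AtPrime Q →ₐ[L] C := IsLocalization.liftAlgHom (M := Q.primeCompl) hunits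
  refine ⟨χ, ?_⟩
  apply AlgHom.coe_ringHom_injective
  apply IsLocalization.ringHom_ext Q.primeCompl
  refine RingHom.ext fun r => ?_
  show Ideal.Quotient.mk J (χ (algebraMap (L ⊗[k] A) (Localization.AtPrime Q) r)) =
    ψ (algebraMap (L ⊗[k] A) (Localization.AtPrime Q) r)
  rw [← hΦ]
  congr 1
  exact IsLocalization.lift_eq _ r

/-- If all local rings of `S` are adic formally smooth over `k`, then `L ⊗[k] S` is regular for every field
extension `L` of `k` such that `L ⊗[k] S` is Noetherian. -/
theorem regular_tensor_of_locFS {k S : Type u} [Field k] [CommRing S] [Algebra k S]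
    (h : ∀ (q : Ideal S) [q.IsPrime], CAlgX.IsAdicFormallySmooth k (Localization.AtPrime q)
      (maximalIdeal (Localization.AtPrime q)))
    (L : Type u) [Field L] [Algebra k L] [IsNoetherianRing (L ⊗[k] S)] :
    IsRegularRing (L ⊗[k] S) := by
  rw [isRegularRing_iff]
  intro Q hQ
  exact Groth.Agent.Lead.GeomReg.regular_of_fs
    (fs_tensor_localization
      (Q.comap (Algebra.TensorProduct.includeRight : S →ₐ[k] L ⊗[k] S).toRingHom) (h _) L Q rfl)

/-- Local rings are adic formally smooth as soon as the base changes to the finite extensions `k'` with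
`k'^p ⊆ k` are regular (from S4573). -/
theorem locFS_of_forall_regular {k S : Type u} [Field k] [CommRing S] [Algebra k S]
    [IsNoetherianRing S] (p : ℕ) [ExpChar k p]
    (h : ∀ (k' : Type u) [Field k'] [Algebra k k'], Module.Finite k k' →
        (∀ x : k', x ^ p ∈ (algebraMap k k').range) → IsRegularRing (k' ⊗[k] S))
    (q : Ideal S) [q.IsPrime] :
    CAlgX.IsAdicFormallySmooth k (Localization.AtPrime q)
      (maximalIdeal (Localization.AtPrime q)) := by
  refine (Groth.Agent.S4573.result (k := k) (A := Localization.AtPrime q) p).mpr ?_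
  intro k' _ _ hfin hpow
  haveI := h k' hfin hpow
  exact regular_tensor_localization k S k' q

theorem locFS_of_geomRegular {k S : Type u} [Field k] [CommRing S] [Algebra k S]
    [IsNoetherianRing S] (h : CAlg.IsGeometricallyRegular k S) (q : Ideal S) [q.IsPrime] :
    CAlgX.IsAdicFormallySmooth k (Localization.AtPrime q)
      (maximalIdeal (Localization.AtPrime q)) :=
  locFS_of_forall_regular (ringExpChar k) (fun k' _ _ hfin _ => h k' hfin) q

theorem noeth_tensor (k S : Type u) [Field k] [CommRing S] [Algebra k S] [IsNoetherianRing S]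
    (K : Type u) [Field K] [Algebra k K] [Algebra.EssFiniteType k K] :
    IsNoetherianRing (K ⊗[k] S) := by
  haveI : Algebra.EssFiniteType S (S ⊗[k] K) := inferInstance
  haveI := Algebra.EssFiniteType.isNoetherianRing S (S ⊗[k] K)
  exact isNoetherianRing_of_ringEquiv (S ⊗[k] K) (Algebra.TensorProduct.comm k S K).toRingEquiv

/-- Geometric regularity = adic formal smoothness of all local rings. -/
theorem geomRegular_iff_locFS {k S : Type u} [Field k] [CommRing S] [Algebra k S]
    [IsNoetherianRing S] :
    CAlg.IsGeometricallyRegular k S ↔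
      ∀ (q : Ideal S) [q.IsPrime], CAlgX.IsAdicFormallySmooth k (Localization.AtPrime q)
        (maximalIdeal (Localization.AtPrime q)) := by
  refine ⟨fun h q _ => locFS_of_geomRegular h q, fun h k' _ _ hfin => ?_⟩
  haveI := hfin
  haveI := noeth_tensor k S k'
  exact regular_tensor_of_locFS h k'

/-- Geometrically regular implies regular after any finitely generated field extension. -/
theorem regular_tensor_of_geomRegular {k S : Type u} [Field k] [CommRing S] [Algebra k S]
    [IsNoetherianRing S] (h : CAlg.IsGeometricallyRegular k S)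
    (K : Type u) [Field K] [Algebra k K] [Algebra.EssFiniteType k K] : IsRegularRing (K ⊗[k] S) := by
  haveI := noeth_tensor k S K
  exact regular_tensor_of_locFS (fun q _ => locFS_of_geomRegular h q) K

/-- Adic formal smoothness is insensitive to a separable algebraic extension of the base field. -/
theorem fs_iff_of_isSeparable (k k' B : Type u) [Field k] [Field k'] [Algebra k k']
    [Algebra.IsSeparable k k'] [CommRing B] [Algebra k' B] [Algebra k B] [IsScalarTower k k' B]
    (𝔫 : Ideal B) :
    CAlgX.IsAdicFormallySmooth k B 𝔫 ↔ CAlgX.IsAdicFormallySmooth k' B 𝔫 := by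
  haveI hEt : Algebra.FormallyEtale k k' := Algebra.FormallyEtale.of_isSeparable k k'
  haveI hSm : Algebra.FormallySmooth k k' := inferInstance
  haveI hUn : Algebra.FormallyUnramified k k' := inferInstance
  constructor
  · intro h C _ _ J hJ ψ hψ
    letI algkC : Algebra k C := Algebra.compHom C (algebraMap k k')
    haveI hST : IsScalarTower k k' C := IsScalarTower.of_algebraMap_eq (fun x => rfl)
    obtain ⟨χ, hχ⟩ := h C J hJ (ψ.restrictScalars k) hψ
    have hcomm : χ.comp (IsScalarTower.toAlgHom k k' B) = IsScalarTower.toAlgHom k k' C := by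
      apply Algebra.FormallyUnramified.lift_unique J ⟨2, hJ⟩
      apply AlgHom.ext
      intro y
      show Ideal.Quotient.mk J (χ (algebraMap k' B y)) = Ideal.Quotient.mk J (algebraMap k' C y)
      have h1 := AlgHom.congr_fun hχ (algebraMap k' B y)
      have h2 : Ideal.Quotient.mk J (χ (algebraMap k' B y)) = ψ (algebraMap k' B y) := h1
      rw [h2, ψ.commutes]
      rfl
    let χ' : B →ₐ[k'] C :=
      { toRingHom := χ.toRingHom
        commutes' := fun y => AlgHom.congr_fun hcomm y }
    refine ⟨χ', ?_⟩
    apply AlgHom.ext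
    intro b
    exact AlgHom.congr_fun hχ b
  · intro h C _ _ J hJ ψ hψ
    let g : k' →ₐ[k] C ⧸ J := ψ.comp (IsScalarTower.toAlgHom k k' B)
    obtain ⟨σ, hσ⟩ := Algebra.FormallySmooth.exists_lift J ⟨2, hJ⟩ g
    letI algk'C : Algebra k' C := σ.toRingHom.toAlgebra
    haveI hST : IsScalarTower k k' C :=
      IsScalarTower.of_algebraMap_eq (fun x => (σ.commutes x).symm)
    let ψ' : B →ₐ[k'] C ⧸ J :=
      { toRingHom := ψ.toRingHom
        commutes' := fun y => by
          show ψ (algebraMap k' B y) = Ideal.Quotient.mk J (σ y)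
          exact (AlgHom.congr_fun hσ y).symm }
    obtain ⟨χ', hχ'⟩ := h C J hJ ψ' hψ
    refine ⟨χ'.restrictScalars k, ?_⟩
    apply AlgHom.ext
    intro b
    exact AlgHom.congr_fun hχ' b

end Groth.Agent.Lead.GeomRegBC
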