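import Mathlib.RingTheory.AdicCompletion.Exactness
import Mathlib.RingTheory.AdicCompletion.Noetherian
import Mathlib.RingTheory.AdicCompletion.Functoriality
import Mathlib.Algebra.Module.Torsion.Basic
import Mathlib.RingTheory.Finiteness.Cardinality
import Mathlib.RingTheory.Jacobson.Ideal

/-!
# Adic completeness along `J` from completeness along `I` and of the quotient

Main results (namespace `Groth.Agent.Lead.AdicExt`):
* `isPrecomplete_of_surjective`, `isPrecomplete_pi` (copies of lemmas of helper44 / helper57)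
* `isAdicComplete_of_exact`: extension of adically complete modules (finite modules over
  Noetherian rings) is adically complete.
* `isAdicComplete_of_pow_torsion`: finite modules killed by a power of `I` are `J`-adically complete
  if `A ⧸ I` is.
* `isAdicComplete_of_isAdicComplete_quotient`.
-/

set_option autoImplicit false
universe u

namespace Groth.Agent.Lead.AdicExt

open AdicCompletion

/-- surjective images of precomplete modules are precomplete -/
theorem isPrecomplete_of_surjective {R : Type*} [CommRing R] (I : Ideal R) {M N : Type*}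
    [AddCommGroup M] [Module R M] [AddCommGroup N] [Module R N] (f : M →ₗ[R] N)
    (hf : Function.Surjective f) [hM : IsPrecomplete I M] : IsPrecomplete I N := by
  refine ⟨fun g hg => ?_⟩
  have hmap : ∀ n : ℕ, (I ^ n • ⊤ : Submodule R N) = (I ^ n • ⊤ : Submodule R M).map f := by
    intro n
    rw [Submodule.map_smul'', Submodule.map_top, LinearMap.range_eq_top.mpr hf]
  have key : ∀ (n : ℕ) (x : M), f x = g n →
      ∃ y : M, f y = g (n + 1) ∧ y - x ∈ (I ^ n • ⊤ : Submodule R M) := by
    intro n x hx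
    have h1 : g (n + 1) - g n ∈ (I ^ n • ⊤ : Submodule R N) :=
      SModEq.sub_mem.mp (hg (Nat.le_succ n)).symm
    rw [hmap n] at h1
    obtain ⟨d, hd, hfd⟩ := h1
    refine ⟨x + d, ?_, ?_⟩
    · rw [_root_.map_add, hx, hfd]
      abel
    · simpa using hd
  obtain ⟨x0, hx0⟩ := hf (g 0)
  choose! step hstep1 hstep2 using key
  let h : ℕ → M := fun n => Nat.rec x0 (fun n x => step n x) n
  have hfh : ∀ n, f (h n) = g n := by
    intro n
    induction n with
    | zero => exact hx0
    | succ n ih => exact hstep1 n (h n) ih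
  have hc : ∀ n, h n ≡ h (n + 1) [SMOD (I ^ n • ⊤ : Submodule R M)] := by
    intro n
    refine (SModEq.sub_mem.mpr ?_).symm
    exact hstep2 n (h n) (hfh n)
  have hcauchy : AdicCompletion.IsAdicCauchy I M h := (AdicCompletion.isAdicCauchy_iff I M h).mpr hc
  obtain ⟨L, hL⟩ := IsPrecomplete.prec hM (f := h) (fun {m n} hmn => hcauchy hmn)
  refine ⟨f L, fun n => ?_⟩
  rw [← hfh n, hmap n]
  exact (hL n).map f

theorem mem_pow_smul_top_pi {R : Type u} [CommRing R] (I : Ideal R) (n k : ℕ) (g : Fin n → R) :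
    g ∈ (I ^ k • ⊤ : Submodule R (Fin n → R)) ↔ ∀ i, g i ∈ I ^ k := by
  constructor
  · intro hg
    refine Submodule.smul_induction_on hg (fun r hr m _ i => ?_) (fun x y hx hy i => ?_)
    · simpa using Ideal.mul_mem_right _ _ hr
    · simpa using add_mem (hx i) (hy i)
  · intro hg
    rw [← Finset.univ_sum_single g]
    refine Submodule.sum_mem _ (fun i _ => ?_)
    have h1 : (Pi.single i (g i) : Fin n → R) = g i • (Pi.single i 1 : Fin n → R) := by
      rw [← Pi.single_smul, smul_eq_mul, mul_one]
    rw [h1]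
    exact Submodule.smul_mem_smul (hg i) Submodule.mem_top

theorem isPrecomplete_pi {R : Type u} [CommRing R] (I : Ideal R) [IsPrecomplete I R] (n : ℕ) :
    IsPrecomplete I (Fin n → R) := by
  refine ⟨fun f hf => ?_⟩
  have hc : ∀ i, ∃ L : R, ∀ k, f k i ≡ L [SMOD (I ^ k • ⊤ : Submodule R R)] := fun i =>
    IsPrecomplete.prec' (fun k => f k i) (by
      intro m k hmk
      have h1 := hf hmk
      rw [SModEq.sub_mem] at h1 ⊢
      have h2 := (mem_pow_smul_top_pi I n m _).mp h1 i
      simpa using h2)
  choose L hL using hc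
  refine ⟨L, fun k => ?_⟩
  rw [SModEq.sub_mem, mem_pow_smul_top_pi]
  intro i
  have h1 := hL i k
  rw [SModEq.sub_mem] at h1
  simpa using h1

/-- An extension of adically complete modules is adically complete (finite modules over a
Noetherian ring). -/
theorem isAdicComplete_of_exact {R : Type u} [CommRing R] [IsNoetherianRing R] (J : Ideal R)
    {N M P : Type u} [AddCommGroup N] [Module R N] [AddCommGroup M] [Module R M]
    [AddCommGroup P] [Module R P] [Module.Finite R M] (f : N →ₗ[R] M) (g : M →ₗ[R] P)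
    (hf : Function.Injective f) (hfg : Function.Exact f g) (hg : Function.Surjective g)
    [hN : IsAdicComplete J N] [hP : IsAdicComplete J P] : IsAdicComplete J M := by
  rw [← AdicCompletion.of_bijective_iff]
  have hNb := AdicCompletion.of_bijective J N
  have hPb := AdicCompletion.of_bijective J P
  have hex := AdicCompletion.map_exact (I := J) hf hfg hg
  have hinj := AdicCompletion.map_injective J hf
  constructor
  · rw [injective_iff_map_eq_zero]
    intro m hm
    have h1 : of J P (g m) = 0 := by rw [← map_of, hm, _root_.map_zero]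
    have h2 : g m = 0 := by
      apply hPb.1; rw [h1, _root_.map_zero]
    obtain ⟨n, rfl⟩ := (hfg m).1 h2
    have h3 : map J f (of J N n) = 0 := by rw [map_of, hm]
    have h4 : of J N n = 0 := by
      apply hinj; rw [h3, _root_.map_zero]
    have h5 : n = 0 := by
      apply hNb.1; rw [h4, _root_.map_zero]
    rw [h5, _root_.map_zero]
  · intro y
    obtain ⟨p, hp⟩ := hPb.2 (map J g y)
    obtain ⟨m, rfl⟩ := hg p
    have h1 : map J g (y - of J M m) = 0 := by
      rw [_root_.map_sub, map_of, hp, sub_self]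
    obtain ⟨z, hz⟩ := (hex _).1 h1
    obtain ⟨n, rfl⟩ := hNb.2 z
    refine ⟨m + f n, ?_⟩
    rw [_root_.map_add, ← map_of, hz]
    abel

/-- A finite module killed by `I` is `J`-adically complete if `A ⧸ I` is. -/
theorem isAdicComplete_of_torsion {A : Type u} [CommRing A] [IsNoetherianRing A] (I J : Ideal A)
    (hJ : J ≤ Ideal.jacobson ⊥) [hQ : IsPrecomplete (J.map (Ideal.Quotient.mk I)) (A ⧸ I)]
    (M : Type u) [AddCommGroup M] [Module A M] [Module.Finite A M]
    (hM : ∀ a ∈ I, ∀ m : M, a • m = 0) : IsAdicComplete J M := by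
  have hH : IsHausdorff J M := IsHausdorff.of_le_jacobson J M hJ
  have hT : Module.IsTorsionBySet A M (I : Set A) := fun m a => hM a.1 a.2 m
  let _ : Module (A ⧸ I) M := hT.module
  have : IsScalarTower A (A ⧸ I) M := hT.isScalarTower
  have : Module.Finite (A ⧸ I) M := Module.Finite.of_restrictScalars_finite A (A ⧸ I) M
  obtain ⟨n, g, hg⟩ := Module.Finite.exists_fin' (A ⧸ I) M
  have : IsPrecomplete (J.map (Ideal.Quotient.mk I)) (Fin n → A ⧸ I) := isPrecomplete_pi _ n
  have h1 : IsPrecomplete (J.map (Ideal.Quotient.mk I)) M :=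
    isPrecomplete_of_surjective _ g hg
  have h2 : IsPrecomplete J M :=
    (IsPrecomplete.map_algebraMap_iff (I := J) (S := A ⧸ I) (M := M)).1 h1
  exact (isAdicComplete_iff _ _).2 ⟨hH, h2⟩

/-- Finite modules killed by a power of `I` are `J`-adically complete if `A ⧸ I` is. -/
theorem isAdicComplete_of_pow_torsion {A : Type u} [CommRing A] [IsNoetherianRing A] (I J : Ideal A)
    (hJ : J ≤ Ideal.jacobson ⊥) [hQ : IsPrecomplete (J.map (Ideal.Quotient.mk I)) (A ⧸ I)] (k : ℕ) :
    ∀ (M : Type u) [AddCommGroup M] [Module A M] [Module.Finite A M],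
      (∀ a ∈ I ^ k, ∀ m : M, a • m = 0) → IsAdicComplete J M := by
  induction k with
  | zero =>
    intro M _ _ _ hM
    have : Subsingleton M := ⟨fun x y => by
      have hx := hM 1 (by simp) x
      have hy := hM 1 (by simp) y
      rw [one_smul] at hx hy
      rw [hx, hy]⟩
    exact (isAdicComplete_iff _ _).2 ⟨inferInstance, inferInstance⟩
  | succ k ih =>
    intro M _ _ _ hM
    let N : Submodule A M := I • ⊤
    have hN : ∀ a ∈ I ^ k, ∀ n : N, a • n = 0 := by
      intro a ha n
      apply Subtype.ext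
      change a • (n : M) = 0
      have hn : (n : M) ∈ (I • ⊤ : Submodule A M) := n.2
      refine Submodule.smul_induction_on hn (fun r hr m _ => ?_) (fun x y hx hy => ?_)
      · rw [← mul_smul]
        exact hM _ (by rw [pow_succ]; exact Ideal.mul_mem_mul ha hr) m
      · rw [smul_add, hx, hy, add_zero]
    have hP : ∀ a ∈ I, ∀ p : M ⧸ N, a • p = 0 := by
      intro a ha p
      obtain ⟨m, rfl⟩ := Submodule.Quotient.mk_surjective N p
      rw [← Submodule.Quotient.mk_smul, Submodule.Quotient.mk_eq_zero]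
      exact Submodule.smul_mem_smul ha Submodule.mem_top
    have : Module.Finite A N := Module.IsNoetherian.finite A N
    have hNc : IsAdicComplete J N := ih N hN
    have hPc : IsAdicComplete J (M ⧸ N) := isAdicComplete_of_torsion I J hJ (M ⧸ N) hP
    exact isAdicComplete_of_exact J N.subtype N.mkQ N.injective_subtype
      (LinearMap.exact_subtype_mkQ N) N.mkQ_surjective



/-- `J ≤ rad A` if `I ≤ rad A` and `J (A/I) ≤ rad (A/I)`. -/
theorem le_jacobson_of_quotient {A : Type u} [CommRing A] (I J : Ideal A)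
    (hI : I ≤ Ideal.jacobson ⊥)
    (hJ : J.map (Ideal.Quotient.mk I) ≤ Ideal.jacobson ⊥) : J ≤ Ideal.jacobson ⊥ := by
  intro x hx
  have h1 : Ideal.Quotient.mk I x ∈ Ideal.jacobson (⊥ : Ideal (A ⧸ I)) :=
    hJ (Ideal.mem_map_of_mem _ hx)
  have h2 : x ∈ Ideal.comap (Ideal.Quotient.mk I) (Ideal.jacobson (⊥ : Ideal (A ⧸ I))) := h1
  rw [Ideal.comap_jacobson_of_surjective Ideal.Quotient.mk_surjective] at h2
  have h3 : Ideal.comap (Ideal.Quotient.mk I) (⊥ : Ideal (A ⧸ I)) = I := by
    rw [← RingHom.ker_eq_comap_bot, Ideal.mk_ker]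
  rw [h3] at h2
  have h4 : Ideal.jacobson I ≤ Ideal.jacobson (⊥ : Ideal A) := by
    calc Ideal.jacobson I ≤ Ideal.jacobson (Ideal.jacobson (⊥ : Ideal A)) := Ideal.jacobson_mono hI
      _ = Ideal.jacobson ⊥ := Ideal.jacobson_idem
  exact h4 h2

/-- For a Noetherian ring `A` with two ideals `I` and `J`, completeness of `A` along `I` together
with completeness of `A/I` along the image of `J` forces completeness of `A` along `J`. -/
theorem isAdicComplete_of_isAdicComplete_quotient (A : Type u) [CommRing A] [IsNoetherianRing A]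
    (I J : Ideal A) [hI : IsAdicComplete I A]
    [hQ : IsAdicComplete (Ideal.map (Ideal.Quotient.mk I) J) (A ⧸ I)] : IsAdicComplete J A := by
  have hIjac : I ≤ Ideal.jacobson ⊥ := IsAdicComplete.le_jacobson_bot I
  have hJjac : J ≤ Ideal.jacobson ⊥ :=
    le_jacobson_of_quotient I J hIjac (IsAdicComplete.le_jacobson_bot _)
  have hH : IsHausdorff J A := IsHausdorff.of_le_jacobson J A hJjac
  refine (isAdicComplete_iff _ _).2 ⟨hH, ⟨fun f hf => ?_⟩⟩
  -- the quotients `A ⧸ I ^ k`
  have hQk : ∀ k : ℕ, IsAdicComplete J (A ⧸ (I ^ k • ⊤ : Submodule A A)) := by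
    intro k
    refine isAdicComplete_of_pow_torsion I J hJjac k _ ?_
    intro a ha p
    obtain ⟨m, rfl⟩ := Submodule.Quotient.mk_surjective _ p
    rw [← Submodule.Quotient.mk_smul, Submodule.Quotient.mk_eq_zero]
    exact Submodule.smul_mem_smul ha Submodule.mem_top
  have hmap : ∀ (U : Submodule A A) (n : ℕ), (J ^ n • ⊤ : Submodule A (A ⧸ U)) =
      (J ^ n • ⊤ : Submodule A A).map U.mkQ := by
    intro U n
    rw [Submodule.map_smul'', Submodule.map_top, Submodule.range_mkQ]
  -- limits in the quotients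
  have hlim : ∀ k : ℕ, ∃ y : A ⧸ (I ^ k • ⊤ : Submodule A A), ∀ n,
      (I ^ k • ⊤ : Submodule A A).mkQ (f n) ≡ y
        [SMOD (J ^ n • ⊤ : Submodule A (A ⧸ (I ^ k • ⊤ : Submodule A A)))] := by
    intro k
    refine IsPrecomplete.prec (hQk k).toIsPrecomplete
      (f := fun n => (I ^ k • ⊤ : Submodule A A).mkQ (f n)) ?_
    intro m n hmn
    rw [hmap]
    exact (hf hmn).map _
  choose y hy using hlim
  -- compatibility
  have hcompat : ∀ {m n : ℕ} (hmn : m ≤ n), transitionMap I A hmn (y n) = y m := by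
    intro m n hmn
    haveI := (hQk m).toIsHausdorff
    rw [IsHausdorff.eq_iff_smodEq (I := J)]
    intro i
    have h1 : transitionMap I A hmn ((I ^ n • ⊤ : Submodule A A).mkQ (f i)) ≡
        transitionMap I A hmn (y n)
        [SMOD (J ^ i • ⊤ : Submodule A (A ⧸ (I ^ m • ⊤ : Submodule A A)))] := by
      refine ((hy n i).map (transitionMap I A hmn)).mono ?_
      rw [Submodule.map_smul'']
      exact Submodule.smul_mono le_rfl le_top
    have h2 : transitionMap I A hmn ((I ^ n • ⊤ : Submodule A A).mkQ (f i)) =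
        (I ^ m • ⊤ : Submodule A A).mkQ (f i) := rfl
    rw [h2] at h1
    exact h1.symm.trans (hy m i)
  obtain ⟨L, hL⟩ := AdicCompletion.of_surjective I A ⟨y, fun hmn => hcompat hmn⟩
  have hLk : ∀ k, (I ^ k • ⊤ : Submodule A A).mkQ L = y k := by
    intro k
    have := congrArg (fun z => z.val k) hL
    simpa using this
  refine ⟨L, fun n => ?_⟩
  rw [SModEq.sub_mem]
  -- closedness of `J ^ n` in the `I`-adic topology
  set U : Submodule A A := J ^ n • ⊤ with hU
  have hHP : IsHausdorff I (A ⧸ U) := IsHausdorff.of_le_jacobson I _ hIjac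
  have hzero : U.mkQ (f n - L) = 0 := by
    refine IsHausdorff.haus hHP _ (fun k => ?_)
    rw [SModEq.sub_mem, sub_zero]
    have h1 : (I ^ k • ⊤ : Submodule A A).mkQ (f n - L) ∈
        (J ^ n • ⊤ : Submodule A (A ⧸ (I ^ k • ⊤ : Submodule A A))) := by
      rw [_root_.map_sub, hLk k]
      exact SModEq.sub_mem.1 (hy k n)
    rw [hmap] at h1
    obtain ⟨u, hu, hu'⟩ := h1
    have h2 : f n - L - u ∈ (I ^ k • ⊤ : Submodule A A) := by
      rw [← Submodule.Quotient.mk_eq_zero, Submodule.Quotient.mk_sub]
      change (I ^ k • ⊤ : Submodule A A).mkQ (f n - L) - (I ^ k • ⊤ : Submodule A A).mkQ u = 0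
      rw [hu', sub_self]
    have h3 : U.mkQ (f n - L) = U.mkQ (f n - L - u) := by
      have hu0 : U.mkQ u = 0 := (Submodule.Quotient.mk_eq_zero U).2 hu
      rw [_root_.map_sub (U.mkQ) (f n - L) u, hu0, sub_zero]
    rw [h3]
    have : (I ^ k • ⊤ : Submodule A (A ⧸ U)) = (I ^ k • ⊤ : Submodule A A).map U.mkQ := by
      rw [Submodule.map_smul'', Submodule.map_top, Submodule.range_mkQ]
    rw [this]
    exact Submodule.mem_map_of_mem h2
  exact (Submodule.Quotient.mk_eq_zero U).1 hzero

/-- quotients of a Noetherian adically complete ring are adically complete (after helper44). -/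
theorem isAdicComplete_quotient {A : Type*} [CommRing A] [IsNoetherianRing A] (I q : Ideal A)
    [IsAdicComplete I A] : IsAdicComplete (I.map (Ideal.Quotient.mk q)) (A ⧸ q) := by
  have h1 : IsHausdorff I (A ⧸ q) :=
    IsHausdorff.of_le_jacobson I _ (IsAdicComplete.le_jacobson_bot I)
  have h2 : IsPrecomplete I (A ⧸ q) :=
    isPrecomplete_of_surjective I (Ideal.Quotient.mkₐ A q).toLinearMap
      (Ideal.Quotient.mkₐ_surjective A q)
  have h1' : IsHausdorff (I.map (algebraMap A (A ⧸ q))) (A ⧸ q) :=
    IsHausdorff.map_algebraMap_iff.mpr h1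
  have h2' : IsPrecomplete (I.map (algebraMap A (A ⧸ q))) (A ⧸ q) :=
    IsPrecomplete.map_algebraMap_iff.mpr h2
  exact (isAdicComplete_iff _ _).mpr ⟨h1', h2'⟩

end Groth.Agent.Lead.AdicExt
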