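import Mathlib.RingTheory.LocalProperties.Basic
import Mathlib.RingTheory.Localization.AtPrime.Basic
import Mathlib.RingTheory.Spectrum.Maximal.Basic
import Mathlib.RingTheory.LocalRing.MaximalIdeal.Basic
import Mathlib.RingTheory.Finiteness.Cardinality
import Mathlib.RingTheory.AdicCompletion.Noetherian
import Groth.Agent.Lead.AdicExt

/-!
# Rings that are finite products of local rings

If `S ≃+* Π i, A i` (finite product of local rings) then `S` has finitely many maximal ideals and
`S → Π_m S_m` is bijective; each `S → S_m` is surjective.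
Also: finite modules over a Noetherian adically complete ring are adically complete.
-/

set_option autoImplicit false
universe u

namespace Groth.Agent.Lead

open IsLocalRing

section PiLocal

variable {S : Type u} [CommRing S] {ι : Type u} [Fintype ι] [DecidableEq ι] (A : ι → Type u)
  [∀ i, CommRing (A i)] [∀ i, IsLocalRing (A i)] (e : S ≃+* (∀ i, A i))

/-- projection to a factor -/
def piProj (i : ι) : S →+* A i := (Pi.evalRingHom A i).comp e.toRingHom

omit [Fintype ι] [DecidableEq ι] [∀ i, IsLocalRing (A i)] in
theorem piProj_apply (i : ι) (x : S) : piProj A e i x = e x i := rfl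

omit [Fintype ι] [∀ i, IsLocalRing (A i)] in
theorem piProj_surjective (i : ι) : Function.Surjective (piProj A e i) := fun a =>
  ⟨e.symm (Pi.single i a), by rw [piProj_apply, RingEquiv.apply_symm_apply, Pi.single_eq_same]⟩

/-- the idempotent of a factor -/
def piIdem (i : ι) : S := e.symm (Pi.single i 1)

omit [Fintype ι] [∀ i, IsLocalRing (A i)] in
theorem piProj_piIdem_self (i : ι) : piProj A e i (piIdem A e i) = 1 := by
  rw [piProj_apply, piIdem, RingEquiv.apply_symm_apply, Pi.single_eq_same]

omit [Fintype ι] [∀ i, IsLocalRing (A i)] in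
theorem piIdem_mul_eq_zero (i : ι) (z : S) (hz : piProj A e i z = 0) : piIdem A e i * z = 0 := by
  apply e.injective
  rw [map_mul, map_zero]
  funext j
  rw [Pi.mul_apply, Pi.zero_apply]
  have h1 : e (piIdem A e i) = Pi.single i 1 := e.apply_symm_apply _
  rw [h1]
  by_cases hj : j = i
  · subst hj
    rw [Pi.single_eq_same, one_mul]
    exact hz
  · rw [Pi.single_eq_of_ne hj, zero_mul]

omit [∀ i, IsLocalRing (A i)] in
theorem sum_piIdem : ∑ i, piIdem A e i = 1 := by
  apply e.injective
  rw [map_sum, map_one]
  simp only [piIdem, RingEquiv.apply_symm_apply]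
  exact Finset.univ_sum_single (1 : ∀ i, A i)

/-- the maximal ideal of a factor -/
def piMax (i : ι) : Ideal S := (maximalIdeal (A i)).comap (piProj A e i)

omit [Fintype ι] in
instance piMax_isMaximal (i : ι) : (piMax A e i).IsMaximal :=
  Ideal.comap_isMaximal_of_surjective _ (piProj_surjective A e i)

omit [Fintype ι] in
theorem piIdem_notMem_piMax (i : ι) : piIdem A e i ∉ piMax A e i := by
  intro h
  have h1 : piProj A e i (piIdem A e i) ∈ maximalIdeal (A i) := h
  rw [piProj_piIdem_self] at h1
  exact (maximalIdeal.isMaximal (A i)).ne_top ((Ideal.eq_top_iff_one _).mpr h1)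

theorem exists_eq_piMax (M : Ideal S) (hM : M.IsMaximal) : ∃ i, M = piMax A e i := by
  have h1 : ∃ i, piIdem A e i ∉ M := by
    by_contra h
    push Not at h
    have h2 : (1 : S) ∈ M := by
      rw [← sum_piIdem A e]
      exact Ideal.sum_mem _ (fun i _ => h i)
    exact hM.ne_top ((Ideal.eq_top_iff_one _).mpr h2)
  obtain ⟨i, hi⟩ := h1
  refine ⟨i, ?_⟩
  have hle : piMax A e i ≤ M := by
    intro z hz
    by_contra hzM
    obtain ⟨b, a, ha, hab⟩ := hM.exists_inv hzM
    have hz' : piProj A e i z ∈ maximalIdeal (A i) := hz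
    have hpa : piProj A e i a ∉ maximalIdeal (A i) := by
      intro hpa
      have h3 : (1 : A i) ∈ maximalIdeal (A i) := by
        have h2 := congrArg (piProj A e i) hab
        rw [map_add, map_mul, map_one] at h2
        rw [← h2]
        exact Ideal.add_mem _ (Ideal.mul_mem_left _ _ hz') hpa
      exact (maximalIdeal.isMaximal (A i)).ne_top ((Ideal.eq_top_iff_one _).mpr h3)
    have hunit : IsUnit (piProj A e i a) := by
      rwa [mem_maximalIdeal, mem_nonunits_iff, not_not] at hpa
    obtain ⟨c', hc'⟩ := hunit.exists_left_inv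
    obtain ⟨c, rfl⟩ := piProj_surjective A e i c'
    have h3 : piProj A e i (c * a - 1) = 0 := by
      rw [map_sub, map_mul, map_one, hc', sub_self]
    have h4 := piIdem_mul_eq_zero A e i _ h3
    have h5 : piIdem A e i = piIdem A e i * c * a := by
      have h6 : piIdem A e i * (c * a - 1) = piIdem A e i * c * a - piIdem A e i := by ring
      rw [h6, sub_eq_zero] at h4
      exact h4.symm
    apply hi
    rw [h5]
    exact Ideal.mul_mem_left _ _ ha
  exact ((piMax_isMaximal A e i).eq_of_le hM.ne_top hle).symm

omit [Fintype ι] in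
theorem algebraMap_eq_zero_of_piProj_eq_zero (i : ι) (z : S) (hz : piProj A e i z = 0) :
    algebraMap S (Localization.AtPrime (piMax A e i)) z = 0 := by
  rw [IsLocalization.map_eq_zero_iff (piMax A e i).primeCompl]
  exact ⟨⟨piIdem A e i, piIdem_notMem_piMax A e i⟩, piIdem_mul_eq_zero A e i z hz⟩

omit [Fintype ι] in
theorem algebraMap_piMax_surjective (i : ι) :
    Function.Surjective (algebraMap S (Localization.AtPrime (piMax A e i))) := by
  intro y
  obtain ⟨⟨s, t⟩, rfl⟩ := IsLocalization.mk'_surjective (piMax A e i).primeCompl y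
  simp only
  have ht : piProj A e i t ∉ maximalIdeal (A i) := t.2
  have hunit : IsUnit (piProj A e i t) := by
    rwa [mem_maximalIdeal, mem_nonunits_iff, not_not] at ht
  obtain ⟨u', hu'⟩ := hunit.exists_left_inv
  obtain ⟨u, rfl⟩ := piProj_surjective A e i u'
  refine ⟨s * u, ?_⟩
  rw [IsLocalization.eq_mk'_iff_mul_eq, ← map_mul, ← sub_eq_zero, ← map_sub]
  apply algebraMap_eq_zero_of_piProj_eq_zero
  rw [map_sub, map_mul, map_mul, mul_assoc, hu', mul_one, sub_self]

include A e in
theorem pi_local_finite : Finite (MaximalSpectrum S) :=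
  Finite.of_surjective (fun i => (⟨piMax A e i, piMax_isMaximal A e i⟩ : MaximalSpectrum S))
    (fun M => by
      obtain ⟨i, hi⟩ := exists_eq_piMax A e M.asIdeal M.isMaximal
      exact ⟨i, MaximalSpectrum.ext hi.symm⟩)

include A e in
theorem pi_local_bijective : Function.Bijective
    (algebraMap S ((m : MaximalSpectrum S) → Localization.AtPrime m.asIdeal)) := by
  constructor
  · rw [injective_iff_map_eq_zero]
    intro x hx
    apply eq_zero_of_localization
    intro J hJ
    exact congrFun hx ⟨J, hJ⟩
  · intro y
    choose x hx using fun i => algebraMap_piMax_surjective A e i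
      (y ⟨piMax A e i, piMax_isMaximal A e i⟩)
    obtain ⟨x₀, hx₀⟩ : ∃ x₀ : S, ∀ i, piProj A e i x₀ = piProj A e i (x i) :=
      ⟨e.symm (fun i => piProj A e i (x i)), fun i => by
        rw [piProj_apply, RingEquiv.apply_symm_apply]⟩
    refine ⟨x₀, ?_⟩
    funext M
    obtain ⟨i, hi⟩ := exists_eq_piMax A e M.asIdeal M.isMaximal
    obtain ⟨M, hM⟩ := M
    simp only at hi
    subst hi
    rw [← hx i]
    show algebraMap S (Localization.AtPrime (piMax A e i)) _ =
      algebraMap S (Localization.AtPrime (piMax A e i)) (x i)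
    rw [← sub_eq_zero, ← map_sub]
    apply algebraMap_eq_zero_of_piProj_eq_zero
    rw [map_sub, hx₀ i, sub_self]

end PiLocal

/-- finite modules over a Noetherian adically complete ring are adically complete. -/
theorem isAdicComplete_of_finite {R : Type u} [CommRing R] [IsNoetherianRing R] (I : Ideal R)
    [IsAdicComplete I R] (T : Type u) [AddCommGroup T] [Module R T] [Module.Finite R T] :
    IsAdicComplete I T := by
  haveI : IsHausdorff I T := IsHausdorff.of_le_jacobson I T (IsAdicComplete.le_jacobson_bot I)
  obtain ⟨n, f, hf⟩ := Module.Finite.exists_fin' R T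
  haveI : IsPrecomplete I (Fin n → R) := AdicExt.isPrecomplete_pi I n
  haveI : IsPrecomplete I T := AdicExt.isPrecomplete_of_surjective I f hf
  exact {}

end Groth.Agent.Lead
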