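import Mathlib.RingTheory.Flat.Tensor
import Mathlib.RingTheory.Flat.Stability
import Mathlib.RingTheory.Filtration
import Mathlib.RingTheory.Nakayama
import Mathlib.RingTheory.LocalRing.Basic
import Mathlib.RingTheory.Regular.IsSMulRegular

/-!
# Flatness from flatness of quotients, via Krull intersection / Nakayama

`A → B` ring map, `B` Noetherian, `M` a finite `B`-module.
* `flat_of_forall_flat_quotient_pow` : `J ≤ rad B`, all `M / J^(n+1) M` flat over `A` ⇒ `M` flat.
* `flat_of_flat_quotient_regular` : `f ∈ rad B` `M`-regular, `M / f M` flat over `A` ⇒ `M` flat.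
-/

set_option autoImplicit false
universe u

namespace Groth.Agent.Lead

open TensorProduct LinearMap

section common

variable {A B M : Type u} [CommRing A] [CommRing B] [Algebra A B] [AddCommGroup M] [Module A M]
  [Module B M] [IsScalarTower A B M]

/-- Lemma C: if `M ⧸ N` is `A`-flat, every element of `ker (M ⊗ 𝔞 → M ⊗ A)` comes from `N ⊗ 𝔞`. -/
theorem exists_rTensor_eq_of_flat_quotient (N : Submodule B M) [Module.Flat A (M ⧸ N)]
    (𝔞 : Ideal A) (x : M ⊗[A] 𝔞) (hx : lTensor M 𝔞.subtype x = 0) :
    ∃ y : (N.restrictScalars A) ⊗[A] 𝔞, rTensor 𝔞 (N.restrictScalars A).subtype y = x := by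
  let π : M →ₗ[A] (M ⧸ N) := N.mkQ.restrictScalars A
  have hπ : Function.Surjective π := N.mkQ_surjective
  have hker : LinearMap.ker π = N.restrictScalars A := by
    ext m
    simp [π]
  have h1 : rTensor 𝔞 π x = 0 := by
    apply Module.Flat.lTensor_preserves_injective_linearMap (M := M ⧸ N) 𝔞.subtype
      𝔞.injective_subtype
    rw [map_zero, ← LinearMap.comp_apply, lTensor_comp_rTensor, ← rTensor_comp_lTensor,
      LinearMap.comp_apply, hx, map_zero]
  have hex : Function.Exact (rTensor 𝔞 (N.restrictScalars A).subtype) (rTensor 𝔞 π) := by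
    refine rTensor_exact 𝔞 ?_ hπ
    rw [← hker]
    exact LinearMap.exact_subtype_ker_map π
  exact (hex x).mp h1

end common

/-- Lemma K. -/
theorem flat_of_forall_flat_quotient_pow {A B M : Type u} [CommRing A] [CommRing B]
    [IsNoetherianRing A] [IsNoetherianRing B] [Algebra A B] [AddCommGroup M] [Module A M]
    [Module B M] [IsScalarTower A B M] [Module.Finite B M] (J : Ideal B)
    (hJ : J ≤ Ideal.jacobson ⊥)
    (h : ∀ n : ℕ, Module.Flat A (M ⧸ (J ^ (n + 1) • (⊤ : Submodule B M)))) :
    Module.Flat A M := by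
  rw [Module.Flat.iff_lTensor_injective']
  intro 𝔞
  rw [injective_iff_map_eq_zero]
  intro x hx
  haveI : Module.Finite B (M ⊗[A] 𝔞) :=
    Module.Finite.equiv (AlgebraTensorModule.cancelBaseChange A B B M 𝔞)
  have key : ∀ n : ℕ, x ∈ (J ^ (n + 1) • ⊤ : Submodule B (M ⊗[A] 𝔞)) := by
    intro n
    haveI := h n
    obtain ⟨y, rfl⟩ := exists_rTensor_eq_of_flat_quotient (J ^ (n + 1) • (⊤ : Submodule B M)) 𝔞 x hx
    clear hx
    induction y using TensorProduct.induction_on with
    | zero => rw [map_zero]; exact zero_mem _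
    | add y y' hy hy' => rw [map_add]; exact add_mem hy hy'
    | tmul c a =>
      rw [rTensor_tmul]
      have hc : (c : M) ∈ (J ^ (n + 1) • ⊤ : Submodule B M) := c.2
      change (c : M) ⊗ₜ[A] a ∈ _
      refine Submodule.smul_induction_on hc (fun r hr m _ => ?_) (fun m m' hm hm' => ?_)
      · rw [← TensorProduct.smul_tmul']
        exact Submodule.smul_mem_smul hr Submodule.mem_top
      · rw [TensorProduct.add_tmul]
        exact add_mem hm hm'
  have h2 := Ideal.iInf_pow_smul_eq_bot_of_le_jacobson (M := M ⊗[A] 𝔞) J hJ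
  have h3 : x ∈ (⨅ i : ℕ, J ^ i • ⊤ : Submodule B (M ⊗[A] 𝔞)) := by
    rw [Submodule.mem_iInf]
    intro i
    exact Submodule.smul_mono (Ideal.pow_le_pow_right (Nat.le_succ i)) le_rfl (key i)
  rw [h2] at h3
  exact (Submodule.mem_bot B).mp h3

/-- Lemma R. -/
theorem flat_of_flat_quotient_regular {A B M : Type u} [CommRing A] [CommRing B]
    [IsNoetherianRing A] [IsNoetherianRing B] [Algebra A B] [AddCommGroup M] [Module A M]
    [Module B M] [IsScalarTower A B M] [Module.Finite B M] (f : B)
    (hf : f ∈ Ideal.jacobson (⊥ : Ideal B)) (hreg : IsSMulRegular M f)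
    (h : Module.Flat A (M ⧸ (Ideal.span {f} • (⊤ : Submodule B M)))) :
    Module.Flat A M := by
  rw [Module.Flat.iff_lTensor_injective']
  intro 𝔞
  haveI : Module.Finite B (M ⊗[A] 𝔞) :=
    Module.Finite.equiv (AlgebraTensorModule.cancelBaseChange A B B M 𝔞)
  let L : M ⊗[A] 𝔞 →ₗ[B] M ⊗[A] A :=
    AlgebraTensorModule.map (LinearMap.id : M →ₗ[B] M) 𝔞.subtype
  have hL : ∀ y, L y = lTensor M 𝔞.subtype y := by
    intro y
    induction y using TensorProduct.induction_on with
    | zero => simp
    | add y y' hy hy' => rw [map_add, map_add, hy, hy']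
    | tmul m a => rfl
  have hle : LinearMap.ker L ≤ Ideal.span {f} • LinearMap.ker L := by
    intro x hx
    have hx0 : lTensor M 𝔞.subtype x = 0 := by rw [← hL]; exact hx
    obtain ⟨y, hy⟩ := exists_rTensor_eq_of_flat_quotient
      (Ideal.span {f} • (⊤ : Submodule B M)) 𝔞 x hx0
    have hz : ∀ y : ((Ideal.span {f} • (⊤ : Submodule B M)).restrictScalars A) ⊗[A] 𝔞,
        ∃ z : M ⊗[A] 𝔞, rTensor 𝔞 ((Ideal.span {f} • (⊤ : Submodule B M)).restrictScalars A).subtype y
          = f • z := by
      intro y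
      induction y using TensorProduct.induction_on with
      | zero => exact ⟨0, by simp⟩
      | add y y' hy hy' =>
        obtain ⟨z, hz⟩ := hy
        obtain ⟨z', hz'⟩ := hy'
        exact ⟨z + z', by rw [map_add, hz, hz', smul_add]⟩
      | tmul c a =>
        obtain ⟨c, hc0⟩ := c
        have hc : c ∈ (Ideal.span {f} • ⊤ : Submodule B M) := hc0
        rw [Submodule.ideal_span_singleton_smul, Submodule.mem_smul_pointwise_iff_exists] at hc
        obtain ⟨m, -, hm⟩ := hc
        refine ⟨m ⊗ₜ[A] a, ?_⟩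
        rw [rTensor_tmul, TensorProduct.smul_tmul']
        change c ⊗ₜ[A] a = _
        rw [hm]
    obtain ⟨z, hz⟩ := hz y
    rw [hy] at hz
    have hzker : z ∈ LinearMap.ker L := by
      rw [LinearMap.mem_ker]
      have h0 : f • L z = 0 := by rw [← map_smul, ← hz]; exact hx
      have h1 : f • (AlgebraTensorModule.rid A B M (L z)) = f • (0 : M) := by
        rw [← map_smul, h0, map_zero, smul_zero]
      have h2 := hreg h1
      exact (AlgebraTensorModule.rid A B M).injective (by rw [h2, map_zero])
    rw [hz]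
    exact Submodule.smul_mem_smul (Ideal.mem_span_singleton_self f) hzker
  have hbot : LinearMap.ker L = ⊥ :=
    Submodule.eq_bot_of_le_smul_of_le_jacobson_bot (Ideal.span {f}) _
      (IsNoetherian.noetherian _) hle ((Ideal.span_singleton_le_iff_mem _).mpr hf)
  rw [injective_iff_map_eq_zero]
  intro x hx
  have : x ∈ LinearMap.ker L := by rw [LinearMap.mem_ker, hL]; exact hx
  rw [hbot] at this
  exact (Submodule.mem_bot B).mp this

end Groth.Agent.Lead
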