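import Mathlib
import Groth.Prelude.Def_PBC

/-!
# Extracting finite data from an ind-Zariski presentation

Lemma-provider file for helper48 (S0183, S0678): converse of
`Groth.Agent.H48.IndZar.isIndZariski_of_tuples`.
-/

universe u

open CategoryTheory CategoryTheory.Limits

namespace Groth.Agent.Lead.IndZarTup

/-- Generic extraction lemma for a filtered colimit presentation in `Under (CommRingCat.of A)`:
finitely many elements of the colimit satisfying finitely many polynomial relations over `A`
come from a single stage where the relations already hold. -/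
theorem tuples_of_isColimit {A B : Type u} [CommRing A] [CommRing B] [Algebra A B]
    {J : Type u} [SmallCategory J] [IsFiltered J] (D : J ⥤ Under (CommRingCat.of A))
    (c : Cocone D) (hc : IsColimit c)
    (e : c.pt ≅ Under.mk (CommRingCat.ofHom (algebraMap A B)))
    (n : ℕ) (x : Fin n → B) (s : Finset (MvPolynomial (Fin n) A))
    (hs : ∀ p ∈ s, MvPolynomial.aeval x p = 0) :
    ∃ (k : J), letI : Algebra A (D.obj k).right := (D.obj k).hom.hom.toAlgebra
      ∃ (b : (D.obj k).right →ₐ[A] B) (y : Fin n → (D.obj k).right),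
        (∀ i, b (y i) = x i) ∧ ∀ p ∈ s, MvPolynomial.aeval y p = 0 := by
  classical
  let F : Under (CommRingCat.of A) ⥤ Type u :=
    Under.forget (CommRingCat.of A) ⋙ forget CommRingCat
  have : PreservesColimitsOfShape J (Under.forget (CommRingCat.of A)) :=
    PreservesFilteredColimitsOfSize.preserves_filtered_colimits J
  have : PreservesColimitsOfShape J (forget CommRingCat.{u}) :=
    PreservesFilteredColimitsOfSize.preserves_filtered_colimits J
  have hc' : IsColimit (F.mapCocone c) := isColimitOfPreserves F hc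
  let α : ∀ j, A →+* (D.obj j).right := fun j => (D.obj j).hom.hom
  let ψ : ∀ j, (D.obj j).right →+* B := fun j =>
    (e.hom.right.hom).comp (c.ι.app j).right.hom
  let τ : ∀ {j k : J} (_ : j ⟶ k), (D.obj j).right →+* (D.obj k).right :=
    fun f => (D.map f).right.hom
  have hψα : ∀ j, (ψ j).comp (α j) = algebraMap A B := by
    intro j
    have h1 := Under.w (c.ι.app j)
    have h2 := Under.w e.hom
    ext a
    have e1 := congrArg (fun f => f.hom a) h1
    have e2 := congrArg (fun f => f.hom a) h2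
    simp only [CommRingCat.hom_comp, RingHom.comp_apply] at e1 e2
    show e.hom.right.hom ((c.ι.app j).right.hom ((D.obj j).hom.hom a)) = _
    rw [e1]
    exact e2
  have hτα : ∀ {j k : J} (f : j ⟶ k), (τ f).comp (α j) = α k := by
    intro j k f
    have h1 := Under.w (D.map f)
    ext a
    exact congrArg (fun f => f.hom a) h1
  have hψτ : ∀ {j k : J} (f : j ⟶ k), (ψ k).comp (τ f) = ψ j := by
    intro j k f
    have h1 := c.w f
    ext y
    have e1 := congrArg (fun f => f.right.hom y) h1
    simp only [Under.comp_right, CommRingCat.hom_comp, RingHom.comp_apply] at e1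
    show e.hom.right.hom ((c.ι.app k).right.hom ((D.map f).right.hom y)) = _
    rw [e1]
    rfl
  have hτcomp : ∀ {i j k : J} (f : i ⟶ j) (g : j ⟶ k), τ (f ≫ g) = (τ g).comp (τ f) := by
    intro i j k f g
    show (D.map (f ≫ g)).right.hom = _
    rw [D.map_comp]
    rfl
  have heinj : Function.Injective e.hom.right.hom := by
    intro a a' haa
    have h1 := congrArg (fun f => f.right.hom a) e.hom_inv_id
    have h2 := congrArg (fun f => f.right.hom a') e.hom_inv_id
    simp only [Under.comp_right, CommRingCat.hom_comp, RingHom.comp_apply, Under.id_right,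
      CommRingCat.hom_id, RingHom.id_apply] at h1 h2
    rw [← h1, ← h2, haa]
  have hsurj : ∀ b : B, ∃ j, ∃ y : (D.obj j).right, ψ j y = b := by
    intro b
    obtain ⟨j, y, hy⟩ := Types.jointly_surjective_of_isColimit hc' (e.inv.right.hom b)
    refine ⟨j, y, ?_⟩
    have hy' : (c.ι.app j).right.hom y = e.inv.right.hom b := hy
    show e.hom.right.hom ((c.ι.app j).right.hom y) = b
    rw [hy']
    have h1 := congrArg (fun f => f.right.hom b) e.inv_hom_id
    exact h1
  have hinj : ∀ j (y y' : (D.obj j).right), ψ j y = ψ j y' →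
      ∃ k, ∃ f : j ⟶ k, τ f y = τ f y' := by
    intro j y y' hyy
    have h5 : (F.mapCocone c).ι.app j y = (F.mapCocone c).ι.app j y' := heinj hyy
    obtain ⟨k, g, hg⟩ := (Types.FilteredColimit.isColimit_eq_iff' hc' y y').1 h5
    exact ⟨k, g, hg⟩
  -- Step 1: a common stage for the tuple
  have htuple : ∀ (m : ℕ) (x : Fin m → B),
      ∃ j, ∃ y : Fin m → (D.obj j).right, ∀ i, ψ j (y i) = x i := by
    intro m
    induction m with
    | zero =>
      intro x
      obtain ⟨j⟩ := IsFiltered.nonempty (C := J)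
      exact ⟨j, Fin.elim0, fun i => i.elim0⟩
    | succ m ih =>
      intro x
      obtain ⟨j1, y1, h1⟩ := ih (fun i => x i.succ)
      obtain ⟨j2, y2, h2⟩ := hsurj (x 0)
      refine ⟨IsFiltered.max j1 j2, Fin.cons (τ (IsFiltered.rightToMax j1 j2) y2)
        (fun i => τ (IsFiltered.leftToMax j1 j2) (y1 i)), ?_⟩
      intro i
      refine Fin.cases ?_ (fun i => ?_) i
      · rw [Fin.cons_zero, ← RingHom.comp_apply, hψτ]
        exact h2
      · rw [Fin.cons_succ, ← RingHom.comp_apply, hψτ]
        exact h1 i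
  obtain ⟨j0, y0, hy0⟩ := htuple n x
  -- Step 2: the relations hold at a later stage
  have hrel : ∀ (t : Finset (MvPolynomial (Fin n) A)),
      (∀ p ∈ t, MvPolynomial.aeval x p = 0) →
      ∃ k, ∃ g : j0 ⟶ k, ∀ p ∈ t, MvPolynomial.eval₂ (α k) (fun i => τ g (y0 i)) p = 0 := by
    intro t
    induction t using Finset.induction_on with
    | empty => intro _; exact ⟨j0, 𝟙 _, by simp⟩
    | insert p t hp ih =>
      intro ht
      obtain ⟨k1, g1, h1⟩ := ih (fun q hq => ht q (Finset.mem_insert_of_mem hq))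
      have hp0 : ψ j0 (MvPolynomial.eval₂ (α j0) y0 p) = ψ j0 0 := by
        rw [MvPolynomial.eval₂_comp_left, hψα, map_zero]
        have : (⇑(ψ j0) ∘ y0) = x := funext hy0
        rw [this]
        exact ht p (Finset.mem_insert_self p t)
      obtain ⟨k2, g2, h2⟩ := hinj j0 _ _ hp0
      obtain ⟨k, f1, f2, hf⟩ := IsFiltered.span g1 g2
      refine ⟨k, g1 ≫ f1, ?_⟩
      intro q hq
      rcases Finset.mem_insert.mp hq with rfl | hq
      · have : (fun i => τ (g1 ≫ f1) (y0 i)) = ⇑((τ f2).comp (τ g2)) ∘ y0 := by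
          rw [hf, hτcomp]
          rfl
        rw [this, ← hτα (g2 ≫ f2), hτcomp, ← MvPolynomial.eval₂_comp_left, RingHom.comp_apply, h2,
          map_zero, map_zero]
      · have : (fun i => τ (g1 ≫ f1) (y0 i)) = ⇑(τ f1) ∘ (fun i => τ g1 (y0 i)) := by
          rw [hτcomp]
          rfl
        rw [this, ← hτα f1, ← MvPolynomial.eval₂_comp_left, h1 q hq, map_zero]
  obtain ⟨k, g, hk⟩ := hrel s hs
  refine ⟨k, ?_⟩
  letI : Algebra A (D.obj k).right := (D.obj k).hom.hom.toAlgebra
  refine ⟨⟨ψ k, fun a => ?_⟩, fun i => τ g (y0 i), fun i => ?_, fun p hp => ?_⟩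
  · exact congrArg (fun f => f a) (hψα k)
  · show ψ k (τ g (y0 i)) = x i
    rw [← RingHom.comp_apply, hψτ]
    exact hy0 i
  · rw [MvPolynomial.aeval_def]
    exact hk p hp

theorem tuples_of_isIndZariski {A B : Type u} [CommRing A] [CommRing B] [Algebra A B]
    (h : EtPBC.IsIndZariski A B) (n : ℕ) (x : Fin n → B) (s : Finset (MvPolynomial (Fin n) A))
    (hs : ∀ p ∈ s, MvPolynomial.aeval x p = 0) :
    ∃ (E : Type u) (_ : CommRing E) (_ : Algebra A E) (_ : Algebra.IsLocalIso A E) (b : E →ₐ[A] B)
      (y : Fin n → E), (∀ i, b (y i) = x i) ∧ ∀ p ∈ s, MvPolynomial.aeval y p = 0 := by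
  obtain ⟨J, _, _, D, c, hc, hD, ⟨e⟩⟩ := h
  obtain ⟨k, b, y, h1, h2⟩ := tuples_of_isColimit D c hc e n x s hs
  exact ⟨(D.obj k).right, inferInstance, (D.obj k).hom.hom.toAlgebra, hD k, b, y, h1, h2⟩

/-- Same extraction for ind-étale presentations. -/
theorem tuples_of_isIndEtale {A B : Type u} [CommRing A] [CommRing B] [Algebra A B]
    (h : EtPBC.IsIndEtale A B) (n : ℕ) (x : Fin n → B) (s : Finset (MvPolynomial (Fin n) A))
    (hs : ∀ p ∈ s, MvPolynomial.aeval x p = 0) :
    ∃ (E : Type u) (_ : CommRing E) (_ : Algebra A E) (_ : Algebra.Etale A E) (b : E →ₐ[A] B)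
      (y : Fin n → E), (∀ i, b (y i) = x i) ∧ ∀ p ∈ s, MvPolynomial.aeval y p = 0 := by
  obtain ⟨J, _, _, D, c, hc, hD, ⟨e⟩⟩ := h
  obtain ⟨k, b, y, h1, h2⟩ := tuples_of_isColimit D c hc e n x s hs
  exact ⟨(D.obj k).right, inferInstance, (D.obj k).hom.hom.toAlgebra, hD k, b, y, h1, h2⟩

end Groth.Agent.Lead.IndZarTup
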