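import Mathlib
import Groth.Prelude.Def_PBC
import Groth.Agent.Lead.IndZarTup

/-!
# Ring maps identifying local rings

Elementwise characterisation of `EtPBC.IdentifiesLocalRings`, composition and cancellation,
local isomorphisms and ind-Zariski maps identify local rings.
Lemma-provider file for helper48 (S0678, S0183).
-/

universe u

namespace Groth.Agent.Lead.IdLocRings

section char

variable {A B : Type u} [CommRing A] [CommRing B] [Algebra A B]

/-- Elementwise characterisation of `IdentifiesLocalRings`. -/
theorem identifiesLocalRings_iff :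
    EtPBC.IdentifiesLocalRings A B ↔ ∀ q : PrimeSpectrum B,
      (∀ a : A, (∃ s : B, s ∉ q.asIdeal ∧ s * algebraMap A B a = 0) →
        ∃ t : A, algebraMap A B t ∉ q.asIdeal ∧ t * a = 0) ∧
      (∀ b : B, ∃ (a t : A) (s : B), algebraMap A B t ∉ q.asIdeal ∧ s ∉ q.asIdeal ∧
        s * (algebraMap A B t * b) = s * algebraMap A B a) := by
  constructor
  · intro h q
    obtain ⟨hinj, hsurj⟩ := h q
    constructor
    · rintro a ⟨s, hs, hsa⟩
      have h0 : algebraMap B (Localization.AtPrime q.asIdeal) (algebraMap A B a) = 0 := by
        rw [IsLocalization.map_eq_zero_iff q.asIdeal.primeCompl]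
        exact ⟨⟨s, hs⟩, hsa⟩
      have h2 : algebraMap A (Localization.AtPrime (q.asIdeal.comap (algebraMap A B))) a = 0 := by
        apply hinj
        rw [Localization.localRingHom_to_map, h0, map_zero]
      rw [IsLocalization.map_eq_zero_iff (q.asIdeal.comap (algebraMap A B)).primeCompl] at h2
      obtain ⟨t, ht⟩ := h2
      exact ⟨t, t.2, ht⟩
    · intro b
      obtain ⟨z, hz⟩ := hsurj (algebraMap B _ b)
      obtain ⟨⟨a, t⟩, rfl⟩ := IsLocalization.mk'_surjective
        (q.asIdeal.comap (algebraMap A B)).primeCompl z
      rw [Localization.localRingHom_mk', IsLocalization.mk'_eq_iff_eq_mul, ← map_mul,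
        IsLocalization.eq_iff_exists q.asIdeal.primeCompl] at hz
      obtain ⟨s, hs⟩ := hz
      refine ⟨a, t, s, t.2, s.2, ?_⟩
      rw [mul_comm (algebraMap A B t) b]
      exact hs.symm
  · intro h q
    obtain ⟨hinj, hsurj⟩ := h q
    constructor
    · rw [injective_iff_map_eq_zero]
      intro x hx
      obtain ⟨⟨a, t⟩, rfl⟩ := IsLocalization.mk'_surjective
        (q.asIdeal.comap (algebraMap A B)).primeCompl x
      rw [Localization.localRingHom_mk', IsLocalization.mk'_eq_zero_iff] at hx
      obtain ⟨m, hm⟩ := hx
      obtain ⟨t', ht', hta⟩ := hinj a ⟨m, m.2, hm⟩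
      rw [IsLocalization.mk'_eq_zero_iff]
      exact ⟨⟨t', ht'⟩, hta⟩
    · intro y
      obtain ⟨⟨b, s0⟩, rfl⟩ := IsLocalization.mk'_surjective q.asIdeal.primeCompl y
      obtain ⟨a1, t1, s1, ht1, hs1, h1⟩ := hsurj b
      obtain ⟨a2, t2, s2, ht2, hs2, h2⟩ := hsurj s0
      have ha2 : algebraMap A B a2 ∉ q.asIdeal := by
        intro hmem
        have : s2 * (algebraMap A B t2 * s0) ∈ q.asIdeal := by
          rw [h2]
          exact Ideal.mul_mem_left _ _ hmem
        rcases q.2.mem_or_mem this with h | h
        · exact hs2 h
        · rcases q.2.mem_or_mem h with h | h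
          · exact ht2 h
          · exact s0.2 h
      have hden : t1 * a2 ∈ (q.asIdeal.comap (algebraMap A B)).primeCompl := by
        intro hmem
        have hmem' : algebraMap A B (t1 * a2) ∈ q.asIdeal := hmem
        rw [map_mul] at hmem'
        exact (q.2.mem_or_mem hmem').elim ht1 ha2
      refine ⟨IsLocalization.mk' _ (a1 * t2) ⟨t1 * a2, hden⟩, ?_⟩
      rw [Localization.localRingHom_mk', IsLocalization.mk'_eq_iff_eq,
        IsLocalization.eq_iff_exists q.asIdeal.primeCompl]
      refine ⟨⟨s1 * s2, fun hmem => (q.2.mem_or_mem hmem).elim hs1 hs2⟩, ?_⟩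
      simp only [map_mul]
      linear_combination (-(s2 * algebraMap A B t2 * (s0 : B))) * h1 +
        (s1 * algebraMap A B t1 * b) * h2

end char

section comp

variable {A B C : Type u} [CommRing A] [CommRing B] [CommRing C] [Algebra A B] [Algebra B C]
  [Algebra A C] [IsScalarTower A B C]

private theorem bijective_of_eq {R S : Type u} [CommRing R] [CommRing S] (f : R →+* S)
    (J : Ideal S) [J.IsPrime] (I : Ideal R) [I.IsPrime] (hI : I = J.comap f)
    (h : Function.Bijective (Localization.localRingHom (J.comap f) J f rfl)) :
    Function.Bijective (Localization.localRingHom I J f hI) := by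
  subst hI
  exact h

private theorem localRingHom_tower (q : PrimeSpectrum C) :
    ∃ hI : q.asIdeal.comap (algebraMap A C) =
      (q.asIdeal.comap (algebraMap B C)).comap (algebraMap A B),
    Localization.localRingHom (q.asIdeal.comap (algebraMap A C)) q.asIdeal (algebraMap A C) rfl =
      (Localization.localRingHom (q.asIdeal.comap (algebraMap B C)) q.asIdeal
        (algebraMap B C) rfl).comp
      (Localization.localRingHom (q.asIdeal.comap (algebraMap A C))
        (q.asIdeal.comap (algebraMap B C)) (algebraMap A B) hI) := by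
  have hI : q.asIdeal.comap (algebraMap A C) =
      (q.asIdeal.comap (algebraMap B C)).comap (algebraMap A B) := by
    rw [Ideal.comap_comap, ← IsScalarTower.algebraMap_eq]
  refine ⟨hI, ?_⟩
  apply Localization.localRingHom_unique
  intro x
  rw [RingHom.comp_apply, Localization.localRingHom_to_map, Localization.localRingHom_to_map,
    ← IsScalarTower.algebraMap_apply A B C]

/-- Composition. -/
theorem comp (hAB : EtPBC.IdentifiesLocalRings A B) (hBC : EtPBC.IdentifiesLocalRings B C) :
    EtPBC.IdentifiesLocalRings A C := by
  intro q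
  obtain ⟨hI, heq⟩ := localRingHom_tower (A := A) (B := B) q
  rw [heq]
  exact (hBC q).comp (bijective_of_eq _ _ _ hI
    (hAB ⟨q.asIdeal.comap (algebraMap B C), inferInstance⟩))

/-- Cancellation on the left: if `A → B` and `A → C` identify local rings, so does `B → C`. -/
theorem of_comp (hAB : EtPBC.IdentifiesLocalRings A B) (hAC : EtPBC.IdentifiesLocalRings A C) :
    EtPBC.IdentifiesLocalRings B C := by
  intro q
  obtain ⟨hI, heq⟩ := localRingHom_tower (A := A) (B := B) q
  have h1 := hAC q
  rw [heq] at h1
  have h2 := bijective_of_eq _ _ _ hI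
    (hAB ⟨q.asIdeal.comap (algebraMap B C), inferInstance⟩)
  rw [RingHom.coe_comp] at h1
  exact (Function.Bijective.of_comp_iff _ h2).mp h1

end comp

section localIso

private theorem atPrime_of_eq {R L : Type*} [CommRing R] [CommRing L] [Algebra R L]
    (P Q : Ideal R) [hP : P.IsPrime] [hQ : Q.IsPrime] (h : P = Q)
    (hL : IsLocalization.AtPrime L P) : IsLocalization.AtPrime L Q := by
  subst h
  exact hL

variable (A E : Type u) [CommRing A] [CommRing E] [Algebra A E]

/-- A local isomorphism identifies local rings. -/
theorem identifiesLocalRings_of_isLocalIso [Algebra.IsLocalIso A E] :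
    EtPBC.IdentifiesLocalRings A E := by
  intro q
  obtain ⟨g, hg, hstd⟩ :=
    Algebra.IsLocalIso.exists_notMem_isStandardOpenImmersion (R := A) q.asIdeal
  obtain ⟨r, hr⟩ := hstd.exists_away
  have hdisj : Disjoint (Submonoid.powers g : Set E) (q.asIdeal : Set E) := by
    rw [Set.disjoint_left]
    rintro x ⟨n, rfl⟩ hx
    exact hg (q.2.mem_of_pow_mem n hx)
  have hqg : (Ideal.map (algebraMap E (Localization.Away g)) q.asIdeal).IsPrime :=
    IsLocalization.isPrime_of_isPrime_disjoint (Submonoid.powers g) _ _ q.2 hdisj
  have hcomap : (Ideal.map (algebraMap E (Localization.Away g)) q.asIdeal).comap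
      (algebraMap E (Localization.Away g)) = q.asIdeal :=
    IsLocalization.under_map_of_isPrime_disjoint (Submonoid.powers g) _ q.2 hdisj
  generalize hqgdef : Ideal.map (algebraMap E (Localization.Away g)) q.asIdeal = qg at hqg hcomap
  -- `L` is at the same time the localisation of `E` at `q` and of `A` at `q ∩ A`
  have h1 : IsLocalization.AtPrime (Localization.AtPrime qg)
      (qg.comap (algebraMap E (Localization.Away g))) :=
    IsLocalization.isLocalization_isLocalization_atPrime_isLocalization (Submonoid.powers g)
      (Localization.AtPrime qg) qg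
  have h2 : IsLocalization.AtPrime (Localization.AtPrime qg)
      (qg.comap (algebraMap A (Localization.Away g))) :=
    IsLocalization.isLocalization_isLocalization_atPrime_isLocalization (Submonoid.powers r)
      (Localization.AtPrime qg) qg
  replace h1 : IsLocalization.AtPrime (Localization.AtPrime qg) q.asIdeal :=
    atPrime_of_eq _ _ hcomap h1
  have hcomapA : qg.comap (algebraMap A (Localization.Away g)) =
      q.asIdeal.comap (algebraMap A E) := by
    rw [IsScalarTower.algebraMap_eq A E (Localization.Away g), ← Ideal.comap_comap, hcomap]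
  replace h2 : IsLocalization.AtPrime (Localization.AtPrime qg)
      (q.asIdeal.comap (algebraMap A E)) := atPrime_of_eq _ _ hcomapA h2
  let e1 := IsLocalization.algEquiv (q.asIdeal.comap (algebraMap A E)).primeCompl
    (Localization.AtPrime (q.asIdeal.comap (algebraMap A E))) (Localization.AtPrime qg)
  let e2 := IsLocalization.algEquiv q.asIdeal.primeCompl
    (Localization.AtPrime q.asIdeal) (Localization.AtPrime qg)
  have heq : Localization.localRingHom (q.asIdeal.comap (algebraMap A E)) q.asIdeal
      (algebraMap A E) rfl = (e2.symm.toRingEquiv.toRingHom).comp e1.toRingEquiv.toRingHom := by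
    apply Localization.localRingHom_unique
    intro x
    show e2.symm (e1 (algebraMap A _ x)) = _
    rw [e1.commutes, e2.symm_apply_eq, e2.commutes, ← IsScalarTower.algebraMap_apply]
  rw [heq]
  exact e2.symm.bijective.comp e1.bijective

end localIso

section indZariski

variable {A B : Type u} [CommRing A] [CommRing B] [Algebra A B]

/-- An ind-Zariski map identifies local rings. -/
theorem identifiesLocalRings_of_isIndZariski (h : EtPBC.IsIndZariski A B) :
    EtPBC.IdentifiesLocalRings A B := by
  classical
  rw [identifiesLocalRings_iff]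
  intro q
  constructor
  · rintro a ⟨s, hs, hsa⟩
    obtain ⟨E, _, _, hE, β, y, hy, hrel⟩ :=
      Groth.Agent.Lead.IndZarTup.tuples_of_isIndZariski h 1 (fun _ => s)
        {MvPolynomial.C a * MvPolynomial.X 0} (by
          intro p hp
          rw [Finset.mem_singleton] at hp
          subst hp
          simp only [map_mul, MvPolynomial.aeval_C, MvPolynomial.aeval_X]
          rw [mul_comm]
          exact hsa)
    have hrel0 := hrel _ (Finset.mem_singleton_self _)
    simp only [map_mul, MvPolynomial.aeval_C, MvPolynomial.aeval_X] at hrel0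
    have hIL := (identifiesLocalRings_iff.mp (identifiesLocalRings_of_isLocalIso A E))
      ⟨q.asIdeal.comap β.toRingHom, inferInstance⟩
    obtain ⟨t, ht, hta⟩ := hIL.1 a ⟨y 0, by
      show β (y 0) ∉ q.asIdeal
      rw [hy]
      exact hs, by rw [mul_comm]; exact hrel0⟩
    refine ⟨t, ?_, hta⟩
    have : β (algebraMap A E t) ∉ q.asIdeal := ht
    rwa [β.commutes] at this
  · intro b
    obtain ⟨E, _, _, hE, β, y, hy, -⟩ :=
      Groth.Agent.Lead.IndZarTup.tuples_of_isIndZariski h 1 (fun _ => b) ∅ (by simp)
    have hIL := (identifiesLocalRings_iff.mp (identifiesLocalRings_of_isLocalIso A E))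
      ⟨q.asIdeal.comap β.toRingHom, inferInstance⟩
    obtain ⟨a, t, s', ht, hs', heq⟩ := hIL.2 (y 0)
    refine ⟨a, t, β s', ?_, hs', ?_⟩
    · have : β (algebraMap A E t) ∉ q.asIdeal := ht
      rwa [β.commutes] at this
    · have := congrArg β heq
      simp only [map_mul, β.commutes, hy] at this
      exact this

end indZariski

end Groth.Agent.Lead.IdLocRings
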