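import Mathlib
import Groth.Prelude.Def_PBC
import Groth.Agent.Lead.IdLocRings

/-!
# Localisations identify local rings (for helper25 / S0678)
-/

universe u

namespace Groth.Agent.Lead.IdLocRings

/-- A localisation map identifies local rings. -/
theorem identifiesLocalRings_of_isLocalization' (B C : Type u) [CommRing B] [CommRing C]
    [Algebra B C] (S : Submonoid B) [IsLocalization S C] : EtPBC.IdentifiesLocalRings B C := by
  intro Q
  have h1 : IsLocalization.AtPrime (Localization.AtPrime Q.asIdeal)
      (Q.asIdeal.comap (algebraMap B C)) :=
    IsLocalization.isLocalization_isLocalization_atPrime_isLocalization S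
      (Localization.AtPrime Q.asIdeal) Q.asIdeal
  let e1 := IsLocalization.algEquiv (Q.asIdeal.comap (algebraMap B C)).primeCompl
    (Localization.AtPrime (Q.asIdeal.comap (algebraMap B C))) (Localization.AtPrime Q.asIdeal)
  have heq : Localization.localRingHom (Q.asIdeal.comap (algebraMap B C)) Q.asIdeal
      (algebraMap B C) rfl = e1.toRingEquiv.toRingHom := by
    apply Localization.localRingHom_unique
    intro x
    show e1 (algebraMap B _ x) = _
    rw [e1.commutes, ← IsScalarTower.algebraMap_apply]
  rw [heq]
  exact e1.bijective

/-- helper25's statement (2). -/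
theorem identifiesLocalRings_of_isLocalization (A B C : Type u) [CommRing A] [CommRing B]
    [CommRing C] [Algebra A B] [Algebra B C] [Algebra A C] [IsScalarTower A B C]
    (h : EtPBC.IdentifiesLocalRings A B) (S : Submonoid B) [IsLocalization S C] :
    EtPBC.IdentifiesLocalRings A C :=
  comp h (identifiesLocalRings_of_isLocalization' B C S)

end Groth.Agent.Lead.IdLocRings
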