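import Mathlib

/-!
# Fibrewise injective / exact ⇒ locally split

`core`: `u : M → N` with `M` finitely presented, `N` finite free, injective after `⊗ κ(m)` for every
maximal ideal `m` ⇒ `u` injective, `M` projective, `N ⧸ range u` projective.

`fibreExact_three`: three-term version (requested by helper28).
-/

set_option autoImplicit false
universe u

namespace Groth.Agent.Lead.FibreExact

open TensorProduct

section Local

variable {R : Type u} [CommRing R] (m : Ideal R) [m.IsPrime]
variable {M N : Type u} [AddCommGroup M] [Module R M] [AddCommGroup N] [Module R N]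

/-- fibre injectivity over `R` gives residue-field injectivity over the local ring `R_m`. -/
theorem lTensor_residueField_injective (u : M →ₗ[R] N)
    (h : Function.Injective (u.baseChange m.ResidueField)) :
    Function.Injective ((u.baseChange (Localization.AtPrime m)).lTensor
      (IsLocalRing.ResidueField (Localization.AtPrime m))) := by
  let A := Localization.AtPrime m
  let κ := IsLocalRing.ResidueField A
  have hnat := TensorProduct.AlgebraTensorModule.lTensor_comp_cancelBaseChange
    (R := R) (A := A) (B := A) (M := κ) (N := M) (Q := N) u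
  -- `lTensor κ (lTensor A u)` vs `lTensor κ u`
  have h' : Function.Injective (TensorProduct.AlgebraTensorModule.lTensor A κ u) := by
    intro x y hxy
    apply h
    exact hxy
  intro x y hxy
  have h1 : (TensorProduct.AlgebraTensorModule.cancelBaseChange R A A κ N)
      ((TensorProduct.AlgebraTensorModule.lTensor A κ
        (TensorProduct.AlgebraTensorModule.lTensor A A u)) x) =
      (TensorProduct.AlgebraTensorModule.cancelBaseChange R A A κ N)
      ((TensorProduct.AlgebraTensorModule.lTensor A κ
        (TensorProduct.AlgebraTensorModule.lTensor A A u)) y) := by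
    congr 1
  have h2 := LinearMap.congr_fun hnat x
  have h3 := LinearMap.congr_fun hnat y
  simp only [LinearMap.coe_comp, LinearEquiv.coe_coe, Function.comp_apply] at h2 h3
  rw [← h2, ← h3] at h1
  exact (TensorProduct.AlgebraTensorModule.cancelBaseChange R A A κ M).injective (h' h1)

end Local

section Core

variable {R : Type u} [CommRing R]
variable {M N : Type u} [AddCommGroup M] [Module R M] [AddCommGroup N] [Module R N]
  [Module.Finite R M] [Module.Finite R N] [Module.Free R N]

/-- local retraction -/
theorem exists_retraction_local (m : Ideal R) [m.IsPrime] (u : M →ₗ[R] N)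
    (h : Function.Injective (u.baseChange m.ResidueField)) :
    ∃ l' : (Localization.AtPrime m) ⊗[R] N →ₗ[Localization.AtPrime m]
        (Localization.AtPrime m) ⊗[R] M,
      l' ∘ₗ (u.baseChange (Localization.AtPrime m)) = LinearMap.id :=
  (IsLocalRing.split_injective_iff_lTensor_residueField_injective _).mpr
    (lTensor_residueField_injective m u h)

theorem baseChange_injective_local (m : Ideal R) [m.IsPrime] (u : M →ₗ[R] N)
    (h : Function.Injective (u.baseChange m.ResidueField)) :
    Function.Injective (u.baseChange (Localization.AtPrime m)) := by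
  obtain ⟨l', hl'⟩ := exists_retraction_local m u h
  exact Function.HasLeftInverse.injective ⟨l', LinearMap.congr_fun hl'⟩

/-- `u` is injective if all its fibres at maximal ideals are. -/
theorem injective_of_fibres (u : M →ₗ[R] N)
    (h : ∀ (m : Ideal R) [m.IsMaximal], Function.Injective (u.baseChange m.ResidueField)) :
    Function.Injective u := by
  rw [injective_iff_map_eq_zero]
  intro x hx
  refine Module.eq_zero_of_localization_maximal
    (fun P _ => Localization.AtPrime P ⊗[R] M)
    (fun P _ => TensorProduct.mk R (Localization.AtPrime P) M 1) x (fun P _ => ?_)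
  apply baseChange_injective_local P u (h P)
  simp [hx]

/-- `M` is projective (when finitely presented). -/
theorem projective_source_of_fibres [Module.FinitePresentation R M] (u : M →ₗ[R] N)
    (h : ∀ (m : Ideal R) [m.IsMaximal], Function.Injective (u.baseChange m.ResidueField)) :
    Module.Projective R M := by
  refine Module.projective_of_localization_maximal'
    (fun P _ => Localization.AtPrime P) (fun P _ => Localization.AtPrime P ⊗[R] M)
    (fun P _ => TensorProduct.mk R (Localization.AtPrime P) M 1) (fun P _ => ?_)
  obtain ⟨l', hl'⟩ := exists_retraction_local P u (h P)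
  exact Module.Projective.of_split (u.baseChange (Localization.AtPrime P)) l' hl'

theorem finitePresentation_quotient_range (u : M →ₗ[R] N) :
    Module.FinitePresentation R (N ⧸ LinearMap.range u) := by
  refine Module.finitePresentation_of_free_of_surjective (LinearMap.range u).mkQ
    (Submodule.mkQ_surjective _) ?_
  rw [Submodule.ker_mkQ, LinearMap.range_eq_map]
  exact (Module.Finite.fg_top).map u

/-- the cokernel is projective. -/
theorem projective_coker_of_fibres (u : M →ₗ[R] N)
    (h : ∀ (m : Ideal R) [m.IsMaximal], Function.Injective (u.baseChange m.ResidueField)) :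
    Module.Projective R (N ⧸ LinearMap.range u) := by
  haveI := finitePresentation_quotient_range u
  refine Module.projective_of_localization_maximal'
    (fun P _ => Localization.AtPrime P)
    (fun P _ => Localization.AtPrime P ⊗[R] (N ⧸ LinearMap.range u))
    (fun P _ => TensorProduct.mk R (Localization.AtPrime P) (N ⧸ LinearMap.range u) 1)
    (fun P _ => ?_)
  have hex : Function.Exact (u.baseChange (Localization.AtPrime P))
      ((LinearMap.range u).mkQ.baseChange (Localization.AtPrime P)) := by
    rw [LinearMap.baseChange_eq_ltensor, LinearMap.baseChange_eq_ltensor]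
    exact lTensor_exact _ (LinearMap.exact_map_mkQ_range u) (Submodule.mkQ_surjective _)
  have hsurj : Function.Surjective
      ((LinearMap.range u).mkQ.baseChange (Localization.AtPrime P)) := by
    rw [LinearMap.baseChange_eq_ltensor]
    exact LinearMap.lTensor_surjective _ (Submodule.mkQ_surjective _)
  have := Module.free_of_lTensor_residueField_injective
    (u.baseChange (Localization.AtPrime P))
    ((LinearMap.range u).mkQ.baseChange (Localization.AtPrime P)) hsurj hex
    (lTensor_residueField_injective P u (h P))
  infer_instance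

end Core

section Three

variable {R : Type u} [CommRing R] {X₁ X₂ X₃ : Type u} [AddCommGroup X₁] [Module R X₁]
  [AddCommGroup X₂] [Module R X₂] [AddCommGroup X₃] [Module R X₃]

/-- fibrewise exactness at the middle gives fibrewise injectivity of the induced map from the
cokernel. -/
theorem liftQ_baseChange_injective (f : X₁ →ₗ[R] X₂) (g : X₂ →ₗ[R] X₃)
    (hle : LinearMap.range f ≤ LinearMap.ker g) (κ : Type u) [CommRing κ] [Algebra R κ]
    (h : Function.Exact (f.baseChange κ) (g.baseChange κ)) :
    Function.Injective (((LinearMap.range f).liftQ g hle).baseChange κ) := by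
  rw [injective_iff_map_eq_zero]
  intro y hy
  have hsurj : Function.Surjective ((LinearMap.range f).mkQ.baseChange κ) := by
    rw [LinearMap.baseChange_eq_ltensor]
    exact LinearMap.lTensor_surjective _ (Submodule.mkQ_surjective _)
  have hex : Function.Exact (f.baseChange κ) ((LinearMap.range f).mkQ.baseChange κ) := by
    rw [LinearMap.baseChange_eq_ltensor, LinearMap.baseChange_eq_ltensor]
    exact lTensor_exact _ (LinearMap.exact_map_mkQ_range f) (Submodule.mkQ_surjective _)
  obtain ⟨x, rfl⟩ := hsurj y
  have hcomp : ((LinearMap.range f).liftQ g hle).baseChange κ ∘ₗ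
      (LinearMap.range f).mkQ.baseChange κ = g.baseChange κ := by
    rw [← LinearMap.baseChange_comp]
    congr 1
  have hx : g.baseChange κ x = 0 := by
    rw [← hcomp]; exact hy
  obtain ⟨z, rfl⟩ := (h x).mp hx
  exact (hex _).mpr ⟨z, rfl⟩

variable [Module.Finite R X₁] [Module.Finite R X₂] [Module.Free R X₂]
  [Module.Finite R X₃] [Module.Free R X₃]

/-- Three-term lemma: a complex `X₁ → X₂ → X₃` (`X₁` finite, `X₂`, `X₃` finite free) which is exact
in the middle on all fibres is exact in the middle, and both cokernels are projective. -/
theorem fibreExact_three (f : X₁ →ₗ[R] X₂) (g : X₂ →ₗ[R] X₃) (hfg : g ∘ₗ f = 0)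
    (h : ∀ (q : Ideal R) [q.IsPrime],
      Function.Exact (f.baseChange q.ResidueField) (g.baseChange q.ResidueField)) :
    Function.Exact f g ∧ Module.Projective R (X₂ ⧸ LinearMap.range f) ∧
      Module.Projective R (X₃ ⧸ LinearMap.range g) := by
  have hle : LinearMap.range f ≤ LinearMap.ker g := by
    rintro _ ⟨x, rfl⟩
    exact LinearMap.congr_fun hfg x
  have hfp : Module.FinitePresentation R (X₂ ⧸ LinearMap.range f) :=
    finitePresentation_quotient_range f
  have hfib : ∀ (m : Ideal R) [m.IsMaximal], Function.Injective
      (((LinearMap.range f).liftQ g hle).baseChange m.ResidueField) :=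
    fun m _ => liftQ_baseChange_injective f g hle m.ResidueField (h m)
  have hinj := injective_of_fibres ((LinearMap.range f).liftQ g hle) hfib
  have hW := projective_source_of_fibres ((LinearMap.range f).liftQ g hle) hfib
  have hC := projective_coker_of_fibres ((LinearMap.range f).liftQ g hle) hfib
  refine ⟨?_, hW, ?_⟩
  · rw [LinearMap.exact_iff]
    apply le_antisymm
    · intro x hx
      have : (LinearMap.range f).liftQ g hle ((LinearMap.range f).mkQ x) = 0 := hx
      have h0 := (injective_iff_map_eq_zero _).mp hinj _ this
      exact (Submodule.Quotient.mk_eq_zero _).mp h0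
    · exact hle
  · have hr : LinearMap.range ((LinearMap.range f).liftQ g hle) = LinearMap.range g :=
      Submodule.range_liftQ _ _ _
    exact Module.Projective.of_equiv (Submodule.quotEquivOfEq _ _ hr)

end Three

section Homology

variable {R : Type u} [CommRing R] {X₁ X₂ X₃ : Type u} [AddCommGroup X₁] [Module R X₁]
  [AddCommGroup X₂] [Module R X₂] [AddCommGroup X₃] [Module R X₃]

/-- the image of `g` is projective if the target and the cokernel are. -/
theorem projective_range (g : X₂ →ₗ[R] X₃) [Module.Projective R X₃]
    (h2 : Module.Projective R (X₃ ⧸ LinearMap.range g)) :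
    Module.Projective R (LinearMap.range g) := by
  obtain ⟨σ, hσ⟩ := Module.projective_lifting_property (LinearMap.range g).mkQ LinearMap.id
    (Submodule.mkQ_surjective _)
  have hmem : ∀ x : X₃, x - σ ((LinearMap.range g).mkQ x) ∈ LinearMap.range g := by
    intro x
    rw [← Submodule.Quotient.mk_eq_zero, Submodule.Quotient.mk_sub]
    have := LinearMap.congr_fun hσ ((LinearMap.range g).mkQ x)
    simp only [LinearMap.coe_comp, Function.comp_apply, LinearMap.id_coe, id_eq,
      Submodule.mkQ_apply] at this ⊢
    rw [this, sub_self]
  let r : X₃ →ₗ[R] LinearMap.range g :=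
    (LinearMap.id - σ ∘ₗ (LinearMap.range g).mkQ).codRestrict (LinearMap.range g) (fun x => by
      simpa using hmem x)
  refine Module.Projective.of_split (LinearMap.range g).subtype r ?_
  ext ⟨b, hb⟩
  have h0 : (LinearMap.range g).mkQ b = 0 := by
    simpa using hb
  simp [r, h0]

/-- homology of `X₁ → X₂ → X₃` is finite projective when both cokernels are projective. -/
theorem homology_finite_projective (f : X₁ →ₗ[R] X₂) (g : X₂ →ₗ[R] X₃)
    (hfg : ∀ x, f x ∈ LinearMap.ker g)
    [Module.Finite R X₂] [Module.Projective R X₃]
    (h1 : Module.Projective R (X₂ ⧸ LinearMap.range f))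
    (h2 : Module.Projective R (X₃ ⧸ LinearMap.range g)) :
    Module.Finite R (LinearMap.ker g ⧸ LinearMap.range (f.codRestrict (LinearMap.ker g) hfg)) ∧
    Module.Projective R
      (LinearMap.ker g ⧸ LinearMap.range (f.codRestrict (LinearMap.ker g) hfg)) := by
  have hle : LinearMap.range f ≤ LinearMap.ker g := by
    rintro _ ⟨x, rfl⟩; exact hfg x
  -- W = X₂ / range f, ḡ' : W → range g
  let gbar : (X₂ ⧸ LinearMap.range f) →ₗ[R] X₃ := (LinearMap.range f).liftQ g hle
  have hgbar_mem : ∀ w, gbar w ∈ LinearMap.range g := by
    intro w
    obtain ⟨x, rfl⟩ := Submodule.mkQ_surjective _ w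
    exact ⟨x, rfl⟩
  let gbar' : (X₂ ⧸ LinearMap.range f) →ₗ[R] LinearMap.range g :=
    gbar.codRestrict _ hgbar_mem
  have hsurj : Function.Surjective gbar' := by
    rintro ⟨_, x, rfl⟩
    exact ⟨(LinearMap.range f).mkQ x, rfl⟩
  have hB := projective_range g h2
  obtain ⟨s, hs⟩ := Module.projective_lifting_property gbar' LinearMap.id hsurj
  -- ι : H → W
  let ι : (LinearMap.ker g ⧸ LinearMap.range (f.codRestrict (LinearMap.ker g) hfg)) →ₗ[R]
      (X₂ ⧸ LinearMap.range f) :=
    (LinearMap.range (f.codRestrict (LinearMap.ker g) hfg)).liftQ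
      ((LinearMap.range f).mkQ ∘ₗ (LinearMap.ker g).subtype) (by
        rintro _ ⟨x, rfl⟩
        simp only [LinearMap.mem_ker, LinearMap.coe_comp, Submodule.coe_subtype,
          Function.comp_apply, LinearMap.codRestrict_apply, Submodule.mkQ_apply,
          Submodule.Quotient.mk_eq_zero]
        exact ⟨x, rfl⟩)
  have hι_inj : Function.Injective ι := by
    rw [injective_iff_map_eq_zero]
    intro h hh
    obtain ⟨⟨x, hx⟩, rfl⟩ := Submodule.mkQ_surjective _ h
    simp only [ι, Submodule.mkQ_apply, Submodule.liftQ_apply, LinearMap.coe_comp,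
      Submodule.coe_subtype, Function.comp_apply, Submodule.Quotient.mk_eq_zero] at hh
    obtain ⟨z, rfl⟩ := hh
    rw [Submodule.mkQ_apply, Submodule.Quotient.mk_eq_zero]
    exact ⟨z, Subtype.ext rfl⟩
  -- p = id - s ∘ ḡ'
  let p : (X₂ ⧸ LinearMap.range f) →ₗ[R] (X₂ ⧸ LinearMap.range f) :=
    LinearMap.id - s ∘ₗ gbar'
  have hp_ker : ∀ w, gbar (p w) = 0 := by
    intro w
    have h1 : gbar' (p w) = 0 := by
      simp only [p, LinearMap.sub_apply, LinearMap.id_coe, id_eq, LinearMap.coe_comp,
        Function.comp_apply, map_sub]
      have := LinearMap.congr_fun hs (gbar' w)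
      simp only [LinearMap.coe_comp, Function.comp_apply, LinearMap.id_coe, id_eq] at this
      rw [this, sub_self]
    exact congrArg Subtype.val h1
  have hker_range : ∀ w, gbar w = 0 → w ∈ LinearMap.range ι := by
    intro w hw
    obtain ⟨x, rfl⟩ := Submodule.mkQ_surjective _ w
    have hx : x ∈ LinearMap.ker g := hw
    exact ⟨(LinearMap.range (f.codRestrict (LinearMap.ker g) hfg)).mkQ ⟨x, hx⟩, rfl⟩
  let e := LinearEquiv.ofInjective ι hι_inj
  let ρ : (X₂ ⧸ LinearMap.range f) →ₗ[R]
      (LinearMap.ker g ⧸ LinearMap.range (f.codRestrict (LinearMap.ker g) hfg)) :=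
    e.symm.toLinearMap ∘ₗ p.codRestrict (LinearMap.range ι) (fun w => hker_range _ (hp_ker w))
  have hρι : ρ ∘ₗ ι = LinearMap.id := by
    refine LinearMap.ext fun h => ?_
    simp only [LinearMap.coe_comp, Function.comp_apply, LinearMap.id_coe, id_eq]
    have hgι : gbar' (ι h) = 0 := by
      obtain ⟨⟨x, hx⟩, rfl⟩ := Submodule.mkQ_surjective _ h
      exact Subtype.ext hx
    have hp : p (ι h) = ι h := by
      simp [p, hgι]
    change e.symm (p.codRestrict (LinearMap.range ι) _ (ι h)) = h
    apply e.injective
    rw [LinearEquiv.apply_symm_apply]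
    exact Subtype.ext hp
  refine ⟨?_, Module.Projective.of_split ι ρ hρι⟩
  have hρ_surj : Function.Surjective ρ := fun h => ⟨ι h, LinearMap.congr_fun hρι h⟩
  exact Module.Finite.of_surjective ρ hρ_surj

end Homology

section Complex

open CategoryTheory

variable {R : Type u} [CommRing R] (M : CochainComplex (ModuleCat.{u} R) ℤ)

theorem three_at (hfin : ∀ n, Module.Finite R (M.X n)) (hfree : ∀ n, Module.Free R (M.X n))
    (k a c : ℤ) (ha : a = k - 1) (hc : c = k + 1)
    (h : ∀ (q : Ideal R) [q.IsPrime],
      Function.Exact ((M.d (k - 1) k).hom.baseChange q.ResidueField)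
        ((M.d k (k + 1)).hom.baseChange q.ResidueField)) :
    Function.Exact (M.d a k).hom (M.d k c).hom ∧
      Module.Projective R (M.X k ⧸ LinearMap.range (M.d a k).hom) ∧
      Module.Projective R (M.X c ⧸ LinearMap.range (M.d k c).hom) := by
  subst ha hc
  have := hfin
  have := hfree
  refine fibreExact_three _ _ ?_ h
  rw [← ModuleCat.hom_comp, M.d_comp_d]
  rfl

/-- Complex version: a complex of finite free modules whose fibres are exact in all degrees `≠ i`
has vanishing homology in degrees `≠ i` and finite projective homology in degree `i`. -/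
theorem fibreExact_complex (hfin : ∀ n, Module.Finite R (M.X n))
    (hfree : ∀ n, Module.Free R (M.X n)) (i : ℤ)
    (h : ∀ k : ℤ, k ≠ i → ∀ (q : Ideal R) [q.IsPrime],
      Function.Exact ((M.d (k - 1) k).hom.baseChange q.ResidueField)
        ((M.d k (k + 1)).hom.baseChange q.ResidueField)) :
    (∀ k : ℤ, k ≠ i → CategoryTheory.Limits.IsZero (M.homology k)) ∧
      Module.Finite R (M.homology i) ∧ Module.Projective R (M.homology i) := by
  refine ⟨fun k hk => ?_, ?_⟩
  · have h3 := three_at M hfin hfree k (k - 1) (k + 1) rfl rfl (h k hk)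
    rw [← HomologicalComplex.exactAt_iff_isZero_homology,
      HomologicalComplex.exactAt_iff' M (k - 1) k (k + 1) (by simp) (by simp),
      ShortComplex.ShortExact.moduleCat_exact_iff_function_exact]
    exact h3.1
  · have hA := three_at M hfin hfree (i - 1) (i - 1 - 1) i rfl (by ring)
      (h (i - 1) (by omega))
    have hB := three_at M hfin hfree (i + 1) i (i + 1 + 1) (by ring) rfl
      (h (i + 1) (by omega))
    have := hfin i
    have : Module.Projective R (M.X (i + 1)) := by
      have := hfree (i + 1); infer_instance
    have key := homology_finite_projective (M.d (i - 1) i).hom (M.d i (i + 1)).hom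
      (fun x => by
        change (M.d i (i + 1)).hom ((M.d (i - 1) i).hom x) = 0
        rw [← LinearMap.comp_apply, ← ModuleCat.hom_comp, M.d_comp_d]; rfl)
      hA.2.2 hB.2.1
    let e : M.homology i ≅ (M.sc' (i - 1) i (i + 1)).moduleCatLeftHomologyData.H :=
      M.homologyIsoSc' (i - 1) i (i + 1) (by simp) (by simp) ≪≫
        (M.sc' (i - 1) i (i + 1)).moduleCatHomologyIso
    have k1 : Module.Finite R ((M.sc' (i - 1) i (i + 1)).moduleCatLeftHomologyData.H) := key.1
    have k2 : Module.Projective R ((M.sc' (i - 1) i (i + 1)).moduleCatLeftHomologyData.H) :=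
      key.2
    exact ⟨Module.Finite.equiv e.toLinearEquiv.symm,
      Module.Projective.of_equiv e.toLinearEquiv.symm⟩

end Complex

end Groth.Agent.Lead.FibreExact
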