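import Mathlib

/-!
# A coproduct of distinguished triangles is distinguished

Dual of Mathlib's `Pretriangulated.productTriangle_distinguished`.
Lemma-provider file for helper31 (S1000, S7280).
-/

set_option autoImplicit false
open CategoryTheory CategoryTheory.Category CategoryTheory.Limits CategoryTheory.Pretriangulated

namespace Groth.Agent.Lead.SigmaTri

variable {C : Type*} [Category C] [HasZeroObject C] [HasShift C ℤ] [Preadditive C]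
  [∀ n : ℤ, (shiftFunctor C n).Additive] [Pretriangulated C]

section shiftSigma

variable {J : Type*} (X : J → C) [HasCoproduct X]

/-- The shifted coproduct cofan is a colimit. -/
noncomputable def shiftSigmaIsColimit :
    IsColimit ((shiftFunctor C (1 : ℤ)).mapCocone (Cofan.mk _ (Sigma.ι X))) :=
  isColimitOfPreserves _ (coproductIsCoproduct X)

lemma shift_sigma_hom_ext {A : C} (u v : (∐ X)⟦(1 : ℤ)⟧ ⟶ A)
    (h : ∀ j, (Sigma.ι X j)⟦(1 : ℤ)⟧' ≫ u = (Sigma.ι X j)⟦(1 : ℤ)⟧' ≫ v) : u = v :=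
  (shiftSigmaIsColimit X).hom_ext (fun ⟨j⟩ => h j)

lemma shift_sigma_desc {A : C} (b : ∀ j, (X j)⟦(1 : ℤ)⟧ ⟶ A) :
    ∃ β : (∐ X)⟦(1 : ℤ)⟧ ⟶ A, ∀ j, (Sigma.ι X j)⟦(1 : ℤ)⟧' ≫ β = b j := by
  let s : Cocone (Discrete.functor X ⋙ shiftFunctor C (1 : ℤ)) :=
    { pt := A
      ι := Discrete.natTrans (fun ⟨j⟩ => b j) }
  exact ⟨(shiftSigmaIsColimit X).desc s, fun j => (shiftSigmaIsColimit X).fac s ⟨j⟩⟩

end shiftSigma

/-- Exactness of `Hom(-, A)` one step further to the right. -/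
lemma yoneda_exact₁' (T : Triangle C) (hT : T ∈ distTriang C) {A : C}
    (h : T.obj₁⟦(1 : ℤ)⟧ ⟶ A) (hh : T.mor₃ ≫ h = 0) :
    ∃ h' : T.obj₂⟦(1 : ℤ)⟧ ⟶ A, h = T.mor₁⟦(1 : ℤ)⟧' ≫ h' := by
  obtain ⟨g, hg⟩ : ∃ g : T.obj₂⟦(1 : ℤ)⟧ ⟶ A, h = (-(T.mor₁⟦(1 : ℤ)⟧')) ≫ g :=
    Triangle.yoneda_exact₂ _ (rot_of_distTriang _ (rot_of_distTriang _ hT)) h hh
  refine ⟨-g, ?_⟩
  rw [hg, Preadditive.neg_comp, Preadditive.comp_neg]

/-- A coproduct of distinguished triangles is distinguished (dual of Mathlib's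
`productTriangle_distinguished`). -/
theorem sigma_distinguished {J : Type*} (T : J → Triangle C) (hT : ∀ j, T j ∈ distTriang C)
    [HasCoproduct (fun j => (T j).obj₁)] [HasCoproduct (fun j => (T j).obj₂)]
    [HasCoproduct (fun j => (T j).obj₃)] :
    Triangle.mk (Limits.Sigma.map (fun j => (T j).mor₁)) (Limits.Sigma.map (fun j => (T j).mor₂))
      (Sigma.desc (fun j => (T j).mor₃ ≫ (Sigma.ι (fun j => (T j).obj₁) j)⟦(1 : ℤ)⟧')) ∈
        distTriang C := by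
  let f₁ : (∐ fun j => (T j).obj₁) ⟶ ∐ fun j => (T j).obj₂ :=
    Limits.Sigma.map (fun j => (T j).mor₁)
  let m₂ : (∐ fun j => (T j).obj₂) ⟶ ∐ fun j => (T j).obj₃ :=
    Limits.Sigma.map (fun j => (T j).mor₂)
  let m₃ : (∐ fun j => (T j).obj₃) ⟶ (∐ fun j => (T j).obj₁)⟦(1 : ℤ)⟧ :=
    Sigma.desc (fun j => (T j).mor₃ ≫ (Sigma.ι (fun j => (T j).obj₁) j)⟦(1 : ℤ)⟧')
  show Triangle.mk f₁ m₂ m₃ ∈ distTriang C
  have hm₂ : ∀ j, Sigma.ι (fun j => (T j).obj₂) j ≫ m₂ =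
      (T j).mor₂ ≫ Sigma.ι (fun j => (T j).obj₃) j := fun j => Sigma.ι_map _ j
  have hm₃ : ∀ j, Sigma.ι (fun j => (T j).obj₃) j ≫ m₃ =
      (T j).mor₃ ≫ (Sigma.ι (fun j => (T j).obj₁) j)⟦(1 : ℤ)⟧' := fun j => Sigma.ι_desc _ j
  have hf₁ : ∀ j, Sigma.ι (fun j => (T j).obj₁) j ≫ f₁ =
      (T j).mor₁ ≫ Sigma.ι (fun j => (T j).obj₂) j := fun j => Sigma.ι_map _ j
  obtain ⟨Z, f₂, f₃, hT'⟩ := distinguished_cocone_triangle f₁
  let T' := Triangle.mk f₁ f₂ f₃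
  change T' ∈ distTriang C at hT'
  let φ : ∀ j, T j ⟶ T' := fun j => completeDistinguishedTriangleMorphism _ _
    (hT j) hT' (Sigma.ι (fun j => (T j).obj₁) j) (Sigma.ι (fun j => (T j).obj₂) j)
    (hf₁ j).symm
  obtain ⟨cj, hφ₂, hφ₃⟩ : ∃ cj : ∀ j, (T j).obj₃ ⟶ Z,
      (∀ j, (T j).mor₂ ≫ cj j = Sigma.ι (fun j => (T j).obj₂) j ≫ f₂) ∧
      (∀ j, (T j).mor₃ ≫ (Sigma.ι (fun j => (T j).obj₁) j)⟦(1 : ℤ)⟧' = cj j ≫ f₃) :=
    ⟨fun j => (φ j).hom₃, fun j => (φ j).comm₂, fun j => (φ j).comm₃⟩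
  let c : (∐ fun j => (T j).obj₃) ⟶ Z := Sigma.desc cj
  have hc : ∀ j, Sigma.ι (fun j => (T j).obj₃) j ≫ c = cj j := fun j =>
    Sigma.ι_desc _ j
  have hS₂ : m₂ ≫ c = f₂ := by
    apply Sigma.hom_ext
    intro j
    rw [← assoc, hm₂ j, assoc, hc j]
    exact hφ₂ j
  have hS₃ : m₃ = c ≫ f₃ := by
    apply Sigma.hom_ext
    intro j
    rw [hm₃ j, ← assoc, hc j]
    exact hφ₃ j
  let φ' : Triangle.mk f₁ m₂ m₃ ⟶ T' :=
    { hom₁ := 𝟙 _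
      hom₂ := 𝟙 _
      hom₃ := c
      comm₁ := by
        show f₁ ≫ 𝟙 _ = 𝟙 _ ≫ f₁
        rw [comp_id, id_comp]
      comm₂ := by
        show m₂ ≫ c = 𝟙 _ ≫ f₂
        rw [hS₂, id_comp]
      comm₃ := by
        show m₃ ≫ (𝟙 (∐ fun j => (T j).obj₁))⟦(1 : ℤ)⟧' = c ≫ f₃
        rw [hS₃, CategoryTheory.Functor.map_id, comp_id] }
  have : IsIso φ'.hom₁ := (inferInstance : IsIso (𝟙 (∐ fun j => (T j).obj₁)))
  have : IsIso φ'.hom₂ := (inferInstance : IsIso (𝟙 (∐ fun j => (T j).obj₂)))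
  suffices IsIso c by
    have : IsIso φ'.hom₃ := this
    have : IsIso φ' := by
      apply Triangle.isIso_of_isIsos
      all_goals infer_instance
    exact isomorphic_distinguished _ hT' _ (asIso φ')
  refine isIso_of_coyoneda_map_bijective _ (fun A => ⟨?_, ?_⟩)
  · -- injectivity
    suffices ∀ x : Z ⟶ A, c ≫ x = 0 → x = 0 by
      intro x₁ x₂ hx
      have h0 := this (x₁ - x₂) (by
        have hx' : c ≫ x₁ = c ≫ x₂ := hx
        rw [Preadditive.comp_sub, hx', sub_self])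
      exact sub_eq_zero.mp h0
    intro x hx
    have hx₂ : T'.mor₂ ≫ x = 0 := by
      show f₂ ≫ x = 0
      rw [← hS₂, assoc, hx, comp_zero]
    obtain ⟨g, hg⟩ : ∃ g : (∐ fun j => (T j).obj₁)⟦(1 : ℤ)⟧ ⟶ A, x = f₃ ≫ g :=
      T'.yoneda_exact₃ hT' x hx₂
    have hg' : ∀ j, (T j).mor₃ ≫ ((Sigma.ι (fun j => (T j).obj₁) j)⟦(1 : ℤ)⟧' ≫ g) = 0 := by
      intro j
      rw [← assoc, hφ₃ j, assoc, ← hg, ← hc j, assoc, hx, comp_zero]
    choose β' hβ' using fun j => yoneda_exact₁' (T j) (hT j) _ (hg' j)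
    obtain ⟨β, hβ⟩ := shift_sigma_desc (fun j => (T j).obj₂) β'
    have hgβ : g = f₁⟦(1 : ℤ)⟧' ≫ β := by
      apply shift_sigma_hom_ext
      intro j
      rw [hβ' j, ← assoc, ← Functor.map_comp, hf₁ j, Functor.map_comp, assoc, hβ j]
    have h0 : f₃ ≫ f₁⟦(1 : ℤ)⟧' = 0 := comp_distTriang_mor_zero₃₁ _ hT'
    rw [hg, hgβ, ← assoc, h0, zero_comp]
  · -- surjectivity
    intro a
    have hz : T'.mor₁ ≫ (m₂ ≫ a) = 0 := by
      show f₁ ≫ m₂ ≫ a = 0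
      have : f₁ ≫ m₂ = 0 := by
        apply Sigma.hom_ext
        intro j
        rw [← assoc, hf₁ j, assoc, hm₂ j, ← assoc, comp_distTriang_mor_zero₁₂ _ (hT j),
          zero_comp, comp_zero]
      rw [← assoc, this, zero_comp]
    obtain ⟨a', ha'⟩ : ∃ a' : Z ⟶ A, m₂ ≫ a = f₂ ≫ a' := T'.yoneda_exact₂ hT' (m₂ ≫ a) hz
    have hd : ∀ j, (T j).mor₂ ≫ (Sigma.ι (fun j => (T j).obj₃) j ≫ (a - c ≫ a')) = 0 := by
      intro j
      rw [← assoc, ← hm₂ j, assoc, Preadditive.comp_sub, ← assoc m₂, hS₂, ha', sub_self,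
        comp_zero]
    choose b hb using fun j => (T j).yoneda_exact₃ (hT j) _ (hd j)
    obtain ⟨β, hβ⟩ := shift_sigma_desc (fun j => (T j).obj₁) b
    have hab : a - c ≫ a' = m₃ ≫ β := by
      apply Sigma.hom_ext
      intro j
      rw [hb j, ← assoc, hm₃ j, assoc, hβ j]
    refine ⟨a' + f₃ ≫ β, ?_⟩
    show c ≫ (a' + f₃ ≫ β) = a
    rw [Preadditive.comp_add, ← assoc, ← hS₃, ← hab]
    abel

end Groth.Agent.Lead.SigmaTri
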