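import Mathlib
import Groth.Prelude.Def_FlatCA
import Groth.Agent.H9.WeakAss
import Groth.Agent.H87.WAssBasic

/-!
# Weakly associated primes descend along étale ring maps (lead library)

For an étale ring map `A → B`, an `A`-module `M` and a prime `q` of `B` weakly associated to the base
change of `M`, the prime `q ∩ A` is weakly associated to `M`.  (The converse is
`Groth.Agent.H9.WeakAss.mem_weakAss_tensor_of_flat_of_quasiFinite`.)

The proof reduces, through the local structure of étale algebras, to a localization of a finite free
algebra, where it follows from the finite case (`H87.WAss.comap_mem_weakAss_of_finite`) and the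
direct sum case (`H87.WAss.weakAss_finsupp_subset`).
-/

set_option autoImplicit false
universe u v w

open Submodule TensorProduct

namespace Groth.Agent.Lead.WeakAssEtale

open Groth.Agent.H9.WeakAss Groth.Agent.H87.WAss

/-- The descent property of weakly associated primes for an `A`-algebra `B`, at a prime `q`. -/
def DescAt (A : Type u) (B : Type v) [CommRing A] [CommRing B] [Algebra A B] (q : Ideal B) : Prop :=
  ∀ (M : Type w) [AddCommGroup M] [Module A M],
    q ∈ FlatCA.weakAss B (B ⊗[A] M) → q.comap (algebraMap A B) ∈ FlatCA.weakAss A M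

section Reduce

variable {A : Type u} {B : Type v} {B' : Type v} [CommRing A] [CommRing B] [CommRing B']
  [Algebra A B] [Algebra A B'] [Algebra B B'] [IsScalarTower A B B']

/-- Reduction along a flat quasi-finite map `B → B'`. -/
theorem descAt_of_flat_quasiFinite [Module.Flat B B'] [Algebra.QuasiFinite B B']
    (q : Ideal B) [q.IsPrime] (t : Ideal B') [t.IsPrime] [t.LiesOver q]
    (h : DescAt.{u, v, w} A B' t) : DescAt.{u, v, w} A B q := by
  intro M _ _ hq
  have h1 : t ∈ FlatCA.weakAss B' (B' ⊗[B] (B ⊗[A] M)) :=
    mem_weakAss_tensor_of_flat_of_quasiFinite (A := B) (B := B') (B ⊗[A] M) q t hq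
  -- `B' ⊗[B] (B ⊗[A] M) ≃ B' ⊗[A] M` as `B'`-modules
  let e : B' ⊗[B] (B ⊗[A] M) ≃ₗ[B'] B' ⊗[A] M :=
    TensorProduct.AlgebraTensorModule.cancelBaseChange A B B' B' M
  have h2 : t ∈ FlatCA.weakAss B' (B' ⊗[A] M) := by
    rw [← weakAss_congr e]
    exact h1
  have h3 := h M h2
  have hcomap : t.comap (algebraMap A B') = q.comap (algebraMap A B) := by
    have hq : q = t.comap (algebraMap B B') := Ideal.LiesOver.over
    rw [hq, Ideal.comap_comap, ← IsScalarTower.algebraMap_eq]
  rw [hcomap] at h3
  exact h3

end Reduce

section Iso

variable {A : Type u} {B : Type v} {B' : Type v} [CommRing A] [CommRing B] [CommRing B']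
  [Algebra A B] [Algebra A B']

/-- Transport along an isomorphism of `A`-algebras. -/
theorem descAt_of_algEquiv (e : B ≃ₐ[A] B') (q : Ideal B) [q.IsPrime]
    (h : DescAt.{u, v, w} A B' (q.comap (e.symm : B' →+* B))) : DescAt.{u, v, w} A B q := by
  let _ : Algebra B B' := (e : B →+* B').toAlgebra
  have : IsScalarTower A B B' := IsScalarTower.of_algebraMap_eq (fun a => (e.commutes a).symm)
  have hbij : Function.Bijective (algebraMap B B') := e.bijective
  have : Module.Finite B B' := Module.Finite.of_surjective (Algebra.linearMap B B') hbij.2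
  have : Module.Flat B B' :=
    Module.Flat.of_linearEquiv (LinearEquiv.ofBijective (Algebra.linearMap B B') hbij).symm
  have : (q.comap (e.symm : B' →+* B)).IsPrime := Ideal.comap_isPrime _ _
  have : (q.comap (e.symm : B' →+* B)).LiesOver q := by
    constructor
    ext x
    simp only [Ideal.under, Ideal.mem_comap]
    change x ∈ q ↔ e.symm (e x) ∈ q
    rw [AlgEquiv.symm_apply_apply]
  exact descAt_of_flat_quasiFinite q (q.comap (e.symm : B' →+* B)) h

end Iso

section FiniteFree

variable {A : Type u} {C : Type v} [CommRing A] [CommRing C] [Algebra A C]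
  [Module.Finite A C] [Module.Free A C]

/-- The finite free case. -/
theorem descAt_of_finite_free (P : Ideal C) : DescAt.{u, v, w} A C P := by
  intro M _ _ hP
  have h1 : P.comap (algebraMap A C) ∈ FlatCA.weakAss A (C ⊗[A] M) :=
    comap_mem_weakAss_of_finite (R := A) (S := C) (N := C ⊗[A] M) P hP
  let b := Module.Free.chooseBasis A C
  let e : C ⊗[A] M ≃ₗ[A] (Module.Free.ChooseBasisIndex A C →₀ M) :=
    (TensorProduct.congr b.repr (LinearEquiv.refl A M)).trans
      (TensorProduct.finsuppScalarLeft A M _)
  rw [weakAss_congr e] at h1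
  exact weakAss_finsupp_subset M h1

/-- The case of a localization of a finite free algebra at one element. -/
theorem descAt_localizationAway_of_finite_free (g₀ : C) (t : Ideal (Localization.Away g₀))
    [t.IsPrime] : DescAt.{u, v, w} A (Localization.Away g₀) t := by
  intro M _ _ ht
  let Loc := Localization.Away g₀
  let φ : C ⊗[A] M →ₗ[C] Loc ⊗[A] M :=
    TensorProduct.AlgebraTensorModule.map (Algebra.linearMap C Loc) (LinearMap.id : M →ₗ[A] M)
  have hbc : IsBaseChange Loc φ := by
    have h1 : IsBaseChange C (TensorProduct.mk A C M 1) := TensorProduct.isBaseChange A M C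
    refine IsBaseChange.of_comp h1 ?_
    have h2 : IsBaseChange Loc (TensorProduct.mk A Loc M 1) := TensorProduct.isBaseChange A M Loc
    convert h2 using 1
    ext m
    simp [φ]
  have : IsLocalizedModule (Submonoid.powers g₀) φ :=
    (isLocalizedModule_iff_isBaseChange (Submonoid.powers g₀) Loc φ).2 hbc
  set P : Ideal C := t.comap (algebraMap C Loc) with hP
  have : P.IsPrime := Ideal.comap_isPrime _ _
  have hdisj : Disjoint (Submonoid.powers g₀ : Set C) (P : Set C) :=
    ((IsLocalization.isPrime_iff_isPrime_disjoint (Submonoid.powers g₀) Loc t).1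
      inferInstance).2
  have hmap : P.map (algebraMap C Loc) = t :=
    IsLocalization.map_under (Submonoid.powers g₀) Loc t
  have hPmem : P ∈ FlatCA.weakAss C (C ⊗[A] M) := by
    rw [mem_weakAss_map_iff (Submonoid.powers g₀) Loc φ P hdisj, hmap]
    exact ht
  have h3 := descAt_of_finite_free.{u, v, w} (A := A) P M hPmem
  have hcomap : t.comap (algebraMap A Loc) = P.comap (algebraMap A C) := by
    rw [hP, Ideal.comap_comap, ← IsScalarTower.algebraMap_eq]
  rw [hcomap]
  exact h3

end FiniteFree

section Etale

variable {A : Type u} {B : Type u} [CommRing A] [CommRing B] [Algebra A B]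

/-- The standard étale case. -/
theorem descAt_of_isStandardEtale [Algebra.IsStandardEtale A B] (q : Ideal B) [q.IsPrime] :
    DescAt.{u, u, w} A B q := by
  let P : StandardEtalePresentation A B :=
    Algebra.IsStandardEtale.nonempty_standardEtalePresentation.some
  let e : B ≃ₐ[A] Localization.Away (AdjoinRoot.mk P.f P.g) :=
    P.equivRing.trans P.P.equivAwayAdjoinRoot
  have : Module.Finite A (AdjoinRoot P.f) := P.monic_f.finite_adjoinRoot
  have : Module.Free A (AdjoinRoot P.f) := P.monic_f.free_adjoinRoot
  have : (q.comap (e.symm : Localization.Away (AdjoinRoot.mk P.f P.g) →+* B)).IsPrime :=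
    Ideal.comap_isPrime _ _
  exact descAt_of_algEquiv e q (descAt_localizationAway_of_finite_free _ _)

/-- **Weakly associated primes descend along étale ring maps**, tensor product form. -/
theorem descAt_of_etale [Algebra.Etale A B] (q : Ideal B) [q.IsPrime] :
    DescAt.{u, u, w} A B q := by
  obtain ⟨f, hfq, hf⟩ := Algebra.IsEtaleAt.exists_isStandardEtale (R := A) q
  let t : Ideal (Localization.Away f) := q.map (algebraMap B (Localization.Away f))
  have hdisj : Disjoint (Submonoid.powers f : Set B) (q : Set B) := by
    rw [Set.disjoint_left]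
    rintro x ⟨n, rfl⟩ hx
    exact hfq (Ideal.IsPrime.mem_of_pow_mem inferInstance n hx)
  have : t.IsPrime :=
    IsLocalization.isPrime_of_isPrime_disjoint (Submonoid.powers f) _ q inferInstance hdisj
  have : t.LiesOver q :=
    ⟨(IsLocalization.under_map_of_isPrime_disjoint (Submonoid.powers f) _ inferInstance
      hdisj).symm⟩
  exact descAt_of_flat_quasiFinite q t (descAt_of_isStandardEtale t)

/-- **Weakly associated primes descend along étale ring maps**: if `q` is weakly associated to a
base change `N` of the `A`-module `M` along the étale map `A → B`, then `q ∩ A` is weakly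
associated to `M`. -/
theorem comap_mem_weakAss_of_etale [Algebra.Etale A B] {M : Type w} [AddCommGroup M] [Module A M]
    {N : Type w} [AddCommGroup N] [Module B N] [Module A N] [IsScalarTower A B N]
    (g : M →ₗ[A] N) (hg : IsBaseChange B g) (q : Ideal B) (hq : q ∈ FlatCA.weakAss B N) :
    q.comap (algebraMap A B) ∈ FlatCA.weakAss A M := by
  obtain ⟨z, hz⟩ := hq
  have : q.IsPrime := hz.1.1
  refine descAt_of_etale.{u, w} q M ?_
  rw [weakAss_congr hg.equiv]
  exact ⟨z, hz⟩

end Etale

end Groth.Agent.Lead.WeakAssEtale
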