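import Mathlib

set_option autoImplicit false
universe u

namespace Groth.Agent.Lead.MR_PA

open MonoidAlgebra

section Coeffs
variable {B : Type u} [CommRing B] {G : Type} [CommGroup G] [DecidableEq G]

/-- (L1) coefficients of the "diagonal" map `B[G] → B[G × G]`, `g ↦ (g, g)`. -/
lemma coeff_diag (x : MonoidAlgebra B G) (g₀ h₀ : G) :
    ((liftNCRingHom (singleOneRingHom (R := B) (M := G × G))
        (((of B (G × G)).comp (MonoidHom.inl G G)) * ((of B (G × G)).comp (MonoidHom.inr G G)))
        (fun _ _ => Commute.all _ _)) x).coeff (g₀, h₀) =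
      if g₀ = h₀ then x.coeff g₀ else 0 := by
  classical
  induction x using MonoidAlgebra.induction_linear with
  | zero => simp
  | add x y hx hy =>
    rw [map_add, coeff_add, Finsupp.add_apply, hx, hy, coeff_add, Finsupp.add_apply]
    split_ifs <;> simp
  | single g b =>
    rw [liftNCRingHom_single]
    have : (((of B (G × G)).comp (MonoidHom.inl G G)) * ((of B (G × G)).comp (MonoidHom.inr G G))) g
        = single (g, g) (1 : B) := by
      simp [MonoidHom.mul_apply, of_apply, single_mul_single]
    rw [this, show (singleOneRingHom (R := B) (M := G × G)) b = single 1 b from rfl, single_mul_single]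
    simp only [one_mul, mul_one, coeff_single, Finsupp.single_apply, Prod.mk.injEq]
    by_cases h1 : g = g₀
    · subst h1
      by_cases h2 : g = h₀
      · subst h2; simp
      · simp [h2]
    · have : ¬ (g = g₀ ∧ g = h₀) := fun h => h1 h.1
      simp [h1]

/-- (L3) coefficients of `B[G] → B[G × G]`, `g ↦ (1, g)`. -/
lemma coeff_inr (y : MonoidAlgebra B G) (a h : G) :
    ((liftNCRingHom (singleOneRingHom (R := B) (M := G × G))
        ((of B (G × G)).comp (MonoidHom.inr G G))
        (fun _ _ => Commute.all _ _)) y).coeff (a, h) =
      if a = 1 then y.coeff h else 0 := by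
  classical
  induction y using MonoidAlgebra.induction_linear with
  | zero => simp
  | add x y hx hy =>
    rw [map_add, coeff_add, Finsupp.add_apply, hx, hy, coeff_add, Finsupp.add_apply]
    split_ifs <;> simp
  | single g b =>
    rw [liftNCRingHom_single]
    have : ((of B (G × G)).comp (MonoidHom.inr G G)) g = single ((1 : G), g) (1 : B) := by
      simp [of_apply]
    rw [this, show (singleOneRingHom (R := B) (M := G × G)) b = single 1 b from rfl, single_mul_single]
    simp only [one_mul, mul_one, coeff_single, Finsupp.single_apply, Prod.mk.injEq]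
    by_cases h1 : a = 1
    · subst h1
      by_cases h2 : g = h
      · subst h2; simp
      · simp [h2]
    · have : ¬ ((1 : G) = a ∧ g = h) := fun h => h1 h.1.symm
      simp [this, h1]

omit [DecidableEq G] in
/-- (L2) coefficients of `B[G] → B[G × G]`, `b·g ↦ F b · (g, 1)`. -/
lemma coeff_inl (F : B →+* MonoidAlgebra B (G × G)) (x : MonoidAlgebra B G) (g₀ h₀ : G) :
    ((liftNCRingHom F ((of B (G × G)).comp (MonoidHom.inl G G))
        (fun _ _ => Commute.all _ _)) x).coeff (g₀, h₀) =
      x.coeff.sum (fun g b => (F b).coeff (g⁻¹ * g₀, h₀)) := by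
  classical
  induction x using MonoidAlgebra.induction_linear with
  | zero => simp
  | add x y hx hy =>
    rw [map_add, coeff_add, Finsupp.add_apply, hx, hy, coeff_add]
    rw [Finsupp.sum_add_index']
    · intro a; simp
    · intro a b₁ b₂; simp [map_add, coeff_add]
  | single g b =>
    rw [liftNCRingHom_single]
    have : ((of B (G × G)).comp (MonoidHom.inl G G)) g = single (g, (1 : G)) (1 : B) := by
      simp [of_apply]
    rw [this, coeff_mul_single_apply, coeff_single, Finsupp.sum_single_index (by simp)]
    simp [mul_comm]

/-- The ideal of `B[G]` of elements all of whose coefficients lie in `J`. -/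
def coeffIdeal (J : Ideal B) : Ideal (MonoidAlgebra B G) where
  carrier := {x | ∀ g, x.coeff g ∈ J}
  add_mem' := fun {x y} hx hy g => by
    rw [coeff_add, Finsupp.add_apply]; exact J.add_mem (hx g) (hy g)
  zero_mem' := fun g => by simp
  smul_mem' := fun c x hx g => by
    rw [smul_eq_mul]
    induction c using MonoidAlgebra.induction_linear generalizing g with
    | zero => simp
    | add c d hc hd =>
      rw [add_mul, coeff_add, Finsupp.add_apply]; exact J.add_mem (hc g) (hd g)
    | single a r =>
      rw [coeff_single_mul_apply]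
      exact J.mul_mem_left _ (hx _)

omit [DecidableEq G] in
lemma mem_coeffIdeal {J : Ideal B} {x : MonoidAlgebra B G} :
    x ∈ coeffIdeal (G := G) J ↔ ∀ g, x.coeff g ∈ J := Iff.rfl

end Coeffs

/-- (PA) a "coaction" of a group algebra that is trivial modulo a nilpotent ideal is trivial. -/
theorem coaction_trivial {A B : Type u} [CommRing A] [CommRing B] (α : A →+* B)
    (G : Type) [CommGroup G] (I : Ideal A) (hI : IsNilpotent I)
    (ρ : B →+* MonoidAlgebra B G)
    (hlin : ∀ a : A, ρ (α a) = MonoidAlgebra.single 1 (α a))
    (hunit : (MonoidAlgebra.liftNCRingHom (RingHom.id B) (1 : G →* B)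
      (fun _ _ => Commute.all _ _)).comp ρ = RingHom.id B)
    (hassoc :
      (MonoidAlgebra.liftNCRingHom (MonoidAlgebra.singleOneRingHom (R := B) (M := G × G))
        (((MonoidAlgebra.of B (G × G)).comp (MonoidHom.inl G G)) *
          ((MonoidAlgebra.of B (G × G)).comp (MonoidHom.inr G G)))
        (fun _ _ => Commute.all _ _)).comp ρ =
      (MonoidAlgebra.liftNCRingHom
        ((MonoidAlgebra.liftNCRingHom (MonoidAlgebra.singleOneRingHom (R := B) (M := G × G))
          ((MonoidAlgebra.of B (G × G)).comp (MonoidHom.inr G G))
          (fun _ _ => Commute.all _ _)).comp ρ)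
        ((MonoidAlgebra.of B (G × G)).comp (MonoidHom.inl G G))
        (fun _ _ => Commute.all _ _)).comp ρ)
    (hmod : ∀ b : B, ρ b - MonoidAlgebra.single 1 b ∈
      I.map ((MonoidAlgebra.singleOneRingHom (R := B) (M := G)).comp α)) :
    ∀ b : B, ρ b = MonoidAlgebra.single 1 b := by
  classical
  -- Step A: associativity on coefficients
  have hA : ∀ (b : B) (g h : G),
      (ρ ((ρ b).coeff g)).coeff h = if g = h then (ρ b).coeff g else 0 := by
    intro b g h
    have key := congrArg (fun z => z.coeff (g, h)) (RingHom.congr_fun hassoc b)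
    simp only [RingHom.comp_apply] at key
    rw [coeff_diag, coeff_inl] at key
    simp only [RingHom.comp_apply, coeff_inr] at key
    rw [key, Finsupp.sum, Finset.sum_eq_single g]
    · simp
    · intro g' _ hne
      rw [if_neg]
      intro h1
      apply hne
      rw [inv_mul_eq_one] at h1
      exact h1
    · intro hg
      rw [Finsupp.notMem_support_iff.mp hg]
      simp
  -- Step B: linearity
  have hB : ∀ (a : A) (b : B) (g : G), (ρ (α a * b)).coeff g = α a * (ρ b).coeff g := by
    intro a b g
    rw [map_mul, hlin, coeff_single_one_mul]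
  -- Step C: coefficients at `g ≠ 1` lie in `I.map α`
  have hC : ∀ (b : B) (g : G), g ≠ 1 → (ρ b).coeff g ∈ I.map α := by
    intro b g hg
    have hle : I.map ((MonoidAlgebra.singleOneRingHom (R := B) (M := G)).comp α) ≤
        coeffIdeal (G := G) (I.map α) := by
      rw [Ideal.map_le_iff_le_comap]
      intro i hi
      rw [Ideal.mem_comap, mem_coeffIdeal]
      intro g'
      rw [RingHom.comp_apply,
        show (MonoidAlgebra.singleOneRingHom (R := B) (M := G)) (α i) = single 1 (α i) from rfl,
        coeff_single, Finsupp.single_apply]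
      split_ifs
      · exact Ideal.mem_map_of_mem _ hi
      · exact zero_mem _
    have := (mem_coeffIdeal.mp (hle (hmod b))) g
    rw [coeff_sub, Finsupp.sub_apply, coeff_single, Finsupp.single_apply, if_neg (Ne.symm hg),
      sub_zero] at this
    exact this
  -- Step D: improving the exponent
  have hD : ∀ (k : ℕ) (g : G), g ≠ 1 → ∀ x ∈ (I ^ k).map α,
      (ρ x).coeff g ∈ (I ^ (k + 1)).map α := by
    intro k g hg x hx
    have : ∀ c : B, (ρ (c * x)).coeff g ∈ (I ^ (k + 1)).map α := by
      rw [Ideal.map] at hx
      induction hx using Submodule.span_induction with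
      | mem x hx =>
        obtain ⟨i, hi, rfl⟩ := hx
        intro c
        rw [mul_comm, hB, pow_succ, Ideal.map_mul]
        exact Ideal.mul_mem_mul (Ideal.mem_map_of_mem _ hi) (hC c g hg)
      | zero => intro c; simp
      | add x y _ _ hx hy =>
        intro c
        rw [mul_add, map_add, coeff_add, Finsupp.add_apply]
        exact Ideal.add_mem _ (hx c) (hy c)
      | smul r x _ hx =>
        intro c
        rw [smul_eq_mul, ← mul_assoc]
        exact hx (c * r)
    simpa using this 1
  -- Step E: vanishing of the coefficients at `g ≠ 1`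
  have hE : ∀ (b : B) (g : G), g ≠ 1 → (ρ b).coeff g = 0 := by
    intro b g hg
    set n := (ρ b).coeff g with hn
    have hfix : (ρ n).coeff g = n := by rw [hn, hA, if_pos rfl]
    have hall : ∀ k : ℕ, n ∈ (I ^ k).map α := by
      intro k
      induction k with
      | zero => rw [pow_zero, Ideal.one_eq_top, Ideal.map_top]; trivial
      | succ k ih => rw [← hfix]; exact hD k g hg n ih
    obtain ⟨k, hk⟩ := hI
    have := hall k
    rw [hk, Ideal.zero_eq_bot, Ideal.map_bot] at this
    simpa using this
  -- Step F: conclusion
  intro b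
  have h1 : ρ b = single 1 ((ρ b).coeff 1) := by
    apply MonoidAlgebra.ext
    ext g
    rw [coeff_single, Finsupp.single_apply]
    by_cases hg : g = 1
    · subst hg; simp
    · rw [if_neg (Ne.symm hg)]; exact hE b g hg
  have h2 := RingHom.congr_fun hunit b
  rw [RingHom.comp_apply, h1, liftNCRingHom_single] at h2
  simp only [RingHom.id_apply, MonoidHom.one_apply, mul_one] at h2
  rw [h1, h2]

end Groth.Agent.Lead.MR_PA
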