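import Mathlib
import Groth.Agent.S7923
import Groth.Agent.H87.ComplFlat
import Groth.Agent.H87.PowEval
import Groth.Agent.H61.PowerSeriesComplete
import Groth.Agent.Lead.CompleteNoetherian

/-!
# Presentation of the completion of a "node over a base" (lead)

`A → B` local homomorphism of Noetherian local rings, bijective on residue fields, `u v ∈ 𝔪_B` with
`uv ∈ 𝔪_A B`, `𝔪_B = (u, v) + 𝔪_A B`.  Then `B̂` is a quotient of `Â[[x, y]]/(xy - α)`.
-/

set_option autoImplicit false
universe u

namespace Groth.Agent.Lead.NodePS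

open IsLocalRing

/-- Ideals of a Noetherian local ring are closed for the adic topology of the maximal ideal. -/
theorem mem_of_forall_mem_sup_pow {R : Type*} [CommRing R] [IsNoetherianRing R] [IsLocalRing R]
    (J : Ideal R) (x : R) (h : ∀ n : ℕ, x ∈ J ⊔ maximalIdeal R ^ n) : x ∈ J := by
  haveI : IsHausdorff (maximalIdeal R) (R ⧸ J) :=
    IsHausdorff.of_le_jacobson _ _ (IsLocalRing.maximalIdeal_le_jacobson ⊥)
  have h0 : (Ideal.Quotient.mk J x : R ⧸ J) = 0 := by
    apply IsHausdorff.haus ‹IsHausdorff (maximalIdeal R) (R ⧸ J)›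
    intro n
    rw [SModEq.zero]
    obtain ⟨j, hj, y, hy, rfl⟩ := Submodule.mem_sup.mp (h n)
    rw [map_add, Ideal.Quotient.eq_zero_iff_mem.mpr hj, zero_add]
    have e : (Ideal.Quotient.mk J y : R ⧸ J) = y • (1 : R ⧸ J) := by
      rw [Algebra.smul_def, mul_one]; rfl
    rw [e]
    exact Submodule.smul_mem_smul hy Submodule.mem_top
  exact Ideal.Quotient.eq_zero_iff_mem.mp h0

/-- An element of the completion killed by the `k`-th evaluation lies in `I^k · R̂`. -/
theorem mem_map_pow_of_evalₐ_eq_zero {R : Type u} [CommRing R] (I : Ideal R) (hfg : I.FG) (k : ℕ)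
    (r : AdicCompletion I R) (h : AdicCompletion.evalₐ I k r = 0) :
    r ∈ (I ^ k).map (algebraMap R (AdicCompletion I R)) := by
  obtain ⟨a, ha⟩ := Groth.Agent.H87.ComplFlat.exists_sub_mem_map_pow I hfg k r
  -- elements of `I^k R̂` are killed by `evalₐ k`
  have hker : ∀ s ∈ (I ^ k).map (algebraMap R (AdicCompletion I R)),
      AdicCompletion.evalₐ I k s = 0 := by
    intro s hs
    induction hs using Submodule.span_induction with
    | mem x hx =>
      obtain ⟨i, hi, rfl⟩ := hx
      rw [AlgHom.commutes, Ideal.Quotient.algebraMap_eq]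
      exact Ideal.Quotient.eq_zero_iff_mem.mpr hi
    | zero => exact map_zero _
    | add x y _ _ hx hy => rw [map_add, hx, hy, add_zero]
    | smul c x _ hx => rw [smul_eq_mul, map_mul, hx, mul_zero]
  have h1 := hker _ ha
  rw [map_sub, h, zero_sub, neg_eq_zero, AlgHom.commutes, Ideal.Quotient.algebraMap_eq,
    Ideal.Quotient.eq_zero_iff_mem] at h1
  have h2 : algebraMap R (AdicCompletion I R) a ∈ (I ^ k).map (algebraMap R (AdicCompletion I R)) :=
    Ideal.mem_map_of_mem _ h1
  have := add_mem ha h2
  simpa using this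

/-- Surjectivity of an evaluation map from a power series ring over a complete Noetherian local ring. -/
theorem surjective_of_generators {Λ R : Type*} [CommRing Λ] [IsNoetherianRing Λ]
    [IsLocalRing Λ] [IsAdicComplete (maximalIdeal Λ) Λ] [CommRing R] [IsLocalRing R]
    [IsHausdorff (maximalIdeal R) R] (φ : Λ →+* R)
    (hφ : Function.Surjective ((residue R).comp φ))
    (n : ℕ) (x : Fin n → R) (hxm : ∀ i, x i ∈ maximalIdeal R)
    (hx : maximalIdeal R ≤ Ideal.span (Set.range x) ⊔ (maximalIdeal Λ).map φ)
    (F : MvPowerSeries (Fin n) Λ →+* R) (hC : ∀ c, F (MvPowerSeries.C c) = φ c)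
    (hX : ∀ i, F (MvPowerSeries.X i) = x i) : Function.Surjective F := by
  have hres : Function.Surjective ((residue R).comp F) := by
    intro y
    obtain ⟨c, hc⟩ := hφ y
    refine ⟨MvPowerSeries.C c, ?_⟩
    rw [RingHom.comp_apply, hC]
    exact hc
  have hcomap : (maximalIdeal R).comap F = maximalIdeal (MvPowerSeries (Fin n) Λ) := by
    have h1 : (RingHom.ker ((residue R).comp F)).IsMaximal :=
      RingHom.ker_isMaximal_of_surjective _ hres
    have h2 := IsLocalRing.eq_maximalIdeal h1
    rw [← h2, ← RingHom.comap_ker, IsLocalRing.ker_residue]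
  have hmap : (maximalIdeal (MvPowerSeries (Fin n) Λ)).map F = maximalIdeal R := by
    apply le_antisymm
    · rw [Ideal.map_le_iff_le_comap, hcomap]
    · refine hx.trans (sup_le ?_ ?_)
      · rw [Ideal.span_le]
        rintro _ ⟨i, rfl⟩
        rw [← hX i]
        exact Ideal.mem_map_of_mem _ (Groth.Agent.H61.PS.X_mem_maximalIdeal i)
      · rw [Ideal.map_le_iff_le_comap]
        intro c hc
        rw [Ideal.mem_comap, ← hC c]
        refine Ideal.mem_map_of_mem _ ?_
        rw [Groth.Agent.H61.PS.mem_maximalIdeal_iff]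
        simpa using hc
  have hH : IsHausdorff ((maximalIdeal (MvPowerSeries (Fin n) Λ)).map F) R := by
    rw [hmap]; infer_instance
  apply surjective_of_mk_map_comp_surjective (I := maximalIdeal (MvPowerSeries (Fin n) Λ)) F
  intro y
  obtain ⟨r, rfl⟩ := Ideal.Quotient.mk_surjective y
  obtain ⟨c, hc⟩ := hφ (residue R r)
  refine ⟨MvPowerSeries.C c, ?_⟩
  rw [RingHom.comp_apply, hC, Ideal.Quotient.eq, hmap]
  rw [RingHom.comp_apply] at hc
  have h3 : residue R (φ c - r) = 0 := by rw [map_sub, hc, sub_self]
  exact (IsLocalRing.residue_eq_zero_iff _).mp h3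

section Main

variable (A B : Type u) [CommRing A] [IsLocalRing A] [IsNoetherianRing A]
    [CommRing B] [IsLocalRing B] [IsNoetherianRing B] [Algebra A B] [IsLocalHom (algebraMap A B)]

theorem map_le : (maximalIdeal A).map (algebraMap A B) ≤ maximalIdeal B :=
  ((IsLocalRing.local_hom_TFAE (algebraMap A B)).out 0 2 rfl rfl).mp inferInstance

/-- The main construction: `B̂` is a quotient of `Â[[x,y]]/(xy - α)`; the map is `Â`-linear (through
`FSch.complMap`). -/
theorem node_surjection
    (hres : Function.Bijective (IsLocalRing.ResidueField.map (algebraMap A B)))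
    (u v : B) (hu : u ∈ maximalIdeal B) (hv : v ∈ maximalIdeal B)
    (huv : u * v ∈ (maximalIdeal A).map (algebraMap A B))
    (hgen : maximalIdeal B = Ideal.span {u, v} ⊔ (maximalIdeal A).map (algebraMap A B)) :
    ∃ (α : AdicCompletion (maximalIdeal A) A)
      (_ : α ∈ (maximalIdeal A).map (algebraMap A (AdicCompletion (maximalIdeal A) A)))
      (ψ : (MvPowerSeries (Fin 2) (AdicCompletion (maximalIdeal A) A) ⧸ Ideal.span
          {(MvPowerSeries.X 0 * MvPowerSeries.X 1 -
            MvPowerSeries.C α :
              MvPowerSeries (Fin 2) (AdicCompletion (maximalIdeal A) A))}) →ₐ[A]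
        AdicCompletion (maximalIdeal B) B),
      Function.Surjective ψ ∧
        ψ (Ideal.Quotient.mk _ (MvPowerSeries.X 0)) -
            algebraMap B (AdicCompletion (maximalIdeal B) B) u ∈
          (maximalIdeal A).map (algebraMap A (AdicCompletion (maximalIdeal B) B)) ∧
        ψ (Ideal.Quotient.mk _ (MvPowerSeries.X 1)) -
            algebraMap B (AdicCompletion (maximalIdeal B) B) v ∈
          (maximalIdeal A).map (algebraMap A (AdicCompletion (maximalIdeal B) B)) ∧
        ∀ a : AdicCompletion (maximalIdeal A) A, ψ (Ideal.Quotient.mk _ (MvPowerSeries.C a)) =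
          FSch.complMap (maximalIdeal A) (maximalIdeal B) (algebraMap A B) (map_le A B) a := by
  classical
  set mA := maximalIdeal A with hmA
  set mB := maximalIdeal B with hmB
  set g := algebraMap A B with hg
  have hle : mA.map g ≤ mB := map_le A B
  have hAfg : mA.FG := IsNoetherian.noetherian mA
  have hBfg : mB.FG := IsNoetherian.noetherian mB
  obtain ⟨us, vs, ε, hus0, hvs0, hseq⟩ := Groth.Agent.S7923.result A B hres u v hu hv huv hgen
  -- powers
  have hpow : ∀ n : ℕ, (mA ^ (n + 1)).map g ≤ mB ^ n := by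
    intro n
    rw [Ideal.map_pow]
    exact (Ideal.pow_right_mono hle (n + 1)).trans (Ideal.pow_le_pow_right (Nat.le_succ n))
  -- Cauchy sequences
  let U : AdicCompletion.AdicCauchySequence mB B := AdicCompletion.AdicCauchySequence.mk mB B us
    (fun n => by
      rw [SModEq.sub_mem]
      have h1 := hpow n (hseq n).2.2.2.1
      have h2 : us n - us (n + 1) ∈ mB ^ n := by
        have := neg_mem h1; simpa using this
      simpa using h2)
  let V : AdicCompletion.AdicCauchySequence mB B := AdicCompletion.AdicCauchySequence.mk mB B vs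
    (fun n => by
      rw [SModEq.sub_mem]
      have h1 := hpow n (hseq n).2.2.2.2.1
      have h2 : vs n - vs (n + 1) ∈ mB ^ n := by
        have := neg_mem h1; simpa using this
      simpa using h2)
  let E : AdicCompletion.AdicCauchySequence mA A := AdicCompletion.AdicCauchySequence.mk mA A ε
    (fun n => by
      rw [SModEq.sub_mem]
      have h1 : ε (n + 1) - ε n ∈ mA ^ n :=
        Ideal.pow_le_pow_right (Nat.le_succ n) (hseq n).2.2.2.2.2.1
      have h2 : ε n - ε (n + 1) ∈ mA ^ n := by
        have := neg_mem h1; simpa using this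
      simpa using h2)
  set u' : AdicCompletion mB B := AdicCompletion.mk mB B U with hu'
  set v' : AdicCompletion mB B := AdicCompletion.mk mB B V with hv'
  set α : AdicCompletion mA A := AdicCompletion.mk mA A E with hα
  set φ : AdicCompletion mA A →+* AdicCompletion mB B := FSch.complMap mA mB g hle with hφ
  set ιA := algebraMap A (AdicCompletion mA A) with hιA
  set ιB := algebraMap B (AdicCompletion mB B) with hιB
  have hUn : ∀ n, AdicCompletion.evalₐ mB n u' = Ideal.Quotient.mk (mB ^ n) (us n) := fun n =>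
    AdicCompletion.evalₐ_mk mB n U
  have hVn : ∀ n, AdicCompletion.evalₐ mB n v' = Ideal.Quotient.mk (mB ^ n) (vs n) := fun n =>
    AdicCompletion.evalₐ_mk mB n V
  have hEn : ∀ n, AdicCompletion.evalₐ mA n α = Ideal.Quotient.mk (mA ^ n) (ε n) := fun n =>
    AdicCompletion.evalₐ_mk mA n E
  -- (1) u' v' = φ α
  have hprod : u' * v' = φ α := by
    apply AdicCompletion.ext_evalₐ
    intro n
    rw [map_mul, hUn, hVn, Groth.Agent.H87.ComplFlat.evalₐ_complMap, hEn, Ideal.quotientMap_mk,
      ← map_mul, Ideal.Quotient.eq]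
    exact hpow n (hseq n).2.2.2.2.2.2
  -- (2) α ∈ mA Â
  have hαmem : α ∈ mA.map ιA := by
    have h1 : α - ιA (ε 1) ∈ (mA ^ 1).map ιA := by
      apply mem_map_pow_of_evalₐ_eq_zero mA hAfg 1
      rw [map_sub, hEn, AlgHom.commutes, Ideal.Quotient.algebraMap_eq, sub_self]
    rw [pow_one] at h1
    have h2 : ιA (ε 1) ∈ mA.map ιA := Ideal.mem_map_of_mem _ (hseq 1).2.2.1
    have := add_mem h1 h2
    simpa using this
  -- telescoping
  have husn : ∀ n, us n - u ∈ mA.map g := by
    intro n
    induction n with
    | zero => rw [hus0, sub_self]; exact Ideal.zero_mem _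
    | succ n ih =>
      have h1 : us (n + 1) - us n ∈ mA.map g := by
        have := (hseq n).2.2.2.1
        rw [Ideal.map_pow] at this
        exact Ideal.pow_le_self (Nat.succ_ne_zero n) this
      have := add_mem h1 ih
      simpa using this
  have hvsn : ∀ n, vs n - v ∈ mA.map g := by
    intro n
    induction n with
    | zero => rw [hvs0, sub_self]; exact Ideal.zero_mem _
    | succ n ih =>
      have h1 : vs (n + 1) - vs n ∈ mA.map g := by
        have := (hseq n).2.2.2.2.1
        rw [Ideal.map_pow] at this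
        exact Ideal.pow_le_self (Nat.succ_ne_zero n) this
      have := add_mem h1 ih
      simpa using this
  -- the ideal J = mA B̂
  set J : Ideal (AdicCompletion mB B) := mA.map (algebraMap A (AdicCompletion mB B)) with hJ
  have hJeq : J = (mA.map g).map ιB := by
    rw [hJ, Ideal.map_map]; rfl
  haveI : IsNoetherianRing (AdicCompletion mB B) :=
    Groth.Agent.Lead.isNoetherianRing_adicCompletion mB hBfg
  haveI : IsNoetherianRing (AdicCompletion mA A) :=
    Groth.Agent.Lead.isNoetherianRing_adicCompletion mA hAfg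
  have hmax : maximalIdeal (AdicCompletion mB B) = mB.map ιB := AdicCompletion.maximalIdeal_eq_map
  have hclose : ∀ (w : AdicCompletion mB B) (ws : ℕ → B) (w0 : B),
      (∀ n, AdicCompletion.evalₐ mB n w = Ideal.Quotient.mk (mB ^ n) (ws n)) →
      (∀ n, ws n - w0 ∈ mA.map g) → w - ιB w0 ∈ J := by
    intro w ws w0 h1 h2
    apply mem_of_forall_mem_sup_pow
    intro n
    have e : w - ιB w0 = ιB (ws n - w0) + (w - ιB (ws n)) := by rw [map_sub]; ring
    rw [e]
    refine Ideal.add_mem _ (Ideal.mem_sup_left ?_) (Ideal.mem_sup_right ?_)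
    · rw [hJeq]; exact Ideal.mem_map_of_mem _ (h2 n)
    · rw [hmax, ← Ideal.map_pow]
      apply mem_map_pow_of_evalₐ_eq_zero mB hBfg n
      rw [map_sub, h1, AlgHom.commutes, Ideal.Quotient.algebraMap_eq, sub_self]
  have hu'J : u' - ιB u ∈ J := hclose u' us u hUn husn
  have hv'J : v' - ιB v ∈ J := hclose v' vs v hVn hvsn
  have hJle : J ≤ maximalIdeal (AdicCompletion mB B) := by
    rw [hJeq, hmax]; exact Ideal.map_mono hle
  have hu'm : u' ∈ maximalIdeal (AdicCompletion mB B) := by
    have h1 : ιB u ∈ maximalIdeal (AdicCompletion mB B) := by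
      rw [hmax]; exact Ideal.mem_map_of_mem _ hu
    have := add_mem (hJle hu'J) h1
    simpa using this
  have hv'm : v' ∈ maximalIdeal (AdicCompletion mB B) := by
    have h1 : ιB v ∈ maximalIdeal (AdicCompletion mB B) := by
      rw [hmax]; exact Ideal.mem_map_of_mem _ hv
    have := add_mem (hJle hv'J) h1
    simpa using this
  -- J = (maximal ideal of Â) mapped by φ
  have hφι : ∀ a : A, φ (ιA a) = ιB (g a) := fun a =>
    Groth.Agent.H87.ComplFlat.complMap_algebraMap mA mB g hle a
  have hJφ : J = (maximalIdeal (AdicCompletion mA A)).map φ := by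
    have e : algebraMap A (AdicCompletion mB B) = φ.comp ιA :=
      RingHom.ext fun a => (hφι a).symm
    rw [AdicCompletion.maximalIdeal_eq_map, Ideal.map_map, hJ, e]
  -- evaluation map
  let x : Fin 2 → AdicCompletion mB B := ![u', v']
  have hxm : ∀ i, x i ∈ maximalIdeal (AdicCompletion mB B) := by
    intro i; fin_cases i
    · exact hu'm
    · exact hv'm
  obtain ⟨F, hFC, hFX⟩ := Groth.Agent.H87.PowEval.exists_mvEval
    (maximalIdeal (AdicCompletion mB B)) φ x hxm
  have hFX0 : F (MvPowerSeries.X 0) = u' := hFX 0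
  have hFX1 : F (MvPowerSeries.X 1) = v' := hFX 1
  -- residue field surjectivity
  have hφres : Function.Surjective ((residue (AdicCompletion mB B)).comp φ) := by
    intro y
    obtain ⟨bh, rfl⟩ := IsLocalRing.residue_surjective y
    obtain ⟨b, hb⟩ := Groth.Agent.H87.ComplFlat.exists_sub_mem_map_pow mB hBfg 1 bh
    rw [pow_one, ← hmax] at hb
    obtain ⟨ra, hra⟩ := hres.2 (residue B b)
    obtain ⟨a, rfl⟩ := IsLocalRing.residue_surjective ra
    rw [IsLocalRing.ResidueField.map_residue] at hra
    refine ⟨ιA a, ?_⟩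
    rw [RingHom.comp_apply, hφι]
    have h1 : g a - b ∈ mB := by
      rw [← IsLocalRing.residue_eq_zero_iff, map_sub, hra, sub_self]
    have h2 : ιB (g a) - bh ∈ maximalIdeal (AdicCompletion mB B) := by
      have e : ιB (g a) - bh = ιB (g a - b) - (bh - ιB b) := by rw [map_sub]; ring
      rw [e]
      refine Ideal.sub_mem _ ?_ hb
      rw [hmax]; exact Ideal.mem_map_of_mem _ h1
    rw [← sub_eq_zero, ← map_sub]
    exact (IsLocalRing.residue_eq_zero_iff _).mpr h2
  have hxgen : maximalIdeal (AdicCompletion mB B) ≤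
      Ideal.span (Set.range x) ⊔ (maximalIdeal (AdicCompletion mA A)).map φ := by
    have hgen' : mB.map ιB = (Ideal.span {u, v} ⊔ mA.map g).map ιB := congrArg (Ideal.map ιB) hgen
    rw [← hJφ, hmax, hgen', Ideal.map_sup, ← hJeq]
    refine sup_le ?_ le_sup_right
    rw [Ideal.map_span, Ideal.span_le]
    rintro _ ⟨w, hw, rfl⟩
    rcases hw with rfl | rfl
    · have e : ιB w = u' - (u' - ιB w) := by ring
      rw [e]
      exact Ideal.sub_mem _ (Ideal.mem_sup_left (Ideal.subset_span ⟨0, rfl⟩))
        (Ideal.mem_sup_right hu'J)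
    · have e : ιB w = v' - (v' - ιB w) := by ring
      rw [e]
      exact Ideal.sub_mem _ (Ideal.mem_sup_left (Ideal.subset_span ⟨1, rfl⟩))
        (Ideal.mem_sup_right hv'J)
  have hFsurj : Function.Surjective F :=
    surjective_of_generators φ hφres 2 x hxm hxgen F hFC hFX
  -- algebra hom
  let Fa : MvPowerSeries (Fin 2) (AdicCompletion mA A) →ₐ[A] AdicCompletion mB B :=
    { F with
      commutes' := fun a => by
        show F (algebraMap A (MvPowerSeries (Fin 2) (AdicCompletion mA A)) a) = _
        rw [MvPowerSeries.algebraMap_apply, hFC]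
        exact hφι a }
  have hFa : ∀ p, Fa p = F p := fun _ => rfl
  have hkill : ∀ p ∈ Ideal.span
      {(MvPowerSeries.X 0 * MvPowerSeries.X 1 - MvPowerSeries.C α :
        MvPowerSeries (Fin 2) (AdicCompletion mA A))}, Fa p = 0 := by
    intro p hp
    rw [← RingHom.mem_ker] at *
    revert p
    rw [← SetLike.le_def, Ideal.span_le]
    intro p hp
    rw [Set.mem_singleton_iff] at hp
    subst hp
    rw [SetLike.mem_coe, RingHom.mem_ker]
    show F _ = 0
    rw [map_sub, map_mul, hFX0, hFX1, hFC, hprod, sub_self]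
  refine ⟨α, hαmem, Ideal.Quotient.liftₐ _ Fa hkill, ?_, ?_, ?_, ?_⟩
  · intro y
    obtain ⟨p, rfl⟩ := hFsurj y
    exact ⟨Ideal.Quotient.mk _ p, rfl⟩
  · show F (MvPowerSeries.X 0) - _ ∈ _
    rw [hFX0]; exact hu'J
  · show F (MvPowerSeries.X 1) - _ ∈ _
    rw [hFX1]; exact hv'J
  · intro a
    show F (MvPowerSeries.C a) = _
    exact hFC a

end Main

end Groth.Agent.Lead.NodePS
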