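import Mathlib
import Groth.Agent.Lead.NodePS

/-!
# The completion of a flat "node over a base" is `Â[[x,y]]/(xy - α)` (lead)
-/

set_option autoImplicit false
universe u

namespace Groth.Agent.Lead.NodePS

open IsLocalRing

/-- A surjective ring endomorphism of a Noetherian ring is injective. -/
theorem injective_of_surjective_ringEnd {N : Type*} [CommRing N] [IsNoetherianRing N]
    (f : N →+* N) (hf : Function.Surjective f) : Function.Injective f := by
  let K : ℕ →o Ideal N :=
    ⟨fun n => RingHom.ker (f ^ n), by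
      apply monotone_nat_of_le_succ
      intro n x hx
      rw [RingHom.mem_ker] at hx ⊢
      rw [pow_succ', RingHom.mul_def, RingHom.comp_apply, hx, map_zero]⟩
  obtain ⟨n, hn⟩ := monotone_stabilizes_iff_noetherian.mpr
    (inferInstance : IsNoetherian N N) K
  have hsurj : Function.Surjective (f ^ n) := by
    rw [RingHom.coe_pow]
    exact hf.iterate n
  rw [injective_iff_map_eq_zero]
  intro x hx
  obtain ⟨y, rfl⟩ := hsurj x
  have h1 : y ∈ K (n + 1) := by
    show y ∈ RingHom.ker (f ^ (n + 1))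
    rw [RingHom.mem_ker, pow_succ', RingHom.mul_def, RingHom.comp_apply, hx]
  rw [← hn (n + 1) (Nat.le_succ n)] at h1
  exact h1

theorem ker_le_of_surjective {P N : Type*} [CommRing P] [CommRing N] [IsNoetherianRing N]
    (π Φ : P →+* N) (hπ : Function.Surjective π) (hΦ : Function.Surjective Φ)
    (h : RingHom.ker π ≤ RingHom.ker Φ) : RingHom.ker Φ ≤ RingHom.ker π := by
  let Ψ : N →+* N := π.liftOfSurjective hπ ⟨Φ, h⟩
  have hΨ : ∀ p, Ψ (π p) = Φ p := fun p => π.liftOfSurjective_comp_apply hπ ⟨Φ, h⟩ p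
  have hΨs : Function.Surjective Ψ := fun y => by
    obtain ⟨p, rfl⟩ := hΦ y
    exact ⟨π p, hΨ p⟩
  have hΨi := injective_of_surjective_ringEnd Ψ hΨs
  intro p hp
  rw [RingHom.mem_ker] at hp ⊢
  apply hΨi
  rw [hΨ, hp, map_zero]

/-- A power series all of whose coefficients lie in a finitely generated ideal lies in the
extended ideal. -/
theorem mem_map_C_of_coeff_mem {σ R : Type*} [CommRing R] (I : Ideal R) (hI : I.FG)
    (p : MvPowerSeries σ R) (h : ∀ d, MvPowerSeries.coeff d p ∈ I) :
    p ∈ I.map (MvPowerSeries.C : R →+* MvPowerSeries σ R) := by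
  classical
  obtain ⟨s, hs⟩ := hI
  have h' : ∀ d, ∃ f : R → R, ∑ a ∈ s, f a • a = MvPowerSeries.coeff d p := by
    intro d
    have := h d
    rw [← hs] at this
    obtain ⟨f, -, hf⟩ := Submodule.mem_span_finset.mp this
    exact ⟨f, hf⟩
  choose c hc using h'
  let q : R → MvPowerSeries σ R := fun a d => c d a
  have hp : p = ∑ a ∈ s, q a * MvPowerSeries.C a := by
    ext d
    rw [map_sum, ← hc d]
    refine Finset.sum_congr rfl fun a _ => ?_
    rw [MvPowerSeries.coeff_mul_C]
    rfl
  rw [hp]
  refine Ideal.sum_mem _ fun a ha => Ideal.mul_mem_left _ _ (Ideal.mem_map_of_mem _ ?_)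
  rw [← hs]
  exact Ideal.subset_span ha

theorem map_surjective {σ R S : Type*} [CommRing R] [CommRing S] (ρ : R →+* S)
    (hρ : Function.Surjective ρ) :
    Function.Surjective (MvPowerSeries.map ρ : MvPowerSeries σ R →+* MvPowerSeries σ S) := by
  intro q
  let p : MvPowerSeries σ R := fun d => Function.surjInv hρ (MvPowerSeries.coeff d q)
  refine ⟨p, ?_⟩
  ext d
  rw [MvPowerSeries.coeff_map]
  exact Function.surjInv_eq hρ _

/-- Flatness: the kernel of a surjection onto a flat algebra meets `I C` in `I · ker`. -/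
theorem ker_inf_map_le_of_flat {A C M : Type*} [CommRing A] [CommRing C] [Algebra A C]
    [CommRing M] [Algebra A M] [Module.Flat A M] (ψ : C →ₐ[A] M) (hψ : Function.Surjective ψ)
    (I : Ideal A) (hI : I.FG) :
    RingHom.ker ψ ⊓ I.map (algebraMap A C) ≤ I.map (algebraMap A C) * RingHom.ker ψ := by
  classical
  obtain ⟨n, a, ha⟩ := Submodule.fg_iff_exists_fin_generating_family.mp hI
  have hIC : I.map (algebraMap A C) = Ideal.span (Set.range (fun i => algebraMap A C (a i))) := by
    rw [← ha]
    change Ideal.map _ (Ideal.span _) = _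
    rw [Ideal.map_span, ← Set.range_comp]
    rfl
  rintro k ⟨hkK, hkI⟩
  rw [hIC] at hkI ⊢
  obtain ⟨c, hc⟩ := Ideal.mem_span_range_iff_exists_fun.mp hkI
  have hrel : ∑ i, a i • ψ (c i) = 0 := by
    have h0 : ψ k = 0 := hkK
    rw [← hc, map_sum] at h0
    rw [← h0]
    refine Finset.sum_congr rfl fun i _ => ?_
    rw [map_mul, AlgHom.commutes, Algebra.smul_def, mul_comm]
  obtain ⟨m, r, y, hy, hr⟩ := Module.Flat.isTrivialRelation_of_sum_smul_eq_zero (R := A) (M := M)
    (f := a) (x := fun i => ψ (c i)) hrel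
  replace hy : ∀ i, ψ (c i) = ∑ j, r i j • y j := hy
  choose z hz using fun j => hψ (y j)
  set k' : Fin n → C := fun i => c i - ∑ j, r i j • z j with hk'def
  have hk' : ∀ i, k' i ∈ RingHom.ker ψ := by
    intro i
    rw [RingHom.mem_ker, hk'def]
    simp only
    rw [map_sub, map_sum, hy i, sub_eq_zero]
    refine Finset.sum_congr rfl fun j _ => ?_
    rw [map_smul, hz]
  have hk : k = ∑ i, algebraMap A C (a i) * k' i := by
    have h1 : ∑ i, algebraMap A C (a i) * ∑ j, r i j • z j = 0 := by
      calc ∑ i, algebraMap A C (a i) * ∑ j, r i j • z j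
          = ∑ i, ∑ j, (a i * r i j) • z j := by
              refine Finset.sum_congr rfl fun i _ => ?_
              rw [Finset.mul_sum]
              refine Finset.sum_congr rfl fun j _ => ?_
              rw [← Algebra.smul_def, smul_smul]
        _ = ∑ j, ∑ i, (a i * r i j) • z j := Finset.sum_comm
        _ = ∑ j, (∑ i, a i * r i j) • z j := by simp_rw [Finset.sum_smul]
        _ = 0 := by simp [hr]
    simp only [hk'def, mul_sub, Finset.sum_sub_distrib, h1, sub_zero]
    rw [← hc]
    exact Finset.sum_congr rfl fun i _ => mul_comm _ _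
  rw [hk]
  exact Ideal.sum_mem _ fun i _ => Ideal.mul_mem_mul (Ideal.subset_span ⟨i, rfl⟩) (hk' i)

section Iso

variable (A B : Type u) [CommRing A] [IsLocalRing A] [IsNoetherianRing A]
    [CommRing B] [IsLocalRing B] [IsNoetherianRing B] [Algebra A B] [IsLocalHom (algebraMap A B)]

local notation "mA" => maximalIdeal A
local notation "mB" => maximalIdeal B
local notation "Ahat" => AdicCompletion (maximalIdeal A) A
local notation "Bhat" => AdicCompletion (maximalIdeal B) B
local notation "gg" => algebraMap A B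
local notation "𝔞" => Ideal.map (algebraMap A B) (maximalIdeal A)
local notation "mbar" =>
  Ideal.map (Ideal.Quotient.mk (Ideal.map (algebraMap A B) (maximalIdeal A))) (maximalIdeal B)
local notation "Shat" => AdicCompletion
  (Ideal.map (Ideal.Quotient.mk (Ideal.map (algebraMap A B) (maximalIdeal A))) (maximalIdeal B))
  (B ⧸ Ideal.map (algebraMap A B) (maximalIdeal A))
local notation "ιA" => algebraMap A (AdicCompletion (maximalIdeal A) A)
local notation "ιB" => algebraMap B (AdicCompletion (maximalIdeal B) B)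
local notation "ιS" => algebraMap (B ⧸ Ideal.map (algebraMap A B) (maximalIdeal A)) (AdicCompletion
  (Ideal.map (Ideal.Quotient.mk (Ideal.map (algebraMap A B) (maximalIdeal A))) (maximalIdeal B))
  (B ⧸ Ideal.map (algebraMap A B) (maximalIdeal A)))
local notation "PP" => MvPowerSeries (Fin 2) (AdicCompletion (maximalIdeal A) A)
local notation "NN" => (MvPowerSeries (Fin 2) (ResidueField A) ⧸
          Ideal.span {(MvPowerSeries.X 0 * MvPowerSeries.X 1 :
            MvPowerSeries (Fin 2) (ResidueField A))})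

/-- If moreover `B` is `A`-flat and the completed fibre ring is abstractly isomorphic to
`κ[[x,y]]/(xy)`, the surjection of `node_surjection` is an isomorphism. -/
theorem node_iso [Module.Flat A B]
    (hres : Function.Bijective (IsLocalRing.ResidueField.map (algebraMap A B)))
    (u v : B) (hu : u ∈ maximalIdeal B) (hv : v ∈ maximalIdeal B)
    (huv : u * v ∈ (maximalIdeal A).map (algebraMap A B))
    (hgen : maximalIdeal B = Ideal.span {u, v} ⊔ (maximalIdeal A).map (algebraMap A B))
    (e : AdicCompletion ((maximalIdeal B).map (Ideal.Quotient.mk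
          ((maximalIdeal A).map (algebraMap A B))))
          (B ⧸ (maximalIdeal A).map (algebraMap A B)) ≃+*
        (MvPowerSeries (Fin 2) (ResidueField A) ⧸
          Ideal.span {(MvPowerSeries.X 0 * MvPowerSeries.X 1 :
            MvPowerSeries (Fin 2) (ResidueField A))})) :
    ∃ (α : AdicCompletion (maximalIdeal A) A)
      (_ : α ∈ (maximalIdeal A).map (algebraMap A (AdicCompletion (maximalIdeal A) A)))
      (ψ : (MvPowerSeries (Fin 2) (AdicCompletion (maximalIdeal A) A) ⧸ Ideal.span
          {(MvPowerSeries.X 0 * MvPowerSeries.X 1 -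
            MvPowerSeries.C α :
              MvPowerSeries (Fin 2) (AdicCompletion (maximalIdeal A) A))}) ≃ₐ[A]
        AdicCompletion (maximalIdeal B) B),
      ψ (Ideal.Quotient.mk _ (MvPowerSeries.X 0)) -
            algebraMap B (AdicCompletion (maximalIdeal B) B) u ∈
          (maximalIdeal A).map (algebraMap A (AdicCompletion (maximalIdeal B) B)) ∧
        ψ (Ideal.Quotient.mk _ (MvPowerSeries.X 1)) -
            algebraMap B (AdicCompletion (maximalIdeal B) B) v ∈
          (maximalIdeal A).map (algebraMap A (AdicCompletion (maximalIdeal B) B)) := by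
  classical
  obtain ⟨α, hα, ψ, hψsurj, hc1, hc2, -⟩ := node_surjection A B hres u v hu hv huv hgen
  have hle : 𝔞 ≤ mB := map_le A B
  have hAfg : (mA).FG := IsNoetherian.noetherian mA
  have hBfg : (mB).FG := IsNoetherian.noetherian mB
  haveI : IsNoetherianRing Bhat := Groth.Agent.Lead.isNoetherianRing_adicCompletion mB hBfg
  haveI : IsNoetherianRing Ahat := Groth.Agent.Lead.isNoetherianRing_adicCompletion mA hAfg
  have hmbarfg : (mbar).FG := IsNoetherian.noetherian _
  let θ : Bhat →+* Shat := FSch.complMap mB mbar (Ideal.Quotient.mk 𝔞) le_rfl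
  have hθι : ∀ b : B, θ (ιB b) = ιS (Ideal.Quotient.mk 𝔞 b) := fun b =>
    Groth.Agent.H87.ComplFlat.complMap_algebraMap mB mbar (Ideal.Quotient.mk 𝔞) le_rfl b
  have hmax : maximalIdeal Bhat = (mB).map ιB := AdicCompletion.maximalIdeal_eq_map
  -- `θ` is surjective
  have hmapθ : (maximalIdeal Bhat).map θ = (mbar).map ιS := by
    rw [hmax, Ideal.map_map, Ideal.map_map]
    exact congrArg (fun f => Ideal.map f mB) (RingHom.ext hθι)
  have hθsurj : Function.Surjective θ := by
    haveI : IsAdicComplete mbar Shat := AdicCompletion.isAdicComplete hmbarfg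
    haveI : IsHausdorff ((maximalIdeal Bhat).map θ) Shat := by
      rw [hmapθ]
      exact IsHausdorff.map_algebraMap_iff.mpr inferInstance
    apply surjective_of_mk_map_comp_surjective (I := maximalIdeal Bhat) θ
    intro y
    obtain ⟨s, rfl⟩ := Ideal.Quotient.mk_surjective y
    obtain ⟨b', hb'⟩ := Groth.Agent.H87.ComplFlat.exists_sub_mem_map_pow mbar hmbarfg 1 s
    obtain ⟨b, rfl⟩ := Ideal.Quotient.mk_surjective b'
    refine ⟨ιB b, ?_⟩
    rw [RingHom.comp_apply, hθι, Ideal.Quotient.eq, hmapθ]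
    rw [pow_one] at hb'
    have := neg_mem hb'
    simpa using this
  -- the residue map `ρ : Â → κ`
  let ρ : Ahat →+* ResidueField A :=
    (Ideal.Quotient.factor (le_of_eq (pow_one mA))).comp (AdicCompletion.evalₐ mA 1).toRingHom
  have hρι : ∀ a : A, ρ (ιA a) = residue A a := by
    intro a
    show Ideal.Quotient.factor (le_of_eq (pow_one mA)) (AdicCompletion.evalₐ mA 1 (ιA a)) = _
    rw [AlgHom.commutes, Ideal.Quotient.algebraMap_eq, Ideal.Quotient.factor_mk]
    rfl
  have hρsurj : Function.Surjective ρ := fun k => by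
    obtain ⟨a, rfl⟩ := residue_surjective k
    exact ⟨ιA a, hρι a⟩
  have hmapker : (mA).map ιA ≤ RingHom.ker ρ := by
    rw [Ideal.map_le_iff_le_comap]
    intro a ha
    rw [Ideal.mem_comap, RingHom.mem_ker, hρι]
    exact (residue_eq_zero_iff a).mpr ha
  have hρker : ∀ r, ρ r = 0 → r ∈ (mA).map ιA := by
    intro r hr
    obtain ⟨a, ha⟩ := Groth.Agent.H87.ComplFlat.exists_sub_mem_map_pow mA hAfg 1 r
    rw [pow_one] at ha
    have h1 := hmapker ha
    rw [RingHom.mem_ker, map_sub, hr, zero_sub, neg_eq_zero, hρι, residue_eq_zero_iff] at h1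
    have := add_mem ha (Ideal.mem_map_of_mem ιA h1)
    simpa using this
  -- the quotient maps
  let qC := Ideal.Quotient.mk (Ideal.span
          {(MvPowerSeries.X 0 * MvPowerSeries.X 1 - MvPowerSeries.C α : PP)})
  let π : PP →+* NN := (Ideal.Quotient.mk _).comp (MvPowerSeries.map ρ)
  let Φ : PP →+* NN := (e : _ →+* _).comp (θ.comp ((ψ : _ →+* _).comp qC))
  have hΦ : ∀ p, Φ p = e (θ (ψ (qC p))) := fun _ => rfl
  have hπ : ∀ p, π p = Ideal.Quotient.mk _ (MvPowerSeries.map ρ p) := fun _ => rfl
  have hπsurj : Function.Surjective π := by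
    intro y
    obtain ⟨s, rfl⟩ := Ideal.Quotient.mk_surjective y
    obtain ⟨p, rfl⟩ := map_surjective ρ hρsurj s
    exact ⟨p, rfl⟩
  have hΦsurj : Function.Surjective Φ := by
    intro y
    obtain ⟨s, rfl⟩ := e.surjective y
    obtain ⟨b, rfl⟩ := hθsurj s
    obtain ⟨c, rfl⟩ := hψsurj b
    obtain ⟨p, rfl⟩ := Ideal.Quotient.mk_surjective c
    exact ⟨p, rfl⟩
  have hIC : ∀ r ∈ ((mA).map ιA).map (MvPowerSeries.C : _ →+* PP),
      qC r ∈ (mA).map (algebraMap A (PP ⧸ Ideal.span
          {(MvPowerSeries.X 0 * MvPowerSeries.X 1 - MvPowerSeries.C α : PP)})) := by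
    intro r hr
    have h1 : (mA).map (algebraMap A (PP ⧸ Ideal.span
          {(MvPowerSeries.X 0 * MvPowerSeries.X 1 - MvPowerSeries.C α : PP)})) =
        (((mA).map ιA).map (MvPowerSeries.C : _ →+* PP)).map qC := by
      rw [Ideal.map_map, Ideal.map_map]
      congr 1
      apply RingHom.ext
      intro a
      show qC (algebraMap A _ a) = _
      rw [MvPowerSeries.algebraMap_apply]
      rfl
    rw [h1]
    exact Ideal.mem_map_of_mem _ hr
  have hθψ : ∀ c ∈ (mA).map (algebraMap A (PP ⧸ Ideal.span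
          {(MvPowerSeries.X 0 * MvPowerSeries.X 1 - MvPowerSeries.C α : PP)})),
      θ (ψ c) = 0 := by
    have h1 : (mA).map (algebraMap A (PP ⧸ Ideal.span
          {(MvPowerSeries.X 0 * MvPowerSeries.X 1 - MvPowerSeries.C α : PP)})) ≤
        RingHom.ker (θ.comp (ψ : _ →+* Bhat)) := by
      rw [Ideal.map_le_iff_le_comap]
      intro a ha
      rw [Ideal.mem_comap, RingHom.mem_ker, RingHom.comp_apply]
      show θ (ψ (algebraMap A _ a)) = 0
      rw [AlgHom.commutes]
      show θ (ιB (gg a)) = 0
      rw [hθι, Ideal.Quotient.eq_zero_iff_mem.mpr (Ideal.mem_map_of_mem gg ha), map_zero]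
    intro c hc
    exact h1 hc
  have hF2 : RingHom.ker π ≤ ((mA).map (algebraMap A (PP ⧸ Ideal.span
          {(MvPowerSeries.X 0 * MvPowerSeries.X 1 - MvPowerSeries.C α : PP)}))).comap qC := by
    intro p hp
    rw [RingHom.mem_ker, hπ, Ideal.Quotient.eq_zero_iff_mem,
      Ideal.mem_span_singleton'] at hp
    obtain ⟨q, hq⟩ := hp
    obtain ⟨q', rfl⟩ := map_surjective ρ hρsurj q
    have hr0 : MvPowerSeries.map ρ (p - q' * (MvPowerSeries.X 0 * MvPowerSeries.X 1)) = 0 := by
      rw [map_sub, map_mul, map_mul, MvPowerSeries.map_X, MvPowerSeries.map_X, hq, sub_self]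
    have hrmem : p - q' * (MvPowerSeries.X 0 * MvPowerSeries.X 1) ∈ ((mA).map ιA).map
        (MvPowerSeries.C : _ →+* PP) := by
      apply mem_map_C_of_coeff_mem _ (hAfg.map ιA)
      intro d
      apply hρker
      have := congrArg (MvPowerSeries.coeff d) hr0
      rwa [MvPowerSeries.coeff_map, map_zero] at this
    rw [Ideal.mem_comap]
    have e1 : p = (p - q' * (MvPowerSeries.X 0 * MvPowerSeries.X 1)) +
        q' * (MvPowerSeries.X 0 * MvPowerSeries.X 1 - MvPowerSeries.C α) +
        q' * MvPowerSeries.C α := by ring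
    rw [e1, map_add, map_add]
    refine add_mem (add_mem (hIC _ hrmem) ?_) ?_
    · have hz : qC (MvPowerSeries.X 0 * MvPowerSeries.X 1 - MvPowerSeries.C α) = 0 :=
        Ideal.Quotient.eq_zero_iff_mem.mpr (Ideal.subset_span (Set.mem_singleton _))
      rw [map_mul, hz, mul_zero]
      exact zero_mem _
    · rw [map_mul]
      exact Ideal.mul_mem_left _ _ (hIC _ (Ideal.mem_map_of_mem _ hα))
  have hF3 : ((mA).map (algebraMap A (PP ⧸ Ideal.span
          {(MvPowerSeries.X 0 * MvPowerSeries.X 1 - MvPowerSeries.C α : PP)}))).comap qC ≤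
      RingHom.ker Φ := by
    intro p hp
    rw [RingHom.mem_ker, hΦ, hθψ _ hp, map_zero]
  have hF4 := ker_le_of_surjective π Φ hπsurj hΦsurj (hF2.trans hF3)
  have hF5 : RingHom.ker ψ ≤ (mA).map (algebraMap A (PP ⧸ Ideal.span
          {(MvPowerSeries.X 0 * MvPowerSeries.X 1 - MvPowerSeries.C α : PP)})) := by
    intro c hc
    obtain ⟨p, rfl⟩ := Ideal.Quotient.mk_surjective c
    have h1 : p ∈ RingHom.ker Φ := by
      rw [RingHom.mem_ker, hΦ]
      have : ψ (qC p) = 0 := hc
      rw [this, map_zero, map_zero]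
    exact hF2 (hF4 h1)
  -- flatness
  haveI : IsScalarTower A B Bhat := IsScalarTower.of_algebraMap_eq (fun _ => rfl)
  haveI : Module.Flat B Bhat := inferInstance
  haveI : Module.Flat A Bhat := Module.Flat.trans A B _
  have hF6 : RingHom.ker ψ ≤ (mA).map (algebraMap A (PP ⧸ Ideal.span
          {(MvPowerSeries.X 0 * MvPowerSeries.X 1 - MvPowerSeries.C α : PP)})) *
        RingHom.ker ψ := fun k hk =>
    ker_inf_map_le_of_flat ψ hψsurj mA hAfg ⟨hk, hF5 hk⟩
  -- locality
  haveI : Nontrivial (PP ⧸ Ideal.span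
          {(MvPowerSeries.X 0 * MvPowerSeries.X 1 - MvPowerSeries.C α : PP)}) :=
    (ψ : _ →+* Bhat).domain_nontrivial
  haveI : IsLocalRing (PP ⧸ Ideal.span
          {(MvPowerSeries.X 0 * MvPowerSeries.X 1 - MvPowerSeries.C α : PP)}) :=
    IsLocalRing.of_surjective' qC Ideal.Quotient.mk_surjective
  have hJle : (mA).map (algebraMap A Bhat) ≤ maximalIdeal Bhat := by
    have h1 : (mA).map (algebraMap A Bhat) = (𝔞).map ιB := by
      rw [Ideal.map_map]; rfl
    rw [h1, hmax]
    exact Ideal.map_mono hle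
  have hψJ : ∀ x ∈ (mA).map (algebraMap A (PP ⧸ Ideal.span
          {(MvPowerSeries.X 0 * MvPowerSeries.X 1 - MvPowerSeries.C α : PP)})),
      ψ x ∈ (mA).map (algebraMap A Bhat) := by
    have h1 : (mA).map (algebraMap A (PP ⧸ Ideal.span
          {(MvPowerSeries.X 0 * MvPowerSeries.X 1 - MvPowerSeries.C α : PP)})) ≤
        ((mA).map (algebraMap A Bhat)).comap (ψ : _ →+* Bhat) := by
      rw [Ideal.map_le_iff_le_comap]
      intro a ha
      rw [Ideal.mem_comap, Ideal.mem_comap]
      show ψ (algebraMap A _ a) ∈ _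
      rw [AlgHom.commutes]
      exact Ideal.mem_map_of_mem _ ha
    intro x hx
    exact h1 hx
  have hICmax : (mA).map (algebraMap A (PP ⧸ Ideal.span
          {(MvPowerSeries.X 0 * MvPowerSeries.X 1 - MvPowerSeries.C α : PP)})) ≤
      maximalIdeal _ := by
    intro x hx
    rw [mem_maximalIdeal, mem_nonunits_iff]
    intro hux
    have h1 : IsUnit (ψ x) := hux.map ψ
    have h2 : ψ x ∈ maximalIdeal Bhat := hJle (hψJ x hx)
    exact (mem_nonunits_iff.mp ((mem_maximalIdeal _).mp h2)) h1
  have hker : RingHom.ker ψ = ⊥ :=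
    Submodule.eq_bot_of_le_smul_of_le_jacobson_bot _ (RingHom.ker ψ)
      (IsNoetherian.noetherian _) (by rw [smul_eq_mul]; exact hF6)
      (hICmax.trans (maximalIdeal_le_jacobson ⊥))
  have hinj : Function.Injective ψ := by
    rw [injective_iff_map_eq_zero]
    intro c hc
    have h1 : c ∈ RingHom.ker ψ := hc
    rw [hker] at h1
    exact h1
  exact ⟨α, hα, AlgEquiv.ofBijective ψ ⟨hinj, hψsurj⟩, hc1, hc2⟩

end Iso

end Groth.Agent.Lead.NodePS
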