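import Mathlib

/-!
# (PL) for helper61's S12276/S12272 squad: lifting additive maps along a pushout of commutative rings
-/

set_option autoImplicit false
universe u
open CategoryTheory CategoryTheory.Limits TensorProduct

namespace Groth.Agent.Lead.LocHilb_PL

section Tensor
variable {K R B : Type u} [CommRing K] [CommRing R] [CommRing B] [Algebra K R] [Algebra K B]

/-- every element of `R ⊗[K] B` is a `Fin n`-indexed sum of pure tensors -/
theorem exists_fin_sum (t : R ⊗[K] B) :
    ∃ (n : ℕ) (bs : Fin n → B) (rs : Fin n → R), t = ∑ i, rs i ⊗ₜ[K] bs i := by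
  induction t using TensorProduct.induction_on with
  | zero => exact ⟨0, Fin.elim0, Fin.elim0, by simp⟩
  | tmul r b => exact ⟨1, fun _ => b, fun _ => r, by simp⟩
  | add x y hx hy =>
    obtain ⟨n, bs, rs, rfl⟩ := hx
    obtain ⟨m, bs', rs', rfl⟩ := hy
    refine ⟨n + m, Fin.append bs bs', Fin.append rs rs', ?_⟩
    rw [Fin.sum_univ_add]
    simp

/-- the `K`-linear map underlying a `K`-linear additive map -/
def toLin (d : R →+ R) (hd : ∀ (c : K) (t : R), d (algebraMap K R c * t) = algebraMap K R c * d t) :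
    R →ₗ[K] R where
  toFun := d
  map_add' := d.map_add
  map_smul' c t := by
    rw [Algebra.smul_def, hd, RingHom.id_apply, Algebra.smul_def]

theorem rTensor_mul_inr (f : R →ₗ[K] R) (b' : B) (t : R ⊗[K] B) :
    LinearMap.rTensor B f ((1 : R) ⊗ₜ[K] b' * t) = (1 : R) ⊗ₜ[K] b' * LinearMap.rTensor B f t := by
  induction t using TensorProduct.induction_on with
  | zero => simp
  | tmul r b =>
    rw [Algebra.TensorProduct.tmul_mul_tmul, LinearMap.rTensor_tmul, LinearMap.rTensor_tmul,
      Algebra.TensorProduct.tmul_mul_tmul, one_mul, one_mul]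
  | add x y hx hy => rw [mul_add, map_add, hx, hy, map_add, mul_add]

end Tensor

/-- (PL) lifting additive maps along a pushout of commutative rings -/
theorem exists_lift_of_isPushout {K B R S : CommRingCat.{u}} (a : K ⟶ R) (b : K ⟶ B) (ι : R ⟶ S)
    (β : B ⟶ S) (H : IsPushout a b ι β) :
    (∀ s : S, ∃ (n : ℕ) (bs : Fin n → B) (rs : Fin n → R),
      s = ∑ i, β.hom (bs i) * ι.hom (rs i)) ∧
    ∀ d : R →+ R, (∀ (c : K) (t : R), d (a.hom c * t) = a.hom c * d t) →
      ∃ D : S →+ S, (∀ (b' : B) (s : S), D (β.hom b' * s) = β.hom b' * D s) ∧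
        ∀ t : R, D (ι.hom t) = ι.hom (d t) := by
  let _ : Algebra K R := a.hom.toAlgebra
  let _ : Algebra K B := b.hom.toAlgebra
  have H' := CommRingCat.isPushout_tensorProduct K R B
  have ha : CommRingCat.ofHom (algebraMap K R) = a := rfl
  have hb : CommRingCat.ofHom (algebraMap K B) = b := rfl
  rw [ha, hb] at H'
  set e := H.isoIsPushout _ _ H' with he
  have hι : ∀ t : R, e.hom.hom (ι.hom t) = t ⊗ₜ[K] (1 : B) := by
    intro t
    have := congrArg (fun f => f.hom t) (H.inl_isoIsPushout_hom _ _ H')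
    exact this
  have hβ : ∀ b' : B, e.hom.hom (β.hom b') = (1 : R) ⊗ₜ[K] b' := by
    intro b'
    have := congrArg (fun f => f.hom b') (H.inr_isoIsPushout_hom _ _ H')
    exact this
  have hinv : ∀ s : S, e.inv.hom (e.hom.hom s) = s := by
    intro s
    have := congrArg (fun f => f.hom s) e.hom_inv_id
    exact this
  have hinv' : ∀ t : (R ⊗[K] B : Type u), e.hom.hom (e.inv.hom t) = t := by
    intro t
    have := congrArg (fun f => f.hom t) e.inv_hom_id
    exact this
  constructor
  · intro s
    obtain ⟨n, bs, rs, h⟩ := exists_fin_sum (K := K) (e.hom.hom s)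
    refine ⟨n, bs, rs, ?_⟩
    rw [← hinv s, h, map_sum]
    refine Finset.sum_congr rfl (fun i _ => ?_)
    rw [← hinv (β.hom (bs i) * ι.hom (rs i)), map_mul, hβ, hι,
      Algebra.TensorProduct.tmul_mul_tmul, one_mul, mul_one]
  · intro d hd
    let f : R →ₗ[K] R := toLin d hd
    refine ⟨(e.inv.hom : _ →+* _).toAddMonoidHom.comp
      ((LinearMap.rTensor B f).toAddMonoidHom.comp (e.hom.hom : _ →+* _).toAddMonoidHom), ?_, ?_⟩
    · intro b' s
      show e.inv.hom (LinearMap.rTensor B f (e.hom.hom (β.hom b' * s))) =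
        β.hom b' * e.inv.hom (LinearMap.rTensor B f (e.hom.hom s))
      rw [map_mul, hβ, rTensor_mul_inr, map_mul, ← hβ, hinv]
    · intro t
      show e.inv.hom (LinearMap.rTensor B f (e.hom.hom (ι.hom t))) = ι.hom (d t)
      rw [hι, LinearMap.rTensor_tmul, ← hι, hinv]
      rfl

end Groth.Agent.Lead.LocHilb_PL
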