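import Mathlib

/-!
# (RL2) for helper61's S12276/S12272 squad: translate of a flat lift by homomorphisms
-/

set_option autoImplicit false
universe u
open TensorProduct

namespace Groth.Agent.Lead.LocHilb_RL2

/-- the flatness transfer: a `β`-linear additive automorphism `θ` of `S` carrying `I'` onto `I''`
transfers flatness of `S ⧸ I'` over `B` to `S ⧸ I''`. -/
theorem flat_of_equiv {B S : Type u} [CommRing B] [CommRing S] (β : B →+* S)
    (I' I'' : Ideal S) (hf' : ((Ideal.Quotient.mk I').comp β).Flat)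
    (θ θi : S →+ S) (hθ : ∀ b s, θ (β b * s) = β b * θ s)
    (h1 : ∀ s, θi (θ s) = s) (h2 : ∀ s, θ (θi s) = s)
    (himg : ∀ x, x ∈ I'' ↔ ∃ a ∈ I', θ a = x) :
    ((Ideal.Quotient.mk I'').comp β).Flat := by
  let _ : Algebra B S := β.toAlgebra
  have hf1 : (algebraMap B (S ⧸ I')).Flat := hf'
  rw [RingHom.flat_algebraMap_iff] at hf1
  have goal1 : (algebraMap B (S ⧸ I'')).Flat := by
    rw [RingHom.flat_algebraMap_iff]
    let θl : S →ₗ[B] S :=
      { toFun := θ
        map_add' := θ.map_add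
        map_smul' := fun b s => by
          rw [Algebra.smul_def, RingHom.id_apply, Algebra.smul_def]
          exact hθ b s }
    have hθi : ∀ b s, θi (β b * s) = β b * θi s := by
      intro b s
      have := h1 (β b * θi s)
      rw [hθ, h2] at this
      exact this
    let θil : S →ₗ[B] S :=
      { toFun := θi
        map_add' := θi.map_add
        map_smul' := fun b s => by
          rw [Algebra.smul_def, RingHom.id_apply, Algebra.smul_def]
          exact hθi b s }
    let θe : S ≃ₗ[B] S := LinearEquiv.ofLinearMap θl θil (LinearMap.ext h2) (LinearMap.ext h1)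
    have hmap : (I'.restrictScalars B).map (θe : S →ₗ[B] S) = I''.restrictScalars B := by
      ext x
      rw [Submodule.mem_map, Submodule.restrictScalars_mem, himg]
      constructor
      · rintro ⟨a, ha, rfl⟩; exact ⟨a, ha, rfl⟩
      · rintro ⟨a, ha, rfl⟩; exact ⟨a, ha, rfl⟩
    let E : (S ⧸ I') ≃ₗ[B] (S ⧸ I'') :=
      (Submodule.Quotient.restrictScalarsEquiv B I').symm ≪≫ₗ
        (Submodule.Quotient.equiv _ _ θe hmap) ≪≫ₗ
        (Submodule.Quotient.restrictScalarsEquiv B I'')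
    exact Module.Flat.of_linearEquiv E.symm
  exact goal1

/-- (RL2) translate of a flat lift by homomorphisms -/
theorem exists_translate {k B S R Q : Type u} [Field k] [CommRing B] [CommRing S] [CommRing R]
    [AddCommGroup Q] [Module R Q]
    (κ : k →+* R) (β : B →+* S) (𝔪 J : Ideal B) (h𝔪J : 𝔪 * J = ⊥) (hJ𝔪 : J ≤ 𝔪)
    {r : ℕ} (j : Fin r → B) (hjJ : Ideal.span (Set.range j) = J)
    (ρ : S →+* R) (hρs : Function.Surjective ρ) (hρk : RingHom.ker ρ = 𝔪.map β)
    (hlift : ∀ d : R →+ R, (∀ (c : k) (t : R), d (κ c * t) = κ c * d t) →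
      ∃ D : S →+ S, (∀ b s, D (β b * s) = β b * D s) ∧ ∀ s, ρ (D s) = d (ρ s))
    (I' : Ideal S) (hf' : ((Ideal.Quotient.mk I').comp β).Flat)
    (I₀ : Ideal R) (h' : I'.map ρ = I₀)
    (q : R →ₗ[R] Q) (hqs : Function.Surjective q) (hqk : LinearMap.ker q = I₀)
    (φ : Fin r → (I₀ →ₗ[R] Q)) :
    ∃ I'' : Ideal S, ((Ideal.Quotient.mk I'').comp β).Flat ∧ I''.map ρ = I₀ ∧
      I'' ⊔ J.map β = I' ⊔ J.map β ∧
      ∀ a'' : S, a'' ∈ I'' ↔ ∃ (a' : S) (s : Fin r → S) (h0 : ρ a' ∈ I₀), a' ∈ I' ∧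
        a'' = a' + ∑ m, β (j m) * s m ∧ ∀ l, q (ρ (s l)) = φ l ⟨ρ a', h0⟩ := by
  classical
  -- basic facts on `j`
  have hjmem : ∀ l, j l ∈ J := fun l => hjJ ▸ Ideal.subset_span ⟨l, rfl⟩
  have hjker : ∀ l, ∀ x ∈ 𝔪.map β, β (j l) * x = 0 := by
    intro l x hx
    have h1 : β (j l) * x ∈ J.map β * 𝔪.map β :=
      Ideal.mul_mem_mul (Ideal.mem_map_of_mem β (hjmem l)) hx
    rw [← Ideal.map_mul, mul_comm J 𝔪, h𝔪J, Ideal.map_bot] at h1
    simpa using h1
  have hjj : ∀ l m, β (j l) * β (j m) = 0 := fun l m =>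
    hjker l _ (Ideal.mem_map_of_mem β (hJ𝔪 (hjmem m)))
  have hρj : ∀ l, ρ (β (j l)) = 0 := by
    intro l
    have : β (j l) ∈ RingHom.ker ρ := by
      rw [hρk]; exact Ideal.mem_map_of_mem β (hJ𝔪 (hjmem l))
    exact this
  have hρI : ∀ a ∈ I', ρ a ∈ I₀ := fun a ha => h' ▸ Ideal.mem_map_of_mem ρ ha
  -- `k`-linear structures
  let _ : Algebra k R := κ.toAlgebra
  let _ : Module k Q := Module.compHom Q κ
  have : IsScalarTower k R Q := IsScalarTower.of_algebraMap_smul (fun _ _ => rfl)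
  have hκsmul : ∀ (c : k) (t : R), c • t = κ c * t := fun c t => Algebra.smul_def c t
  -- extensions of the `φ l`
  have hψ : ∀ l, ∃ ψ : R →ₗ[k] Q, ∀ (x : R) (hx : x ∈ I₀), ψ x = φ l ⟨x, hx⟩ := by
    intro l
    let f : ↥(I₀.restrictScalars k) →ₗ[k] Q :=
      { toFun := fun x => φ l ⟨x.1, x.2⟩
        map_add' := fun x y => by
          have : (⟨(x + y).1, (x + y).2⟩ : I₀) = ⟨x.1, x.2⟩ + ⟨y.1, y.2⟩ := rfl
          rw [this, map_add]
        map_smul' := fun c x => by
          have : (⟨(c • x).1, (c • x).2⟩ : I₀) = (κ c) • (⟨x.1, x.2⟩ : I₀) := by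
            apply Subtype.ext
            show c • x.1 = κ c * x.1
            exact hκsmul c x.1
          rw [this, map_smul]
          rfl }
    obtain ⟨g, hg⟩ := LinearMap.exists_extend f
    refine ⟨g, fun x hx => ?_⟩
    have := LinearMap.congr_fun hg ⟨x, hx⟩
    exact this
  choose ψ hψ using hψ
  -- a `k`-linear section of `q`
  obtain ⟨σ, hσ⟩ := LinearMap.exists_rightInverse_of_surjective (q.restrictScalars k)
    (LinearMap.range_eq_top.2 hqs)
  have hσ' : ∀ y : Q, q (σ y) = y := fun y => LinearMap.congr_fun hσ y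
  -- the additive maps `d l` and their lifts
  have hD : ∀ l, ∃ D : S →+ S, (∀ b s, D (β b * s) = β b * D s) ∧
      ∀ s, q (ρ (D s)) = ψ l (ρ s) := by
    intro l
    obtain ⟨D, hD1, hD2⟩ := hlift ((σ.comp (ψ l)).toAddMonoidHom) (by
      intro c t
      show σ (ψ l (κ c * t)) = κ c * σ (ψ l t)
      rw [← hκsmul, map_smul, map_smul, hκsmul])
    refine ⟨D, hD1, fun s => ?_⟩
    rw [hD2]
    exact hσ' _
  choose D hDβ hDq using hD
  -- the nilpotent operator `T`
  let T : S →+ S := ∑ l, (AddMonoidHom.mulLeft (β (j l))).comp (D l)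
  have hT : ∀ s, T s = ∑ l, β (j l) * D l s := by
    intro s
    simp [T]
  have hTβ : ∀ b s, T (β b * s) = β b * T s := by
    intro b s
    rw [hT, hT, Finset.mul_sum]
    refine Finset.sum_congr rfl (fun l _ => ?_)
    rw [hDβ]; ring
  have hTsum : ∀ x : Fin r → S, T (∑ m, β (j m) * x m) = 0 := by
    intro x
    rw [map_sum]
    refine Finset.sum_eq_zero (fun m _ => ?_)
    rw [hT]
    refine Finset.sum_eq_zero (fun l _ => ?_)
    rw [hDβ, ← mul_assoc, hjj, zero_mul]
  have hTT : ∀ s, T (T s) = 0 := by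
    intro s
    rw [hT s]
    exact hTsum _
  let θ : S →+ S := AddMonoidHom.id S + T
  let θi : S →+ S := AddMonoidHom.id S - T
  have hθ : ∀ s, θ s = s + T s := fun s => rfl
  have hθi : ∀ s, θi s = s - T s := fun s => rfl
  -- the ideal `I''`
  let I'' : Ideal S :=
    { carrier := {a'' | ∃ (a' : S) (s : Fin r → S) (h0 : ρ a' ∈ I₀), a' ∈ I' ∧
        a'' = a' + ∑ m, β (j m) * s m ∧ ∀ l, q (ρ (s l)) = φ l ⟨ρ a', h0⟩}
      zero_mem' := by
        refine ⟨0, fun _ => 0, by rw [map_zero]; exact zero_mem _, zero_mem _, by simp, ?_⟩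
        intro l
        have : (⟨ρ 0, by rw [map_zero]; exact zero_mem _⟩ : I₀) = 0 := Subtype.ext (map_zero ρ)
        rw [this, map_zero, map_zero, map_zero]
      add_mem' := by
        rintro _ _ ⟨a₁, s₁, h₁, ha₁, rfl, hs₁⟩ ⟨a₂, s₂, h₂, ha₂, rfl, hs₂⟩
        refine ⟨a₁ + a₂, s₁ + s₂, by rw [map_add]; exact add_mem h₁ h₂, add_mem ha₁ ha₂, ?_, ?_⟩
        · simp only [Pi.add_apply, mul_add, Finset.sum_add_distrib]; ring
        · intro l
          have : (⟨ρ (a₁ + a₂), by rw [map_add]; exact add_mem h₁ h₂⟩ : I₀) =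
              ⟨ρ a₁, h₁⟩ + ⟨ρ a₂, h₂⟩ := Subtype.ext (map_add ρ a₁ a₂)
          rw [this, map_add, Pi.add_apply, map_add, map_add, hs₁, hs₂]
      smul_mem' := by
        rintro t _ ⟨a, s, h, ha, rfl, hs⟩
        have ht : ρ (t * a) ∈ I₀ := by rw [map_mul]; exact I₀.mul_mem_left _ h
        refine ⟨t * a, fun m => t * s m, ht, I'.mul_mem_left _ ha, ?_, ?_⟩
        · rw [smul_eq_mul, mul_add, Finset.mul_sum]
          congr 1
          refine Finset.sum_congr rfl (fun m _ => ?_)
          ring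
        · intro l
          have : (⟨ρ (t * a), ht⟩ : I₀) = (ρ t) • (⟨ρ a, h⟩ : I₀) :=
            Subtype.ext (map_mul ρ t a)
          rw [this, map_smul, ← hs, map_mul, ← smul_eq_mul, map_smul] }
  have hmemI'' : ∀ a'' : S, a'' ∈ I'' ↔ ∃ (a' : S) (s : Fin r → S) (h0 : ρ a' ∈ I₀), a' ∈ I' ∧
        a'' = a' + ∑ m, β (j m) * s m ∧ ∀ l, q (ρ (s l)) = φ l ⟨ρ a', h0⟩ := fun _ => Iff.rfl
  -- `θ` maps `I'` into `I''`
  have hθmem : ∀ a ∈ I', θ a ∈ I'' := by
    intro a ha
    rw [hmemI'']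
    refine ⟨a, fun l => D l a, hρI a ha, ha, ?_, ?_⟩
    · rw [hθ, hT]
    · intro l
      rw [hDq, hψ l _ (hρI a ha)]
  -- `I''` is the image of `I'` under `θ`
  have himg : ∀ x, x ∈ I'' ↔ ∃ a ∈ I', θ a = x := by
    intro x
    constructor
    · rw [hmemI'']
      rintro ⟨a, s, h0, ha, rfl, hs⟩
      -- correction terms
      have hc : ∀ l, ∃ c ∈ I', β (j l) * (s l - D l a) = β (j l) * c := by
        intro l
        have h1 : ρ (s l - D l a) ∈ I₀ := by
          rw [← hqk, LinearMap.mem_ker, map_sub, map_sub, hs l, hDq, hψ l _ h0, sub_self]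
        rw [← h', Ideal.mem_map_iff_of_surjective ρ hρs] at h1
        obtain ⟨c, hc, hce⟩ := h1
        refine ⟨c, hc, ?_⟩
        have h2 : (s l - D l a) - c ∈ 𝔪.map β := by
          rw [← hρk, RingHom.mem_ker, map_sub, hce, sub_self]
        have h3 := hjker l _ h2
        rw [mul_sub, sub_eq_zero] at h3
        exact h3
      choose c hcI hce using hc
      refine ⟨a + ∑ l, β (j l) * c l, I'.add_mem ha (I'.sum_mem (fun l _ => I'.mul_mem_left _ (hcI l))), ?_⟩
      rw [hθ, map_add, hTsum, add_zero, hT]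
      have : ∑ m, β (j m) * s m = ∑ m, β (j m) * D m a + ∑ m, β (j m) * c m := by
        rw [← Finset.sum_add_distrib]
        refine Finset.sum_congr rfl (fun m _ => ?_)
        rw [← hce m]; ring
      rw [this]; ring
    · rintro ⟨a, ha, rfl⟩
      exact hθmem a ha
  refine ⟨I'', ?_, ?_, ?_, hmemI''⟩
  · -- flatness
    refine flat_of_equiv β I' I'' hf' θ θi ?_ ?_ ?_ himg
    · intro b s
      rw [hθ, hθ, hTβ]; ring
    · intro s
      rw [hθi, hθ, map_add, hTT]; ring
    · intro s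
      rw [hθ, hθi, map_sub, hTT]; ring
  · -- image under `ρ`
    have hρT : ∀ s, ρ (T s) = 0 := by
      intro s
      rw [hT, map_sum]
      refine Finset.sum_eq_zero (fun l _ => ?_)
      rw [map_mul, hρj, zero_mul]
    apply le_antisymm
    · rw [Ideal.map_le_iff_le_comap]
      intro x hx
      rw [himg] at hx
      obtain ⟨a, ha, rfl⟩ := hx
      rw [Ideal.mem_comap, hθ, map_add, hρT, add_zero]
      exact hρI a ha
    · intro x hx
      rw [← h', Ideal.mem_map_iff_of_surjective ρ hρs] at hx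
      obtain ⟨a, ha, rfl⟩ := hx
      have : ρ a = ρ (θ a) := by rw [hθ, map_add, hρT, add_zero]
      rw [this]
      exact Ideal.mem_map_of_mem ρ (hθmem a ha)
  · -- same sum with `J.map β`
    have hTJ : ∀ s, T s ∈ J.map β := by
      intro s
      rw [hT]
      exact Ideal.sum_mem _ (fun l _ => Ideal.mul_mem_right _ _ (Ideal.mem_map_of_mem β (hjmem l)))
    apply le_antisymm
    · refine sup_le ?_ le_sup_right
      intro x hx
      rw [himg] at hx
      obtain ⟨a, ha, rfl⟩ := hx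
      rw [hθ]
      exact Submodule.add_mem_sup ha (hTJ a)
    · refine sup_le ?_ le_sup_right
      intro a ha
      have : a = θ a + (- T a) := by rw [hθ]; ring
      rw [this]
      exact Submodule.add_mem_sup (hθmem a ha) (neg_mem (hTJ a))

end Groth.Agent.Lead.LocHilb_RL2
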