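import Mathlib

/-!
# Flat modules over a local ring with nilpotent maximal ideal are free (no finiteness)
-/

universe u
open TensorProduct IsLocalRing

namespace Groth.Agent.Lead.FreeNilpLocal

theorem eq_top_of_sup_smul_top_of_nilpotent {R : Type*} [CommRing R] {M : Type*} [AddCommGroup M]
    [Module R M] {I : Ideal R} (hI : IsNilpotent I) {N : Submodule R M}
    (h : N ⊔ I • (⊤ : Submodule R M) = ⊤) : N = ⊤ := by
  obtain ⟨n, hn⟩ := hI
  have key : ∀ k : ℕ, N ⊔ (I ^ k) • (⊤ : Submodule R M) = ⊤ := by
    intro k
    induction k with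
    | zero => simp
    | succ k ih =>
      rw [eq_top_iff]
      calc (⊤ : Submodule R M) = N ⊔ I • (⊤ : Submodule R M) := h.symm
        _ = N ⊔ I • (N ⊔ (I ^ k) • (⊤ : Submodule R M)) := by rw [ih]
        _ = N ⊔ (I • N ⊔ I • (I ^ k) • (⊤ : Submodule R M)) := by rw [Submodule.smul_sup]
        _ ≤ N ⊔ (I ^ (k + 1)) • (⊤ : Submodule R M) := by
          rw [pow_succ', Submodule.mul_smul]
          refine sup_le le_sup_left (sup_le ?_ le_sup_right)
          exact Submodule.smul_le_right.trans le_sup_left
  have := key n
  rw [hn, Ideal.zero_eq_bot, Submodule.bot_smul, sup_bot_eq] at this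
  exact this

theorem free_of_flat_of_nilpotent {R : Type u} [CommRing R] [IsLocalRing R] {M : Type u}
    [AddCommGroup M] [Module R M] [Module.Flat R M] (hnil : IsNilpotent (maximalIdeal R)) :
    Module.Free R M := by
  classical
  let b := Module.Free.chooseBasis (ResidueField R) (ResidueField R ⊗[R] M)
  have hs : Function.Surjective (TensorProduct.mk R (ResidueField R) M 1) :=
    TensorProduct.mk_surjective R M (ResidueField R) Ideal.Quotient.mk_surjective
  choose v hv using fun i => hs (b i)
  have hcomp : (TensorProduct.mk R (ResidueField R) M 1 ∘ v) = b := funext hv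
  have hli : LinearIndependent R v := by
    apply Module.IsLocalRing.linearIndependent_of_flat
    rw [hcomp]
    exact b.linearIndependent
  have h1 : (Submodule.span R (Set.range v)).map (TensorProduct.mk R (ResidueField R) M 1) = ⊤ := by
    rw [Submodule.map_span, ← Submodule.restrictScalars_span R (ResidueField R)
      Ideal.Quotient.mk_surjective, Submodule.restrictScalars_eq_top_iff, ← Set.range_comp, hcomp,
      b.span_eq]
  have h2 : Submodule.span R (Set.range v) ⊔ (maximalIdeal R) • (⊤ : Submodule R M) = ⊤ := by
    rw [eq_top_iff]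
    intro p _
    have hp : TensorProduct.mk R (ResidueField R) M 1 p ∈
        (Submodule.span R (Set.range v)).map (TensorProduct.mk R (ResidueField R) M 1) := by
      rw [h1]; trivial
    obtain ⟨n, hn, hnp⟩ := hp
    have hker : p - n ∈ LinearMap.ker (TensorProduct.mk R (R ⧸ maximalIdeal R) M 1) := by
      rw [LinearMap.mem_ker, map_sub]
      exact sub_eq_zero.mpr hnp.symm
    rw [LinearMap.ker_tensorProductMk] at hker
    have : p = n + (p - n) := by abel
    rw [this]
    exact Submodule.add_mem_sup hn hker
  have hsp := eq_top_of_sup_smul_top_of_nilpotent hnil h2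
  exact Module.Free.of_basis (Module.Basis.mk hli hsp.ge)

end Groth.Agent.Lead.FreeNilpLocal
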