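import Groth.Agent.H87.DecayingTensor
import Groth.Agent.H87.AdicFree
import Groth.Agent.H87.FinsuppCompletion
import Groth.Prelude.Def_Found
import Groth.Prelude.Def_CAlgX
import Mathlib.RingTheory.TensorProduct.DirectLimitFG
import Mathlib.LinearAlgebra.TensorProduct.Pi

/-!
# Purity and the Mittag-Leffler property of modules of decaying functions

`A` Noetherian, `I`-adically complete, `D = decaying I Z A ⊆ (Z → A)`.
* `lTensor_decaying_subtype_injective` : `D ⊆ (Z → A)` is pure.
* `isMittagLeffler_decaying` : `D` is Mittag-Leffler.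
* `completionFreeEquiv` : `AdicCompletion I (Z →₀ A) ≃ D`.
Built on helper87's `H87.DecayingTensor`.
-/

set_option autoImplicit false
universe u

namespace Groth.Agent.Lead

open W4c5adicflatcompl TensorProduct LinearMap

section

variable {A : Type u} [CommRing A] [IsNoetherianRing A] (I : Ideal A) [IsAdicComplete I A]
  (Z : Type u)

/-- finitely generated case of purity -/
theorem lTensor_decaying_subtype_injective_of_finite (M : Type u) [AddCommGroup M] [Module A M]
    [Module.Finite A M] : Function.Injective (lTensor M (decaying I Z A).subtype) := by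
  obtain ⟨q, gen, hgen⟩ := Module.Finite.exists_fin (R := A) (M := M)
  have h := Groth.Agent.H87.tensorToFun_injective (I := I) (Z := Z) gen hgen
  have h' : Function.Injective ((TensorProduct.piScalarRightHom A A M Z) ∘
      (lTensor M (decaying I Z A).subtype)) := h
  exact Function.Injective.of_comp h'

/-- purity of `decaying I Z A ⊆ (Z → A)`. -/
theorem lTensor_decaying_subtype_injective (Q : Type u) [AddCommGroup Q] [Module A Q] :
    Function.Injective (lTensor Q (decaying I Z A).subtype) := by
  rw [injective_iff_map_eq_zero]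
  intro u hu
  obtain ⟨P, hP, t, ht⟩ := TensorProduct.exists_of_fg u
  have e1 : (rTensor (Z → A) P.subtype) ∘ₗ (lTensor P (decaying I Z A).subtype) =
      (lTensor Q (decaying I Z A).subtype) ∘ₗ (rTensor (decaying I Z A) P.subtype) := by
    rw [rTensor_comp_lTensor, lTensor_comp_rTensor]
  have h1 : rTensor (Z → A) P.subtype (lTensor P (decaying I Z A).subtype t) = 0 := by
    have := LinearMap.congr_fun e1 t
    simp only [LinearMap.comp_apply] at this
    rw [this, ht, hu]
  obtain ⟨P', hPP', hP', h2⟩ := TensorProduct.eq_zero_of_fg_of_subtype_eq_zero hP h1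
  have e2 : (lTensor P' (decaying I Z A).subtype) ∘ₗ
      (rTensor (decaying I Z A) (Submodule.inclusion hPP')) =
      (rTensor (Z → A) (Submodule.inclusion hPP')) ∘ₗ (lTensor P (decaying I Z A).subtype) := by
    rw [rTensor_comp_lTensor, lTensor_comp_rTensor]
  have h3 : lTensor P' (decaying I Z A).subtype
      (rTensor (decaying I Z A) (Submodule.inclusion hPP') t) = 0 := by
    have := LinearMap.congr_fun e2 t
    simp only [LinearMap.comp_apply] at this
    rw [this, h2]
  haveI : Module.Finite A P' := Module.Finite.iff_fg.mpr hP'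
  have h4 : rTensor (decaying I Z A) (Submodule.inclusion hPP') t = 0 :=
    lTensor_decaying_subtype_injective_of_finite I Z P' (by rw [h3, map_zero])
  rw [← ht, ← Submodule.subtype_comp_inclusion _ _ hPP', rTensor_comp, LinearMap.comp_apply, h4,
    map_zero]

omit [IsNoetherianRing A] [IsAdicComplete I A] in
theorem tensorToFun_natural {M M' : Type u} [AddCommGroup M] [Module A M] [AddCommGroup M']
    [Module A M'] (φ : M →ₗ[A] M') (t : M ⊗[A] decaying I Z A) (z : Z) :
    Groth.Agent.H87.tensorToFun I Z M' (rTensor (decaying I Z A) φ t) z =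
      φ (Groth.Agent.H87.tensorToFun I Z M t z) := by
  induction t using TensorProduct.induction_on with
  | zero => simp
  | tmul x g => simp
  | add a b ha hb => simp only [map_add, Pi.add_apply, ha, hb]

/-- core of Mittag-Leffler for `decaying`. -/
theorem eq_zero_of_forall_rTensor_proj_eq_zero (ι : Type u) (Q : ι → Type u)
    [∀ i, AddCommGroup (Q i)] [∀ i, Module A (Q i)] (v : (∀ i, Q i) ⊗[A] decaying I Z A)
    (hv : ∀ i, rTensor (decaying I Z A) (LinearMap.proj i : (∀ i, Q i) →ₗ[A] Q i) v = 0) :
    v = 0 := by
  obtain ⟨P, hP, t, ht⟩ := TensorProduct.exists_of_fg v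
  haveI : Module.Finite A P := Module.Finite.iff_fg.mpr hP
  obtain ⟨q, gen, hgen⟩ := Module.Finite.exists_fin (R := A) (M := P)
  have hinj := Groth.Agent.H87.tensorToFun_injective (I := I) (Z := Z) gen hgen
  have ht0 : t = 0 := by
    apply hinj
    rw [map_zero]
    funext z
    apply Subtype.ext
    funext i
    have h1 := tensorToFun_natural I Z ((LinearMap.proj i : (∀ i, Q i) →ₗ[A] Q i) ∘ₗ P.subtype) t z
    rw [rTensor_comp, LinearMap.comp_apply, ht, hv i, map_zero] at h1
    simpa using h1.symm
  rw [← ht, ht0, map_zero]

/-- `decaying I Z A` is Mittag-Leffler. -/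
theorem isMittagLeffler_decaying : CAlg.IsMittagLeffler A (decaying I Z A) := by
  intro ι Q _ _
  rw [injective_iff_map_eq_zero]
  intro u hu
  have key : ∀ (u : decaying I Z A ⊗[A] (∀ i, Q i)) (i : ι),
      rTensor (decaying I Z A) (LinearMap.proj i : (∀ i, Q i) →ₗ[A] Q i)
        (TensorProduct.comm A _ _ u) =
      TensorProduct.comm A _ _ (TensorProduct.piRightHom A A (decaying I Z A) Q u i) := by
    intro u i
    induction u using TensorProduct.induction_on with
    | zero => simp
    | tmul d f => simp
    | add a b ha hb => simp only [map_add, Pi.add_apply, ha, hb]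
  have hv := eq_zero_of_forall_rTensor_proj_eq_zero I Z ι Q (TensorProduct.comm A _ _ u)
    (fun i => by rw [key, hu]; simp)
  exact (TensorProduct.comm A _ _).injective (by rw [hv, map_zero])

end

section transfer

variable {A : Type u} [CommRing A]

/-- Mittag-Leffler transfers along linear equivalences. -/
theorem isMittagLeffler_of_linearEquiv {M N : Type u} [AddCommGroup M] [Module A M]
    [AddCommGroup N] [Module A N] (e : M ≃ₗ[A] N) (h : CAlg.IsMittagLeffler A N) :
    CAlg.IsMittagLeffler A M := by
  intro ι Q _ _
  have hcomm : (LinearMap.pi fun i => (rTensor (Q i) e.toLinearMap) ∘ₗ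
        (LinearMap.proj i : (∀ i, M ⊗[A] Q i) →ₗ[A] M ⊗[A] Q i)) ∘ₗ
      TensorProduct.piRightHom A A M Q =
      TensorProduct.piRightHom A A N Q ∘ₗ rTensor (∀ i, Q i) e.toLinearMap := by
    apply TensorProduct.ext'
    intro m q
    funext i
    simp
  have h2 : Function.Injective (TensorProduct.piRightHom A A N Q ∘ₗ
      rTensor (∀ i, Q i) e.toLinearMap) := by
    rw [LinearMap.coe_comp]
    exact (h ι Q).comp (LinearEquiv.rTensor (∀ i, Q i) e).injective
  rw [← hcomm, LinearMap.coe_comp] at h2
  exact Function.Injective.of_comp h2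

end transfer

section completion

variable {A : Type u} [CommRing A] [IsNoetherianRing A] (I : Ideal A) [IsAdicComplete I A]
  (Z : Type u)

/-- the completion of a free module over a complete Noetherian ring is the module of decaying
functions. -/
noncomputable def completionFreeEquiv :
    AdicCompletion I (Z →₀ A) ≃ₗ[A] decaying I Z A :=
  haveI : IsAdicComplete I (AdicCompletion I A) :=
    AdicCompletion.isAdicComplete (IsNoetherian.noetherian I)
  ((LinearEquiv.ofInjective _ (Groth.Agent.H87.finsuppCompMap_injective I Z A)).trans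
      (LinearEquiv.ofEq _ _ (Groth.Agent.H87.range_finsuppCompMap I Z A))).trans
    (Groth.Agent.H87.decayingCongr I Z (AdicCompletion.ofLinearEquiv I A).symm)

theorem completionFreeEquiv_apply (x : AdicCompletion I (Z →₀ A)) (z : Z) :
    AdicCompletion.ofLinearEquiv I A ((completionFreeEquiv I Z x : Z → A) z) =
      Groth.Agent.H87.finsuppCompMap I Z A x z := by
  have h : (completionFreeEquiv I Z x : Z → A) z =
      (AdicCompletion.ofLinearEquiv I A).symm (Groth.Agent.H87.finsuppCompMap I Z A x z) := rfl
  rw [h, LinearEquiv.apply_symm_apply]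

end completion

end Groth.Agent.Lead
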