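import Groth.Agent.Lead.ColimDescent

/-! Unramifiedness descends to a finite stage of a colimit-like system. -/

set_option autoImplicit false
universe u
open TensorProduct

namespace Groth.Agent.Lead.ColimDescent

section Omega

attribute [local instance] Algebra.TensorProduct.rightAlgebra

variable {ι : Type u} (A₀ : Type u) [CommRing A₀] {G : ι → Type u} [∀ i, CommRing (G i)]
  [∀ i, Algebra A₀ (G i)] {A : Type u} [CommRing A] [Algebra A₀ A] {g : ∀ i, G i →ₐ[A₀] A}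
  (B₀ : Type u) [CommRing B₀] [Algebra A₀ B₀]
  (C₀ : Type u) [CommRing C₀] [Algebra A₀ C₀] [Algebra B₀ C₀] [IsScalarTower A₀ B₀ C₀]

/-- bare equivalence `Ω[(B₀⊗X)⊗C₀ / B₀⊗X] ≃ Ω[C₀/B₀] ⊗[A₀] X`. -/
noncomputable def omegaEquiv (X : Type u) [CommRing X] [Algebra A₀ X] :
    KaehlerDifferential (B₀ ⊗[A₀] X) ((B₀ ⊗[A₀] X) ⊗[B₀] C₀) ≃
      (KaehlerDifferential B₀ C₀) ⊗[A₀] X :=
  (KaehlerDifferential.tensorKaehlerEquivBase B₀ (B₀ ⊗[A₀] X) C₀
      ((B₀ ⊗[A₀] X) ⊗[B₀] C₀)).symm.toEquiv.trans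
    (θ B₀ (KaehlerDifferential B₀ C₀) X).toEquiv

theorem Sys.exists_formallyUnramified (H : Sys A₀ G A g) [Algebra.FiniteType B₀ C₀]
    (h : Algebra.FormallyUnramified (B₀ ⊗[A₀] A) ((B₀ ⊗[A₀] A) ⊗[B₀] C₀)) :
    ∃ i, Algebra.FormallyUnramified (B₀ ⊗[A₀] G i) ((B₀ ⊗[A₀] G i) ⊗[B₀] C₀) := by
  classical
  have : Subsingleton ((KaehlerDifferential B₀ C₀) ⊗[A₀] A) :=
    (omegaEquiv A₀ B₀ C₀ A).symm.subsingleton
  obtain ⟨s, hs⟩ := (Module.Finite.fg_top : (⊤ : Submodule C₀ (KaehlerDifferential B₀ C₀)).FG)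
  have hstab : ∀ ν ∈ s, Stable g
      (fun i => ν ⊗ₜ[A₀] (1 : G i) = (0 : (KaehlerDifferential B₀ C₀) ⊗[A₀] G i)) := by
    rintro ν _ i j φ _ h0
    have h2 := congrArg (T (KaehlerDifferential B₀ C₀) φ) h0
    rw [T_tmul, map_one, map_zero] at h2
    exact h2
  have hex : ∀ ν ∈ s, ∃ i,
      ν ⊗ₜ[A₀] (1 : G i) = (0 : (KaehlerDifferential B₀ C₀) ⊗[A₀] G i) := by
    intro ν _
    obtain ⟨i⟩ := H.ne
    have h0 : T (KaehlerDifferential B₀ C₀) (g i) (ν ⊗ₜ[A₀] (1 : G i)) = 0 :=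
      Subsingleton.elim _ _
    obtain ⟨j, φ, _, hk⟩ := H.t2 (KaehlerDifferential B₀ C₀) i _ h0
    rw [T_tmul, map_one] at hk
    exact ⟨j, hk⟩
  obtain ⟨i, hi⟩ := H.common s
    (fun ν i => ν ⊗ₜ[A₀] (1 : G i) = (0 : (KaehlerDifferential B₀ C₀) ⊗[A₀] G i)) hstab hex
  refine ⟨i, ⟨?_⟩⟩
  have : Subsingleton ((KaehlerDifferential B₀ C₀) ⊗[A₀] G i) := by
    have hz : ∀ z : (KaehlerDifferential B₀ C₀) ⊗[A₀] G i, z = 0 := by
      intro z
      induction z using TensorProduct.induction_on with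
      | zero => rfl
      | tmul ν x =>
        have hν : ν ∈ Submodule.span C₀ (s : Set (KaehlerDifferential B₀ C₀)) := by
          rw [hs]; trivial
        revert x
        induction hν using Submodule.span_induction with
        | mem ν hν =>
          intro x
          have h2 := congrArg (LinearMap.lTensor (KaehlerDifferential B₀ C₀)
            (LinearMap.mulLeft A₀ x)) (hi ν hν)
          simpa using h2
        | zero => intro x; exact zero_tmul _ _
        | add ν ν' _ _ h h' => intro x; rw [add_tmul, h x, h' x, add_zero]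
        | smul c ν _ h =>
          intro x
          have h2 := congrArg (LinearMap.rTensor (G i)
            (Algebra.lsmul A₀ A₀ (KaehlerDifferential B₀ C₀) c)) (h x)
          simpa using h2
      | add z z' h h' => rw [h, h', add_zero]
    exact ⟨fun z z' => by rw [hz z, hz z']⟩
  exact (omegaEquiv A₀ B₀ C₀ (G i)).subsingleton

theorem Sys.exists_unramified (H : Sys A₀ G A g) [Algebra.FiniteType B₀ C₀]
    (h : Algebra.Unramified (B₀ ⊗[A₀] A) ((B₀ ⊗[A₀] A) ⊗[B₀] C₀)) :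
    ∃ i, Algebra.Unramified (B₀ ⊗[A₀] G i) ((B₀ ⊗[A₀] G i) ⊗[B₀] C₀) := by
  obtain ⟨i, hi⟩ := H.exists_formallyUnramified A₀ B₀ C₀ h.formallyUnramified
  exact ⟨i, { formallyUnramified := hi, finiteType := inferInstance }⟩

end Omega

end Groth.Agent.Lead.ColimDescent
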