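import Groth.Agent.Lead.ColimDescentOmega

/-! Formal smoothness (hence smoothness, étaleness) descends to a finite stage of a colimit-like
system, for base changes of a finitely presented algebra.  Criterion used: with a presentation
`fp : B₀[X₁..Xₙ] → C₀`, the base change is formally smooth iff there are `y k` in
`(B₀ ⊗ G) ⊗[B₀] B₀[X]` with `y k ≡ X k` mod the kernel and `q(y) ∈ kernel²` for the relations `q`. -/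

set_option autoImplicit false
universe u
open TensorProduct

namespace Groth.Agent.Lead.ColimDescent

section Rm

variable (A₀ : Type u) [CommRing A₀] (B₀ : Type u) [CommRing B₀] [Algebra A₀ B₀]
  (X : Type u) [CommRing X] [Algebra A₀ X]
  {D D' : Type u} [CommRing D] [CommRing D'] [Algebra B₀ D] [Algebra B₀ D']

/-- `(B₀ ⊗ X) ⊗ π`. -/
noncomputable def Rm (π : D →ₐ[B₀] D') :
    (B₀ ⊗[A₀] X) ⊗[B₀] D →ₐ[B₀] (B₀ ⊗[A₀] X) ⊗[B₀] D' :=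
  Algebra.TensorProduct.map (AlgHom.id B₀ (B₀ ⊗[A₀] X)) π

lemma Rm_tmul (π : D →ₐ[B₀] D') (b : B₀ ⊗[A₀] X) (d : D) :
    Rm A₀ B₀ X π (b ⊗ₜ d) = b ⊗ₜ π d := by simp [Rm]

lemma Rm_ker (π : D →ₐ[B₀] D') (hπ : Function.Surjective π) :
    RingHom.ker (Rm A₀ B₀ X π) = (RingHom.ker π).map
      (Algebra.TensorProduct.includeRight : D →ₐ[B₀] (B₀ ⊗[A₀] X) ⊗[B₀] D) :=
  Algebra.TensorProduct.lTensor_ker π hπ

variable [Algebra A₀ D] [IsScalarTower A₀ B₀ D] [Algebra A₀ D'] [IsScalarTower A₀ B₀ D']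

lemma Rm_Cm {Y : Type u} [CommRing Y] [Algebra A₀ Y] (φ : X →ₐ[A₀] Y) (π : D →ₐ[B₀] D')
    (w : (B₀ ⊗[A₀] X) ⊗[B₀] D) :
    Rm A₀ B₀ Y π (Cm B₀ D φ w) = Cm B₀ D' φ (Rm A₀ B₀ X π w) := by
  induction w using TensorProduct.induction_on with
  | zero => simp
  | tmul b d => rw [Cm_tmul, Rm_tmul, Rm_tmul, Cm_tmul]
  | add w₁ w₂ h₁ h₂ => simp only [map_add, h₁, h₂]

end Rm

section MoreSys

variable {ι : Type u} {A₀ : Type u} [CommRing A₀] {G : ι → Type u} [∀ i, CommRing (G i)]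
  [∀ i, Algebra A₀ (G i)] {A : Type u} [CommRing A] [Algebra A₀ A] {g : ∀ i, G i →ₐ[A₀] A}
  (B₀ : Type u) [CommRing B₀] [Algebra A₀ B₀]
  (C₀ : Type u) [CommRing C₀] [Algebra A₀ C₀] [Algebra B₀ C₀] [IsScalarTower A₀ B₀ C₀]

theorem Sys.t1C (H : Sys A₀ G A g) (w : (B₀ ⊗[A₀] A) ⊗[B₀] C₀) :
    ∃ (i : ι) (w' : (B₀ ⊗[A₀] G i) ⊗[B₀] C₀), Cm B₀ C₀ (g i) w' = w := by
  induction w using TensorProduct.induction_on with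
  | zero => obtain ⟨i⟩ := H.ne; exact ⟨i, 0, map_zero _⟩
  | tmul b c =>
    obtain ⟨i, b', rfl⟩ := H.t1B B₀ b
    exact ⟨i, b' ⊗ₜ c, Cm_tmul B₀ C₀ (g i) b' c⟩
  | add w₁ w₂ ih₁ ih₂ =>
    obtain ⟨i₁, v₁, h₁⟩ := ih₁
    obtain ⟨i₂, v₂, h₂⟩ := ih₂
    obtain ⟨j, φ₁, φ₂, c₁, c₂⟩ := H.dir i₁ i₂
    exact ⟨j, Cm B₀ C₀ φ₁ v₁ + Cm B₀ C₀ φ₂ v₂, by
      rw [map_add, Cm_compat B₀ C₀ φ₁ c₁, Cm_compat B₀ C₀ φ₂ c₂, h₁, h₂]⟩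

theorem Sys.killC_finset (H : Sys A₀ G A g) (i : ι)
    (W : Finset ((B₀ ⊗[A₀] G i) ⊗[B₀] C₀)) (hW : ∀ w ∈ W, Cm B₀ C₀ (g i) w = 0) :
    ∃ (j : ι) (φ : G i →ₐ[A₀] G j), (g j).comp φ = g i ∧ ∀ w ∈ W, Cm B₀ C₀ φ w = 0 := by
  classical
  induction W using Finset.induction_on with
  | empty => exact ⟨i, AlgHom.id _ _, AlgHom.comp_id _, by simp⟩
  | insert w W hw ih =>
    obtain ⟨j, φ, c, hk⟩ := ih (fun x hx => hW x (Finset.mem_insert_of_mem hx))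
    have h0 : Cm B₀ C₀ (g j) (Cm B₀ C₀ φ w) = 0 := by
      rw [Cm_compat B₀ C₀ φ c]; exact hW w (Finset.mem_insert_self _ _)
    obtain ⟨j', ψ, cψ, hk'⟩ := H.t2C B₀ C₀ j _ h0
    refine ⟨j', ψ.comp φ, by rw [← AlgHom.comp_assoc, cψ, c], ?_⟩
    intro x hx
    rw [Cm_comp]
    rcases Finset.mem_insert.1 hx with rfl | hx
    · exact hk'
    · rw [hk x hx, map_zero]

end MoreSys

section SmoothCrit

variable (A₀ : Type u) [CommRing A₀] (B₀ : Type u) [CommRing B₀] [Algebra A₀ B₀]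
  (C₀ : Type u) [CommRing C₀] [Algebra A₀ C₀] [Algebra B₀ C₀] [IsScalarTower A₀ B₀ C₀]
  {n : ℕ} (fp : MvPolynomial (Fin n) B₀ →ₐ[B₀] C₀)
  (S : Finset (MvPolynomial (Fin n) B₀))

/-- first-order thickening quotient of the polynomial ring -/
abbrev E₀ : Type u := MvPolynomial (Fin n) B₀ ⧸ (RingHom.ker fp) ^ 2

/-- the quotient map to `E₀`. -/
noncomputable abbrev mk₂ : MvPolynomial (Fin n) B₀ →ₐ[B₀] E₀ B₀ C₀ fp :=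
  Ideal.Quotient.mkₐ B₀ ((RingHom.ker fp) ^ 2)

lemma ker_mk₂ : RingHom.ker (mk₂ B₀ C₀ fp) = (RingHom.ker fp) ^ 2 := by
  ext x
  rw [RingHom.mem_ker]
  exact Ideal.Quotient.eq_zero_iff_mem

variable (X : Type u) [CommRing X] [Algebra A₀ X]

/-- `y k ≡ X k` modulo the kernel. -/
def FS1 (y : Fin n → (B₀ ⊗[A₀] X) ⊗[B₀] MvPolynomial (Fin n) B₀) : Prop :=
  ∀ k, Rm A₀ B₀ X fp (y k) =
    Rm A₀ B₀ X fp ((1 : B₀ ⊗[A₀] X) ⊗ₜ[B₀] (MvPolynomial.X k : MvPolynomial (Fin n) B₀))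

/-- `q(y) ∈ kernel²` for the relations `q ∈ S`. -/
def FS2 (y : Fin n → (B₀ ⊗[A₀] X) ⊗[B₀] MvPolynomial (Fin n) B₀) : Prop :=
  ∀ q ∈ S, Rm A₀ B₀ X (mk₂ B₀ C₀ fp) (MvPolynomial.aeval y q) = 0

variable {X}

lemma FS1.map {Y : Type u} [CommRing Y] [Algebra A₀ Y] (φ : X →ₐ[A₀] Y)
    {y : Fin n → (B₀ ⊗[A₀] X) ⊗[B₀] MvPolynomial (Fin n) B₀} (h : FS1 A₀ B₀ C₀ fp X y) :
    FS1 A₀ B₀ C₀ fp Y (fun k => Cm B₀ (MvPolynomial (Fin n) B₀) φ (y k)) := by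
  intro k
  rw [Rm_Cm, h k, ← Rm_Cm, Cm_one_tmul]

lemma aeval_Cm {Y : Type u} [CommRing Y] [Algebra A₀ Y] (φ : X →ₐ[A₀] Y)
    (y : Fin n → (B₀ ⊗[A₀] X) ⊗[B₀] MvPolynomial (Fin n) B₀) (q : MvPolynomial (Fin n) B₀) :
    MvPolynomial.aeval (fun k => Cm B₀ (MvPolynomial (Fin n) B₀) φ (y k)) q =
      Cm B₀ (MvPolynomial (Fin n) B₀) φ (MvPolynomial.aeval y q) := by
  have h := MvPolynomial.comp_aeval (R := B₀) (f := y) (Cm B₀ (MvPolynomial (Fin n) B₀) φ)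
  exact (DFunLike.congr_fun h q).symm

lemma FS2.map {Y : Type u} [CommRing Y] [Algebra A₀ Y] (φ : X →ₐ[A₀] Y)
    {y : Fin n → (B₀ ⊗[A₀] X) ⊗[B₀] MvPolynomial (Fin n) B₀} (h : FS2 A₀ B₀ C₀ fp S X y) :
    FS2 A₀ B₀ C₀ fp S Y (fun k => Cm B₀ (MvPolynomial (Fin n) B₀) φ (y k)) := by
  intro q hq
  rw [aeval_Cm, Rm_Cm, h q hq, map_zero]

variable (X)

/-- The `B₀ ⊗ X`-algebra version of `Rm fp`. -/
noncomputable def fS : ((B₀ ⊗[A₀] X) ⊗[B₀] MvPolynomial (Fin n) B₀) →ₐ[B₀ ⊗[A₀] X]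
    ((B₀ ⊗[A₀] X) ⊗[B₀] C₀) :=
  Algebra.TensorProduct.map (AlgHom.id (B₀ ⊗[A₀] X) (B₀ ⊗[A₀] X)) fp

lemma fS_eq (w : (B₀ ⊗[A₀] X) ⊗[B₀] MvPolynomial (Fin n) B₀) :
    fS A₀ B₀ C₀ fp X w = Rm A₀ B₀ X fp w := by
  induction w using TensorProduct.induction_on with
  | zero => simp
  | tmul b p => simp [fS, Rm_tmul]
  | add w₁ w₂ h₁ h₂ => simp only [map_add, h₁, h₂]

lemma ker_fS_eq : RingHom.ker (fS A₀ B₀ C₀ fp X).toRingHom = RingHom.ker (Rm A₀ B₀ X fp) := by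
  ext w
  simp only [RingHom.mem_ker]
  rw [← fS_eq]
  rfl

lemma mem_ker_sq_iff (hfp : Function.Surjective fp)
    (w : (B₀ ⊗[A₀] X) ⊗[B₀] MvPolynomial (Fin n) B₀) :
    w ∈ RingHom.ker (fS A₀ B₀ C₀ fp X).toRingHom ^ 2 ↔ Rm A₀ B₀ X (mk₂ B₀ C₀ fp) w = 0 := by
  have h1 : RingHom.ker (fS A₀ B₀ C₀ fp X).toRingHom ^ 2 =
      RingHom.ker (Rm A₀ B₀ X (mk₂ B₀ C₀ fp)) := by
    rw [ker_fS_eq, Rm_ker A₀ B₀ X fp hfp,
      Rm_ker A₀ B₀ X (mk₂ B₀ C₀ fp) (Ideal.Quotient.mkₐ_surjective B₀ _), ker_mk₂, Ideal.map_pow]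
  rw [h1, RingHom.mem_ker]

end SmoothCrit

end Groth.Agent.Lead.ColimDescent
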