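import Groth.Agent.Lead.ColimDescentSmooth

set_option autoImplicit false
universe u
open TensorProduct

namespace Groth.Agent.Lead.ColimDescent

section SmoothCrit2

variable (A₀ : Type u) [CommRing A₀] (B₀ : Type u) [CommRing B₀] [Algebra A₀ B₀]
  (C₀ : Type u) [CommRing C₀] [Algebra A₀ C₀] [Algebra B₀ C₀] [IsScalarTower A₀ B₀ C₀]
  {n : ℕ} (fp : MvPolynomial (Fin n) B₀ →ₐ[B₀] C₀)
  (S : Finset (MvPolynomial (Fin n) B₀))
  (X : Type u) [CommRing X] [Algebra A₀ X]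

theorem formallySmooth_of_FS (hfp : Function.Surjective fp)
    (hS : Ideal.span (S : Set (MvPolynomial (Fin n) B₀)) = RingHom.ker fp.toRingHom)
    (y : Fin n → (B₀ ⊗[A₀] X) ⊗[B₀] MvPolynomial (Fin n) B₀)
    (h1 : FS1 A₀ B₀ C₀ fp X y) (h2 : FS2 A₀ B₀ C₀ fp S X y) :
    Algebra.FormallySmooth (B₀ ⊗[A₀] X) ((B₀ ⊗[A₀] X) ⊗[B₀] C₀) := by
  classical
  let mkQ : ((B₀ ⊗[A₀] X) ⊗[B₀] MvPolynomial (Fin n) B₀) →ₐ[B₀ ⊗[A₀] X]
      (((B₀ ⊗[A₀] X) ⊗[B₀] MvPolynomial (Fin n) B₀) ⧸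
        RingHom.ker (fS A₀ B₀ C₀ fp X).toRingHom ^ 2) :=
    Ideal.Quotient.mkₐ (B₀ ⊗[A₀] X) (RingHom.ker (fS A₀ B₀ C₀ fp X).toRingHom ^ 2)
  let σ : MvPolynomial (Fin n) B₀ →ₐ[B₀]
      (((B₀ ⊗[A₀] X) ⊗[B₀] MvPolynomial (Fin n) B₀) ⧸
        RingHom.ker (fS A₀ B₀ C₀ fp X).toRingHom ^ 2) :=
    (mkQ.restrictScalars B₀).comp (MvPolynomial.aeval y)
  have hσS : ∀ q ∈ S, σ q = 0 := by
    intro q hq
    exact Ideal.Quotient.eq_zero_iff_mem.2 ((mem_ker_sq_iff A₀ B₀ C₀ fp X hfp _).2 (h2 q hq))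
  have hσ : RingHom.ker fp.toRingHom ≤ RingHom.ker σ.toRingHom := by
    rw [← hS, Ideal.span_le]
    intro q hq
    exact hσS q hq
  let γ : C₀ →ₐ[B₀] (((B₀ ⊗[A₀] X) ⊗[B₀] MvPolynomial (Fin n) B₀) ⧸
        RingHom.ker (fS A₀ B₀ C₀ fp X).toRingHom ^ 2) :=
    AlgHom.liftOfSurjective (C := (((B₀ ⊗[A₀] X) ⊗[B₀] MvPolynomial (Fin n) B₀) ⧸
        RingHom.ker (fS A₀ B₀ C₀ fp X).toRingHom ^ 2)) fp hfp σ hσ
  let gg : ((B₀ ⊗[A₀] X) ⊗[B₀] C₀) →ₐ[B₀ ⊗[A₀] X]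
      (((B₀ ⊗[A₀] X) ⊗[B₀] MvPolynomial (Fin n) B₀) ⧸
        RingHom.ker (fS A₀ B₀ C₀ fp X).toRingHom ^ 2) :=
    Algebra.TensorProduct.lift (Algebra.ofId (B₀ ⊗[A₀] X) _) γ
      (fun a b => Commute.all (S := (((B₀ ⊗[A₀] X) ⊗[B₀] MvPolynomial (Fin n) B₀) ⧸
        RingHom.ker (fS A₀ B₀ C₀ fp X).toRingHom ^ 2)) _ _)
  refine Algebra.FormallySmooth.of_split (fS A₀ B₀ C₀ fp X) gg ?_
  have hfy : ∀ p : MvPolynomial (Fin n) B₀,
      fS A₀ B₀ C₀ fp X (MvPolynomial.aeval y p) = (1 : B₀ ⊗[A₀] X) ⊗ₜ[B₀] fp p := by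
    intro p
    have hcomp : (((fS A₀ B₀ C₀ fp X).restrictScalars B₀).comp (MvPolynomial.aeval y)) =
        (Algebra.TensorProduct.includeRight : C₀ →ₐ[B₀] (B₀ ⊗[A₀] X) ⊗[B₀] C₀).comp fp := by
      apply MvPolynomial.algHom_ext
      intro k
      simp only [AlgHom.comp_apply, AlgHom.restrictScalars_apply, MvPolynomial.aeval_X,
        Algebra.TensorProduct.includeRight_apply]
      rw [fS_eq, h1 k, Rm_tmul]
    exact DFunLike.congr_fun hcomp p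
  apply AlgHom.ext
  intro w
  induction w using TensorProduct.induction_on with
  | zero => simp
  | tmul b c =>
    obtain ⟨p, rfl⟩ := hfp c
    have e1 : gg (b ⊗ₜ[B₀] fp p) =
        algebraMap (B₀ ⊗[A₀] X) _ b * mkQ (MvPolynomial.aeval y p) := by
      simp only [gg, Algebra.TensorProduct.lift_tmul, Algebra.ofId_apply, γ,
        AlgHom.liftOfSurjective_apply]
      rfl
    rw [AlgHom.comp_apply, e1, map_mul, AlgHom.commutes]
    have e2 : (fS A₀ B₀ C₀ fp X).kerSquareLift (mkQ (MvPolynomial.aeval y p)) =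
        fS A₀ B₀ C₀ fp X (MvPolynomial.aeval y p) := rfl
    rw [e2, hfy, AlgHom.id_apply, Algebra.TensorProduct.algebraMap_apply,
      Algebra.TensorProduct.tmul_mul_tmul]
    simp
  | add w₁ w₂ h₁ h₂ => rw [map_add, h₁, h₂, map_add]

theorem exists_FS_of_formallySmooth (hfp : Function.Surjective fp)
    (hS : Ideal.span (S : Set (MvPolynomial (Fin n) B₀)) = RingHom.ker fp.toRingHom)
    (h : Algebra.FormallySmooth (B₀ ⊗[A₀] X) ((B₀ ⊗[A₀] X) ⊗[B₀] C₀)) :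
    ∃ y : Fin n → (B₀ ⊗[A₀] X) ⊗[B₀] MvPolynomial (Fin n) B₀,
      FS1 A₀ B₀ C₀ fp X y ∧ FS2 A₀ B₀ C₀ fp S X y := by
  classical
  have hsurj : Function.Surjective (fS A₀ B₀ C₀ fp X) := by
    intro w
    obtain ⟨v, hv⟩ := Algebra.TensorProduct.map_surjective
      (AlgHom.id B₀ (B₀ ⊗[A₀] X)) fp Function.surjective_id hfp w
    exact ⟨v, by rw [fS_eq]; exact hv⟩
  obtain ⟨gg, hgg⟩ := (Algebra.FormallySmooth.iff_split_surjection (fS A₀ B₀ C₀ fp X) hsurj).1 h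
  have hy : ∀ k : Fin n, ∃ yk : (B₀ ⊗[A₀] X) ⊗[B₀] MvPolynomial (Fin n) B₀,
      Ideal.Quotient.mk (RingHom.ker (fS A₀ B₀ C₀ fp X).toRingHom ^ 2) yk =
        gg (fS A₀ B₀ C₀ fp X ((1 : B₀ ⊗[A₀] X) ⊗ₜ[B₀]
          (MvPolynomial.X k : MvPolynomial (Fin n) B₀))) :=
    fun k => Ideal.Quotient.mk_surjective _
  choose y hy using hy
  refine ⟨y, ?_, ?_⟩
  · intro k
    rw [← fS_eq, ← fS_eq]
    have e : fS A₀ B₀ C₀ fp X (y k) =
        (fS A₀ B₀ C₀ fp X).kerSquareLift (Ideal.Quotient.mk _ (y k)) := rfl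
    rw [e, hy k]
    exact DFunLike.congr_fun hgg _
  · intro q hq
    rw [← mem_ker_sq_iff A₀ B₀ C₀ fp X hfp, ← Ideal.Quotient.eq_zero_iff_mem]
    have hcomp : ((Ideal.Quotient.mkₐ (B₀ ⊗[A₀] X)
        (RingHom.ker (fS A₀ B₀ C₀ fp X).toRingHom ^ 2)).restrictScalars B₀).comp
          (MvPolynomial.aeval y) =
        (gg.restrictScalars B₀).comp (((fS A₀ B₀ C₀ fp X).restrictScalars B₀).comp
          (Algebra.TensorProduct.includeRight :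
            MvPolynomial (Fin n) B₀ →ₐ[B₀] (B₀ ⊗[A₀] X) ⊗[B₀] MvPolynomial (Fin n) B₀)) := by
      apply MvPolynomial.algHom_ext
      intro k
      simp only [AlgHom.comp_apply, AlgHom.restrictScalars_apply, MvPolynomial.aeval_X,
        Algebra.TensorProduct.includeRight_apply]
      exact hy k
    have h3 := DFunLike.congr_fun hcomp q
    simp only [AlgHom.comp_apply, AlgHom.restrictScalars_apply,
      Algebra.TensorProduct.includeRight_apply] at h3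
    have hq0 : fS A₀ B₀ C₀ fp X ((1 : B₀ ⊗[A₀] X) ⊗ₜ[B₀] q) = 0 := by
      rw [fS_eq, Rm_tmul]
      have hfq : fp q = 0 := by
        have hmem : q ∈ RingHom.ker fp.toRingHom := by
          rw [← hS]; exact Ideal.subset_span hq
        exact hmem
      rw [hfq, tmul_zero]
    rw [hq0, map_zero] at h3
    exact h3

end SmoothCrit2

end Groth.Agent.Lead.ColimDescent
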