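import Groth.Agent.Lead.ColimDescentSmooth2

set_option autoImplicit false
universe u
open TensorProduct

namespace Groth.Agent.Lead.ColimDescent

section Final

variable {ι : Type u} (A₀ : Type u) [CommRing A₀] {G : ι → Type u} [∀ i, CommRing (G i)]
  [∀ i, Algebra A₀ (G i)] {A : Type u} [CommRing A] [Algebra A₀ A] {g : ∀ i, G i →ₐ[A₀] A}
  (B₀ : Type u) [CommRing B₀] [Algebra A₀ B₀]
  (C₀ : Type u) [CommRing C₀] [Algebra A₀ C₀] [Algebra B₀ C₀] [IsScalarTower A₀ B₀ C₀]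
  {n : ℕ} (fp : MvPolynomial (Fin n) B₀ →ₐ[B₀] C₀) (S : Finset (MvPolynomial (Fin n) B₀))

theorem Sys.exists_FS (H : Sys A₀ G A g)
    (yA : Fin n → (B₀ ⊗[A₀] A) ⊗[B₀] MvPolynomial (Fin n) B₀)
    (h1 : FS1 A₀ B₀ C₀ fp A yA) (h2 : FS2 A₀ B₀ C₀ fp S A yA) :
    ∃ (i : ι) (y : Fin n → (B₀ ⊗[A₀] G i) ⊗[B₀] MvPolynomial (Fin n) B₀),
      FS1 A₀ B₀ C₀ fp (G i) y ∧ FS2 A₀ B₀ C₀ fp S (G i) y := by
  classical
  obtain ⟨i₀, hi₀⟩ := H.common (Finset.univ : Finset (Fin n))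
    (fun k i => yA k ∈ Set.range (Cm B₀ (MvPolynomial (Fin n) B₀) (g i)))
    (fun k _ i j φ c ⟨w, hw⟩ => ⟨Cm B₀ (MvPolynomial (Fin n) B₀) φ w, by
      rw [Cm_compat B₀ (MvPolynomial (Fin n) B₀) φ c, hw]⟩)
    (fun k _ => by
      obtain ⟨i, w, hw⟩ := H.t1C B₀ (MvPolynomial (Fin n) B₀) (yA k)
      exact ⟨i, w, hw⟩)
  choose y₀ hy₀ using fun k => hi₀ k (Finset.mem_univ k)
  have hW1 : ∀ w ∈ Finset.univ.image (fun k : Fin n => Rm A₀ B₀ (G i₀) fp (y₀ k) -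
      Rm A₀ B₀ (G i₀) fp ((1 : B₀ ⊗[A₀] G i₀) ⊗ₜ[B₀]
        (MvPolynomial.X k : MvPolynomial (Fin n) B₀))),
      Cm B₀ C₀ (g i₀) w = 0 := by
    intro w hw
    obtain ⟨k, -, rfl⟩ := Finset.mem_image.1 hw
    rw [map_sub, ← Rm_Cm, ← Rm_Cm, hy₀ k, Cm_one_tmul, h1 k, sub_self]
  obtain ⟨j₁, φ₁, c₁, hk₁⟩ := H.killC_finset B₀ C₀ i₀ _ hW1
  have hy₁ : ∀ k, Cm B₀ (MvPolynomial (Fin n) B₀) (g j₁)
      (Cm B₀ (MvPolynomial (Fin n) B₀) φ₁ (y₀ k)) = yA k :=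
    fun k => by rw [Cm_compat B₀ (MvPolynomial (Fin n) B₀) φ₁ c₁, hy₀ k]
  have h1' : FS1 A₀ B₀ C₀ fp (G j₁)
      (fun k => Cm B₀ (MvPolynomial (Fin n) B₀) φ₁ (y₀ k)) := by
    intro k
    have h3 := hk₁ _ (Finset.mem_image_of_mem _ (Finset.mem_univ k))
    rw [map_sub, ← Rm_Cm, ← Rm_Cm, Cm_one_tmul, sub_eq_zero] at h3
    exact h3
  have hW2 : ∀ w ∈ S.image (fun q => Rm A₀ B₀ (G j₁) (mk₂ B₀ C₀ fp)
      (MvPolynomial.aeval (fun k => Cm B₀ (MvPolynomial (Fin n) B₀) φ₁ (y₀ k)) q)),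
      Cm B₀ (E₀ B₀ C₀ fp) (g j₁) w = 0 := by
    intro w hw
    obtain ⟨q, hq, rfl⟩ := Finset.mem_image.1 hw
    rw [← Rm_Cm, ← aeval_Cm]
    have e : (fun k => Cm B₀ (MvPolynomial (Fin n) B₀) (g j₁)
        (Cm B₀ (MvPolynomial (Fin n) B₀) φ₁ (y₀ k))) = yA := funext hy₁
    have h4 := h2 q hq
    rw [← e] at h4
    exact h4
  obtain ⟨j₂, φ₂, c₂, hk₂⟩ := H.killC_finset B₀ (E₀ B₀ C₀ fp) j₁ _ hW2
  refine ⟨j₂, fun k => Cm B₀ (MvPolynomial (Fin n) B₀) φ₂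
    (Cm B₀ (MvPolynomial (Fin n) B₀) φ₁ (y₀ k)), h1'.map A₀ B₀ C₀ fp φ₂, ?_⟩
  intro q hq
  rw [aeval_Cm, Rm_Cm]
  exact hk₂ _ (Finset.mem_image_of_mem _ hq)

/-! ### unramified conditions in stable form -/

/-- `ν ⊗ 1 = 0` for all `ν ∈ s`. -/
def UnrCond (s : Finset (KaehlerDifferential B₀ C₀)) (X : Type u) [CommRing X] [Algebra A₀ X] :
    Prop :=
  ∀ ν ∈ s, ν ⊗ₜ[A₀] (1 : X) = (0 : (KaehlerDifferential B₀ C₀) ⊗[A₀] X)

variable {A₀ B₀ C₀} in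
lemma UnrCond.map {s : Finset (KaehlerDifferential B₀ C₀)} {X Y : Type u} [CommRing X]
    [Algebra A₀ X] [CommRing Y] [Algebra A₀ Y] (φ : X →ₐ[A₀] Y) (h : UnrCond A₀ B₀ C₀ s X) :
    UnrCond A₀ B₀ C₀ s Y := by
  intro ν hν
  have h2 := congrArg (T (KaehlerDifferential B₀ C₀) φ) (h ν hν)
  rw [T_tmul, map_one, map_zero] at h2
  exact h2

theorem Sys.exists_unrCond (H : Sys A₀ G A g) (s : Finset (KaehlerDifferential B₀ C₀))
    (h : Algebra.FormallyUnramified (B₀ ⊗[A₀] A) ((B₀ ⊗[A₀] A) ⊗[B₀] C₀)) :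
    ∃ i, UnrCond A₀ B₀ C₀ s (G i) := by
  classical
  have : Subsingleton ((KaehlerDifferential B₀ C₀) ⊗[A₀] A) :=
    (omegaEquiv A₀ B₀ C₀ A).symm.subsingleton
  refine H.common s
    (fun ν i => ν ⊗ₜ[A₀] (1 : G i) = (0 : (KaehlerDifferential B₀ C₀) ⊗[A₀] G i)) ?_ ?_
  · rintro ν _ i j φ _ h0
    have h2 := congrArg (T (KaehlerDifferential B₀ C₀) φ) h0
    rw [T_tmul, map_one, map_zero] at h2
    exact h2
  · intro ν _
    obtain ⟨i⟩ := H.ne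
    have h0 : T (KaehlerDifferential B₀ C₀) (g i) (ν ⊗ₜ[A₀] (1 : G i)) = 0 :=
      Subsingleton.elim _ _
    obtain ⟨j, φ, _, hk⟩ := H.t2 (KaehlerDifferential B₀ C₀) i _ h0
    rw [T_tmul, map_one] at hk
    exact ⟨j, hk⟩

lemma formallyUnramified_of_unrCond (s : Finset (KaehlerDifferential B₀ C₀))
    (hs : Submodule.span C₀ (s : Set (KaehlerDifferential B₀ C₀)) = ⊤)
    (X : Type u) [CommRing X] [Algebra A₀ X] (hi : UnrCond A₀ B₀ C₀ s X) :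
    Algebra.FormallyUnramified (B₀ ⊗[A₀] X) ((B₀ ⊗[A₀] X) ⊗[B₀] C₀) := by
  refine ⟨?_⟩
  have : Subsingleton ((KaehlerDifferential B₀ C₀) ⊗[A₀] X) := by
    have hz : ∀ z : (KaehlerDifferential B₀ C₀) ⊗[A₀] X, z = 0 := by
      intro z
      induction z using TensorProduct.induction_on with
      | zero => rfl
      | tmul ν x =>
        have hν : ν ∈ Submodule.span C₀ (s : Set (KaehlerDifferential B₀ C₀)) := by
          rw [hs]; trivial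
        revert x
        induction hν using Submodule.span_induction with
        | mem ν hν =>
          intro x
          have h2 := congrArg (LinearMap.lTensor (KaehlerDifferential B₀ C₀)
            (LinearMap.mulLeft A₀ x)) (hi ν hν)
          simpa using h2
        | zero => intro x; exact zero_tmul _ _
        | add ν ν' _ _ h h' => intro x; rw [add_tmul, h x, h' x, add_zero]
        | smul c ν _ h =>
          intro x
          have h2 := congrArg (LinearMap.rTensor X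
            (Algebra.lsmul A₀ A₀ (KaehlerDifferential B₀ C₀) c)) (h x)
          simpa using h2
      | add z z' h h' => rw [h, h', add_zero]
    exact ⟨fun z z' => by rw [hz z, hz z']⟩
  exact (omegaEquiv A₀ B₀ C₀ X).subsingleton

/-! ### main theorems -/

theorem Sys.exists_smooth (H : Sys A₀ G A g) [Algebra.FinitePresentation B₀ C₀]
    (h : Algebra.Smooth (B₀ ⊗[A₀] A) ((B₀ ⊗[A₀] A) ⊗[B₀] C₀)) :
    ∃ i, Algebra.Smooth (B₀ ⊗[A₀] G i) ((B₀ ⊗[A₀] G i) ⊗[B₀] C₀) := by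
  obtain ⟨n, fp, hfp, hker⟩ := Algebra.FinitePresentation.out (R := B₀) (A := C₀)
  obtain ⟨S, hS⟩ := hker
  obtain ⟨yA, h1, h2⟩ := exists_FS_of_formallySmooth A₀ B₀ C₀ fp S A hfp hS h.formallySmooth
  obtain ⟨i, y, h1', h2'⟩ := H.exists_FS A₀ B₀ C₀ fp S yA h1 h2
  exact ⟨i, { formallySmooth := formallySmooth_of_FS A₀ B₀ C₀ fp S (G i) hfp hS y h1' h2'
              finitePresentation := inferInstance }⟩

theorem Sys.exists_etale (H : Sys A₀ G A g) [Algebra.FinitePresentation B₀ C₀]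
    (h : Algebra.Etale (B₀ ⊗[A₀] A) ((B₀ ⊗[A₀] A) ⊗[B₀] C₀)) :
    ∃ i, Algebra.Etale (B₀ ⊗[A₀] G i) ((B₀ ⊗[A₀] G i) ⊗[B₀] C₀) := by
  obtain ⟨n, fp, hfp, hker⟩ := Algebra.FinitePresentation.out (R := B₀) (A := C₀)
  obtain ⟨S, hS⟩ := hker
  obtain ⟨yA, h1, h2⟩ := exists_FS_of_formallySmooth A₀ B₀ C₀ fp S A hfp hS inferInstance
  obtain ⟨i₁, y, h1', h2'⟩ := H.exists_FS A₀ B₀ C₀ fp S yA h1 h2
  obtain ⟨s, hs⟩ := (Module.Finite.fg_top : (⊤ : Submodule C₀ (KaehlerDifferential B₀ C₀)).FG)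
  obtain ⟨i₂, hu⟩ := H.exists_unrCond A₀ B₀ C₀ s inferInstance
  obtain ⟨j, φ₁, φ₂, _, _⟩ := H.dir i₁ i₂
  have hsm : Algebra.FormallySmooth (B₀ ⊗[A₀] G j) ((B₀ ⊗[A₀] G j) ⊗[B₀] C₀) :=
    formallySmooth_of_FS A₀ B₀ C₀ fp S (G j) hfp hS _ (h1'.map A₀ B₀ C₀ fp φ₁)
      (h2'.map A₀ B₀ C₀ fp S φ₁)
  have hun : Algebra.FormallyUnramified (B₀ ⊗[A₀] G j) ((B₀ ⊗[A₀] G j) ⊗[B₀] C₀) :=
    formallyUnramified_of_unrCond A₀ B₀ C₀ s hs (G j) (hu.map φ₂)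
  exact ⟨j, { formallyEtale := Algebra.FormallyEtale.of_formallyUnramified_and_formallySmooth
              finitePresentation := inferInstance }⟩

end Final

end Groth.Agent.Lead.ColimDescent
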