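import Mathlib
import Groth.Prelude.Def_Wider
import Groth.Prelude.Def_CAlg
import Groth.Prelude.Def_EGA4b
import Groth.Agent.H56.DerCat

/-!
# (T0) for helper29's S18719 squad: the truncation triangle `K[n] → ω → τ_{>-n} ω`.
-/

set_option autoImplicit false
universe u
open CategoryTheory CategoryTheory.Limits DerivedCategory Pretriangulated
attribute [local instance] HasDerivedCategory.standard

namespace Groth.Agent.Lead.DKS_T0

open DerivedCategory.TStructure

theorem exists_triangle (A : Type u) [CommRing A] (ω : Dual.D A) (n b : ℤ)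
    (hlow : ∀ i : ℤ, i < -n → Subsingleton (Dual.HD A ω i))
    (hhigh : ∀ i : ℤ, b < i → Subsingleton (Dual.HD A ω i)) :
    ∃ (C : Dual.D A) (t : (Dual.inD A (Dual.HD A ω (-n)))⟦n⟧ ⟶ ω) (g : ω ⟶ C)
      (h : C ⟶ ((Dual.inD A (Dual.HD A ω (-n)))⟦n⟧)⟦(1 : ℤ)⟧),
      Triangle.mk t g h ∈ distTriang (Dual.D A) ∧ C.IsGE (-n + 1) ∧ C.IsLE b ∧
        ∀ i : ℤ, -n < i → Nonempty (Dual.HD A C i ≃ₗ[A] Dual.HD A ω i) := by
  set c : ℤ := -n + 1 with hc
  have hT := DerivedCategory.TStructure.t.triangleLTGE_distinguished c ω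
  set Z : Dual.D A := (DerivedCategory.TStructure.t.truncLT c).obj ω with hZ
  set C : Dual.D A := (DerivedCategory.TStructure.t.truncGE c).obj ω with hC
  have hZle : Z.IsLE (-n) := by
    have : Z.IsLE (c - 1) := inferInstance
    have h1 : c - 1 = -n := by omega
    rwa [h1] at this
  have hZge : Z.IsGE (-n) := by
    rw [DerivedCategory.isGE_iff]
    intro i hi
    haveI := Groth.Agent.H56.isIso_homologyMap_truncLTι ω c i (by omega)
    have e := asIso ((homologyFunctor (ModuleCat.{u} A) i).map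
      ((DerivedCategory.TStructure.t.truncLTι c).app ω))
    have hs : Subsingleton ((homologyFunctor (ModuleCat.{u} A) i).obj ω) := hlow i hi
    exact (@ModuleCat.isZero_of_subsingleton _ _ ((homologyFunctor (ModuleCat.{u} A) i).obj ω) hs).of_iso e
  obtain ⟨e0⟩ := Groth.Agent.H56.nonempty_iso_single Z (-n)
  haveI := Groth.Agent.H56.isIso_homologyMap_truncLTι ω c (-n) (by omega)
  let e1 : (homologyFunctor (ModuleCat.{u} A) (-n)).obj Z ≅
      (homologyFunctor (ModuleCat.{u} A) (-n)).obj ω :=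
    asIso ((homologyFunctor (ModuleCat.{u} A) (-n)).map
      ((DerivedCategory.TStructure.t.truncLTι c).app ω))
  let e2 : ModuleCat.of A (Dual.HD A ω (-n)) ≅ (homologyFunctor (ModuleCat.{u} A) (-n)).obj ω :=
    Iso.refl _
  let e3 : ((singleFunctor (ModuleCat.{u} A) 0).obj (ModuleCat.of A (Dual.HD A ω (-n))))⟦n⟧ ≅
      (singleFunctor (ModuleCat.{u} A) (-n)).obj (ModuleCat.of A (Dual.HD A ω (-n))) :=
    ((singleFunctors (ModuleCat.{u} A)).shiftIso n (-n) 0 (by omega)).app _
  let e : (Dual.inD A (Dual.HD A ω (-n)))⟦n⟧ ≅ Z :=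
    e3 ≪≫ (singleFunctor (ModuleCat.{u} A) (-n)).mapIso (e2 ≪≫ e1.symm) ≪≫ e0.symm
  refine ⟨C, e.hom ≫ (DerivedCategory.TStructure.t.truncLTι c).app ω,
    (DerivedCategory.TStructure.t.truncGEπ c).app ω,
    (DerivedCategory.TStructure.t.truncGEδLT c).app ω ≫ e.inv⟦(1 : ℤ)⟧', ?_, ?_, ?_, ?_⟩
  · refine isomorphic_distinguished _ hT _ ?_
    refine Triangle.isoMk _ _ e (Iso.refl _) (Iso.refl _) ?_ ?_ ?_
    · exact Category.comp_id _
    · exact (Category.comp_id _).trans (Category.id_comp _).symm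
    · change ((DerivedCategory.TStructure.t.truncGEδLT c).app ω ≫ e.inv⟦(1 : ℤ)⟧') ≫ e.hom⟦(1 : ℤ)⟧' =
        𝟙 _ ≫ (DerivedCategory.TStructure.t.truncGEδLT c).app ω
      rw [Category.assoc, ← Functor.map_comp, Iso.inv_hom_id, CategoryTheory.Functor.map_id]
      exact (Category.comp_id _).trans (Category.id_comp _).symm
  · infer_instance
  · rw [DerivedCategory.isLE_iff]
    intro i hi
    by_cases hic : c ≤ i
    · haveI := Groth.Agent.H56.isIso_homologyMap_truncGEπ ω c i hic
      have e' := asIso ((homologyFunctor (ModuleCat.{u} A) i).map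
        ((DerivedCategory.TStructure.t.truncGEπ c).app ω))
      have hs : Subsingleton ((homologyFunctor (ModuleCat.{u} A) i).obj ω) := hhigh i hi
      exact (@ModuleCat.isZero_of_subsingleton _ _ ((homologyFunctor (ModuleCat.{u} A) i).obj ω) hs).of_iso e'.symm
    · exact DerivedCategory.isZero_of_isGE C c i (by omega)
  · intro i hi
    haveI := Groth.Agent.H56.isIso_homologyMap_truncGEπ ω c i (by omega)
    exact ⟨(asIso ((homologyFunctor (ModuleCat.{u} A) i).map
      ((DerivedCategory.TStructure.t.truncGEπ c).app ω))).symm.toLinearEquiv⟩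

end Groth.Agent.Lead.DKS_T0
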