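import Mathlib

/-!
# Factoring through a surjective morphism with `O_Y = F_* O_W` (EGA II 8.11.1)

Lemma-provider file for helper63 (S17473, S14579).
-/

universe u

open CategoryTheory CategoryTheory.Limits AlgebraicGeometry TopologicalSpace Opposite

namespace Groth.Agent.Lead.FactorThrough

/-- A morphism out of `Y` is determined by its composite with a surjective `F : W ⟶ Y`
whose structure maps `F.app U` are all injective. -/
theorem eq_of_comp_eq {W Y Z : Scheme.{u}} (F : W ⟶ Y) [Surjective F]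
    (hF : ∀ U : Y.Opens, Function.Injective (F.app U)) (ψ₁ ψ₂ : Y ⟶ Z)
    (h : F ≫ ψ₁ = F ≫ ψ₂) : ψ₁ = ψ₂ := by
  have hbase : ψ₁.base = ψ₂.base := by
    have hsurj : Function.Surjective F.base := F.surjective
    have : Epi F.base := (TopCat.epi_iff_surjective _).mpr hsurj
    rw [← cancel_epi F.base]
    have := congr(($h).base)
    simpa using this
  refine Scheme.Hom.ext hbase fun U => ?_
  have e := Scheme.Hom.congr_app h U
  rw [Scheme.Hom.comp_app, Scheme.Hom.comp_app] at e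
  have hmono : Mono (F.app (ψ₂ ⁻¹ᵁ U)) :=
    ConcreteCategory.mono_of_injective _ (hF _)
  rw [← cancel_mono (F.app (ψ₂ ⁻¹ᵁ U))]
  rw [Category.assoc, Scheme.Hom.naturality, reassoc_of% e]
  have key : ∀ {A B C : W.Opens} (k₁ : op A ⟶ op B) (k₂ : op B ⟶ op C) (hAC : A = C)
      (g : Γ(Z, U) ⟶ Γ(W, A)) (g' : Γ(Z, U) ⟶ Γ(W, C)), g = g' ≫ eqToHom (by rw [hAC]) →
      (g ≫ W.presheaf.map k₁) ≫ W.presheaf.map k₂ = g' := by
    intro A B C k₁ k₂ hAC g g' hg
    subst hAC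
    rw [Category.assoc, ← Functor.map_comp, Subsingleton.elim (k₁ ≫ k₂) (𝟙 _),
      CategoryTheory.Functor.map_id, Category.comp_id, hg]
    simp
  exact key _ _ rfl _ _ (by simp)

/-- Key identity for the base change `F' = pullback.snd F j` of `F` along an open immersion
`j : T ⟶ Y`: on `V ≤ range j`, `F'.app (j ⁻¹ᵁ V)` is `F.app V` up to isomorphisms. -/
theorem app_pullback_snd_aux {W Y T : Scheme.{u}} (F : W ⟶ Y) (j : T ⟶ Y) [IsOpenImmersion j]
    (V : Y.Opens) (hV : V ≤ j.opensRange) :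
    ∃ (a : Γ(T, j ⁻¹ᵁ V) ⟶ Γ(Y, V)) (b : Γ(W, F ⁻¹ᵁ V) ⟶
      Γ(pullback F j, (pullback.snd F j) ⁻¹ᵁ (j ⁻¹ᵁ V))), IsIso a ∧ IsIso b ∧
      (pullback.snd F j).app (j ⁻¹ᵁ V) = a ≫ F.app V ≫ b := by
  have hiso1 : IsIso (j.app V) := j.isIso_app V hV
  have hiso2 : IsIso ((pullback.fst F j).app (F ⁻¹ᵁ V)) := by
    apply (pullback.fst F j).isIso_app
    rw [Scheme.Hom.opensRange_pullbackFst]
    exact fun x hx => hV hx
  have e := Scheme.Hom.congr_app (pullback.condition (f := F) (g := j)) V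
  rw [Scheme.Hom.comp_app, Scheme.Hom.comp_app] at e
  have hEq : (pullback.fst F j) ⁻¹ᵁ (F ⁻¹ᵁ V) = (pullback.snd F j) ⁻¹ᵁ (j ⁻¹ᵁ V) := by
    rw [← Scheme.Hom.comp_preimage, ← Scheme.Hom.comp_preimage, pullback.condition]
  refine ⟨inv (j.app V), (pullback.fst F j).app (F ⁻¹ᵁ V) ≫
    inv ((pullback F j).presheaf.map (eqToHom hEq).op), inferInstance, inferInstance, ?_⟩
  rw [IsIso.eq_inv_comp, ← Category.assoc, IsIso.eq_comp_inv, Category.assoc]
  exact e.symm

theorem injective_app_pullback_snd {W Y T : Scheme.{u}} (F : W ⟶ Y) (j : T ⟶ Y)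
    [IsOpenImmersion j] (hF : ∀ U : Y.Opens, Function.Injective (F.app U)) (U : T.Opens) :
    Function.Injective ((pullback.snd F j).app U) := by
  obtain ⟨V, hV, rfl⟩ : ∃ V : Y.Opens, V ≤ j.opensRange ∧ U = j ⁻¹ᵁ V :=
    ⟨j ''ᵁ U, j.image_le_opensRange U, (j.preimage_image_eq U).symm⟩
  obtain ⟨a, b, ha, hb, hab⟩ := app_pullback_snd_aux F j V hV
  rw [hab]
  simp only [CommRingCat.hom_comp, RingHom.coe_comp]
  exact (Function.Injective.comp ((ConcreteCategory.isIso_iff_bijective b).mp hb).1 (hF V)).comp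
    ((ConcreteCategory.isIso_iff_bijective a).mp ha).1

theorem isIso_app_pullback_snd {W Y T : Scheme.{u}} (F : W ⟶ Y) (j : T ⟶ Y)
    [IsOpenImmersion j] (hF : ∀ U : Y.Opens, IsIso (F.app U)) (U : T.Opens) :
    IsIso ((pullback.snd F j).app U) := by
  obtain ⟨V, hV, rfl⟩ : ∃ V : Y.Opens, V ≤ j.opensRange ∧ U = j ⁻¹ᵁ V :=
    ⟨j ''ᵁ U, j.image_le_opensRange U, (j.preimage_image_eq U).symm⟩
  obtain ⟨a, b, ha, hb, hab⟩ := app_pullback_snd_aux F j V hV
  rw [hab]
  have := hF V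
  infer_instance

/-- Uniqueness after base change to an open subscheme. -/
theorem eq_of_comp_eq_of_isOpenImmersion {W Y Z T : Scheme.{u}} (F : W ⟶ Y) [Surjective F]
    (hF : ∀ U : Y.Opens, Function.Injective (F.app U)) (j : T ⟶ Y) [IsOpenImmersion j]
    (ψ₁ ψ₂ : T ⟶ Z) (h : pullback.snd F j ≫ ψ₁ = pullback.snd F j ≫ ψ₂) : ψ₁ = ψ₂ :=
  eq_of_comp_eq (pullback.snd F j) (injective_app_pullback_snd F j hF) ψ₁ ψ₂ h

/-- The affine case: no hypothesis on fibres is needed. -/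
theorem exists_fac_of_isAffine {W Y Z : Scheme.{u}} [IsAffine Z] (F : W ⟶ Y)
    [IsIso F.appTop] (φ : W ⟶ Z) : ∃ ψ : Y ⟶ Z, F ≫ ψ = φ := by
  refine ⟨Y.toSpecΓ ≫ Spec.map (φ.appTop ≫ inv F.appTop) ≫ Z.isoSpec.inv, ?_⟩
  rw [Scheme.toSpecΓ_naturality_assoc, ← Spec.map_comp_assoc, Category.assoc,
    IsIso.inv_hom_id, Category.comp_id, ← Scheme.toSpecΓ_naturality_assoc]
  simp [← Scheme.isoSpec_hom]

/-- EGA II 8.11.1: a morphism `φ : W ⟶ Z` which is constant on the fibres of a closed surjective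
`F : W ⟶ Y` with `O_Y ≅ F_* O_W` factors through `F`. -/
theorem exists_fac {W Y Z : Scheme.{u}} (F : W ⟶ Y) [Surjective F] (hcl : IsClosedMap F.base)
    (hF : ∀ U : Y.Opens, IsIso (F.app U)) (φ : W ⟶ Z)
    (hφ : ∀ p q : W, F.base p = F.base q → φ.base p = φ.base q) :
    ∃ ψ : Y ⟶ Z, F ≫ ψ = φ := by
  classical
  have hFinj : ∀ U : Y.Opens, Function.Injective (F.app U) := fun U =>
    ((ConcreteCategory.isIso_iff_bijective _).mp (hF U)).1
  let U : Z.affineOpens → Y.Opens := fun V =>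
    ⟨(F.base '' ((φ ⁻¹ᵁ V.1 : W.Opens) : Set W)ᶜ)ᶜ,
      (hcl _ (φ ⁻¹ᵁ V.1).isOpen.isClosed_compl).isOpen_compl⟩
  have hmemU : ∀ (V : Z.affineOpens) (w : W), F.base w ∈ U V ↔ φ.base w ∈ V.1 := by
    intro V w
    constructor
    · intro hw
      by_contra hn
      exact hw ⟨w, hn, rfl⟩
    · rintro hw ⟨w', hw', hww'⟩
      exact hw' (by
        show φ.base w' ∈ V.1
        rw [hφ w' w hww']
        exact hw)
  have hcov : IsOpenCover U := by
    rw [IsOpenCover, eq_top_iff]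
    intro y _
    obtain ⟨w, rfl⟩ := F.surjective y
    obtain ⟨_, ⟨V, hV, rfl⟩, hwV, -⟩ :=
      (Z.isBasis_affineOpens).exists_subset_of_mem_open (Set.mem_univ (φ.base w)) isOpen_univ
    exact Opens.mem_iSup.mpr ⟨⟨V, hV⟩, (hmemU ⟨V, hV⟩ w).mpr hwV⟩
  -- local solutions
  have hloc : ∀ V : Z.affineOpens, ∃ ψV : (U V).toScheme ⟶ Z,
      pullback.snd F (U V).ι ≫ ψV = pullback.fst F (U V).ι ≫ φ := by
    intro V
    have hrange : Set.range (pullback.fst F (U V).ι ≫ φ).base ⊆ Set.range V.1.ι.base := by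
      rintro _ ⟨p, rfl⟩
      have hp : F.base ((pullback.fst F (U V).ι).base p) ∈ U V := by
        have := congr(($(pullback.condition (f := F) (g := (U V).ι))).base p)
        simp only [Scheme.Hom.comp_base, TopCat.comp_app] at this
        rw [this]
        exact ((pullback.snd F (U V).ι).base p).2
      rw [hmemU] at hp
      simpa using hp
    let φV : pullback F (U V).ι ⟶ V.1.toScheme :=
      IsOpenImmersion.lift V.1.ι (pullback.fst F (U V).ι ≫ φ) hrange
    have : IsAffine V.1.toScheme := V.2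
    have : IsIso (pullback.snd F (U V).ι).appTop := isIso_app_pullback_snd F _ hF ⊤
    obtain ⟨ψ', hψ'⟩ := exists_fac_of_isAffine (pullback.snd F (U V).ι) φV
    exact ⟨ψ' ≫ V.1.ι, by rw [← Category.assoc, hψ', IsOpenImmersion.lift_fac]⟩
  choose ψ hψ using hloc
  have claim : ∀ (V : Z.affineOpens) {T : Scheme.{u}} (j : T ⟶ Y) (g : T ⟶ (U V).toScheme)
      (_ : g ≫ (U V).ι = j), pullback.snd F j ≫ g ≫ ψ V = pullback.fst F j ≫ φ := by
    intro V T j g hg
    have h1 : pullback.snd F j ≫ g = pullback.lift (pullback.fst F j) (pullback.snd F j ≫ g)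
        (by rw [Category.assoc, hg, pullback.condition]) ≫ pullback.snd F (U V).ι :=
      (pullback.lift_snd _ _ _).symm
    rw [← Category.assoc, h1, Category.assoc, hψ, pullback.lift_fst_assoc]
  have compat : ∀ V V' : Z.affineOpens,
      pullback.fst (U V).ι (U V').ι ≫ ψ V = pullback.snd (U V).ι (U V').ι ≫ ψ V' := by
    intro V V'
    refine eq_of_comp_eq_of_isOpenImmersion F hFinj
      (pullback.fst (U V).ι (U V').ι ≫ (U V).ι) _ _ ?_
    rw [claim V _ (pullback.fst (U V).ι (U V').ι) rfl,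
      claim V' _ (pullback.snd (U V).ι (U V').ι) pullback.condition.symm]
  let 𝒰 : Y.OpenCover := Y.openCoverOfIsOpenCover U hcov
  refine ⟨𝒰.glueMorphisms ψ compat, ?_⟩
  refine Scheme.Cover.hom_ext (𝒰.pullback₁ F) _ _ fun (V : Z.affineOpens) => ?_
  show pullback.fst F (U V).ι ≫ F ≫ _ = pullback.fst F (U V).ι ≫ φ
  rw [pullback.condition_assoc]
  have := Scheme.Cover.ι_glueMorphisms 𝒰 ψ compat V
  change (U V).ι ≫ _ = _ at this
  rw [this]
  exact hψ V

end Groth.Agent.Lead.FactorThrough
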