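import Mathlib
import Groth.Agent.S0274
import Groth.Agent.S6893
import Groth.Agent.H57.SepCrit
import Groth.Agent.H57.NilDescent

/-! Descent of flatness along a finite injective map of Noetherian rings (lead). -/

set_option autoImplicit false

universe u

open TensorProduct LinearMap

namespace Groth.Agent.Lead.FiniteInjFlat

/-- A finite module over a domain is sandwiched by a free module up to a nonzero scalar. -/
theorem exists_alpha_beta (R S : Type u) [CommRing R] [IsDomain R] [AddCommGroup S] [Module R S]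
    [Module.Finite R S] :
    ∃ (ι : Type u) (α : S →ₗ[R] (ι →₀ R)) (β : (ι →₀ R) →ₗ[R] S) (f : R),
      f ≠ 0 ∧ ∀ s, β (α s) = f • s := by
  classical
  obtain ⟨s, hs, hmax⟩ := exists_maximal_linearIndepOn R (id : S → S)
  have hli : LinearIndependent R (Subtype.val : s → S) := hs
  have hβinj : Function.Injective (Finsupp.linearCombination R (Subtype.val : s → S)) := hli
  have hrange : LinearMap.range (Finsupp.linearCombination R (Subtype.val : s → S)) =
      Submodule.span R s := by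
    rw [Finsupp.range_linearCombination, Subtype.range_coe]
  have htor : ∀ x : S, ∃ a : R, a ≠ 0 ∧ a • x ∈ Submodule.span R s := by
    intro x
    by_cases hx : x ∈ s
    · exact ⟨1, one_ne_zero, by rw [one_smul]; exact Submodule.subset_span hx⟩
    · obtain ⟨a, ha, h⟩ := hmax x hx
      exact ⟨a, ha, by simpa using h⟩
  obtain ⟨G, hG⟩ := Module.finite_def.1 (inferInstance : Module.Finite R S)
  choose a ha hmem using htor
  have hf : (∏ g ∈ G, a g) ≠ 0 := Finset.prod_ne_zero_iff.2 (fun g _ => ha g)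
  have hfmem : ∀ x : S, (∏ g ∈ G, a g) • x ∈ Submodule.span R s := by
    intro x
    have hx : x ∈ Submodule.span R (G : Set S) := by rw [hG]; trivial
    induction hx using Submodule.span_induction with
    | mem g hg =>
      rw [← Finset.prod_erase_mul G a hg, mul_smul]
      exact Submodule.smul_mem _ _ (hmem g)
    | zero => rw [smul_zero]; exact Submodule.zero_mem _
    | add x y _ _ hx hy => rw [smul_add]; exact Submodule.add_mem _ hx hy
    | smul r x _ hx => rw [smul_comm]; exact Submodule.smul_mem _ _ hx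
  have hcod : ∀ x : S, ((∏ g ∈ G, a g) • (LinearMap.id : S →ₗ[R] S)) x ∈
      LinearMap.range (Finsupp.linearCombination R (Subtype.val : s → S)) := by
    intro x
    rw [hrange]
    exact hfmem x
  refine ⟨s, (LinearEquiv.ofInjective _ hβinj).symm.toLinearMap ∘ₗ
    (LinearMap.codRestrict _ _ hcod), Finsupp.linearCombination R (Subtype.val : s → S),
    ∏ g ∈ G, a g, hf, fun x => ?_⟩
  have key : ∀ y : LinearMap.range (Finsupp.linearCombination R (Subtype.val : s → S)),
      Finsupp.linearCombination R (Subtype.val : s → S)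
        ((LinearEquiv.ofInjective _ hβinj).symm y) = y.1 := fun y =>
    congrArg Subtype.val ((LinearEquiv.ofInjective _ hβinj).apply_symm_apply y)
  rw [LinearMap.comp_apply, LinearEquiv.coe_coe, key]
  rfl

section

variable {R S : Type u} [CommRing R] [CommRing S] [Algebra R S]
  {ι : Type u} (α : S →ₗ[R] (ι →₀ R)) (β : (ι →₀ R) →ₗ[R] S) (f : R)
  (hβα : ∀ s, β (α s) = f • s)

include hβα in
theorem smul_eq_zero_of_mem_ker (𝔞 : Ideal R) (l : S ⊗[R] 𝔞)
    (hl : LinearMap.baseChange S 𝔞.subtype l = 0) : f • l = 0 := by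
  have hl' : LinearMap.lTensor S 𝔞.subtype l = 0 := hl
  have key : ∀ l : S ⊗[R] 𝔞, lTensor (ι →₀ R) 𝔞.subtype (rTensor 𝔞 α l) =
      rTensor R α (lTensor S 𝔞.subtype l) := by
    intro l
    induction l using TensorProduct.induction_on with
    | zero => simp
    | tmul s a => simp
    | add x y hx hy => simp only [map_add, hx, hy]
  have hinj : Function.Injective (lTensor (ι →₀ R) 𝔞.subtype) :=
    Module.Flat.lTensor_preserves_injective_linearMap _ (Submodule.injective_subtype _)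
  have h2 : rTensor 𝔞 α l = 0 := hinj (by rw [key, hl', map_zero, map_zero])
  have h3 : ∀ l : S ⊗[R] 𝔞, rTensor 𝔞 β (rTensor 𝔞 α l) = f • l := by
    intro l
    induction l using TensorProduct.induction_on with
    | zero => simp
    | tmul s a => simp [hβα, TensorProduct.smul_tmul']
    | add x y hx hy => simp only [map_add, hx, hy, smul_add]
  rw [← h3, h2, map_zero]

include hβα in
theorem exists_sigma (hinj : Function.Injective (algebraMap R S)) (hf : f ≠ 0) :
    ∃ σ : S →ₗ[R] R, σ 1 ≠ 0 := by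
  have h1 : α 1 ≠ 0 := by
    intro h0
    have h := hβα 1
    rw [h0, map_zero] at h
    apply hf
    apply hinj
    rw [map_zero, Algebra.algebraMap_eq_smul_one]
    exact h.symm
  obtain ⟨j, hj⟩ := Finsupp.ne_iff.1 h1
  exact ⟨Finsupp.lapply j ∘ₗ α, by simpa using hj⟩

include hβα in
theorem kill_T {M : Type u} [AddCommGroup M] [Module R M] [Module.Flat S (S ⊗[R] M)]
    (σ : S →ₗ[R] R) (𝔞 : Ideal R) (x : 𝔞 ⊗[R] M)
    (hx : rTensor M 𝔞.subtype x = 0) : (σ 1 * f) • x = 0 := by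
  have h2 : ∀ y : 𝔞 ⊗[R] M,
      rTensor M ((LinearMap.baseChange S 𝔞.subtype).restrictScalars R)
        (rTensor M (TensorProduct.mk R S 𝔞 1) y) =
      rTensor M (TensorProduct.mk R S R 1) (rTensor M 𝔞.subtype y) := by
    intro y
    induction y using TensorProduct.induction_on with
    | zero => simp
    | tmul i m => simp
    | add a b ha hb => simp only [map_add, ha, hb]
  have hker : rTensor M ((LinearMap.baseChange S 𝔞.subtype).restrictScalars R)
      (rTensor M (TensorProduct.mk R S 𝔞 1) x) = 0 := by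
    rw [h2, hx, map_zero]
  obtain ⟨w, hw⟩ := Groth.Agent.S0274.ker_le_range R S M (LinearMap.baseChange S 𝔞.subtype) _ hker
  have hfw : ∀ w : (LinearMap.ker (LinearMap.baseChange S 𝔞.subtype)) ⊗[R] M, f • w = 0 := by
    intro w
    induction w using TensorProduct.induction_on with
    | zero => simp
    | tmul l m =>
      have hl0 : f • l = 0 :=
        Subtype.ext (smul_eq_zero_of_mem_ker α β f hβα 𝔞 l.1 (LinearMap.mem_ker.1 l.2))
      rw [TensorProduct.smul_tmul', hl0, TensorProduct.zero_tmul]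
    | add a b ha hb => rw [smul_add, ha, hb, add_zero]
  have hfx : f • rTensor M (TensorProduct.mk R S 𝔞 1) x = 0 := by
    rw [← hw, ← map_smul, hfw, map_zero]
  have hτ : ∀ y : 𝔞 ⊗[R] M,
      rTensor M ((TensorProduct.lid R 𝔞).toLinearMap ∘ₗ rTensor 𝔞 σ)
        (rTensor M (TensorProduct.mk R S 𝔞 1) y) = σ 1 • y := by
    intro y
    induction y using TensorProduct.induction_on with
    | zero => simp
    | tmul a m => simp [TensorProduct.smul_tmul']
    | add a b ha hb => simp only [map_add, ha, hb, smul_add]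
  have h4 := congrArg (rTensor M ((TensorProduct.lid R 𝔞).toLinearMap ∘ₗ rTensor 𝔞 σ)) hfx
  rw [map_smul, hτ, map_zero, smul_smul, mul_comm] at h4
  exact h4

end

theorem exists_lift_ker {R : Type u} [CommRing R] (M : Type u) [AddCommGroup M] [Module R M]
    (K : Ideal R) [Module.Flat (R ⧸ K) ((R ⧸ K) ⊗[R] M)]
    {V W₁ : Type u} [AddCommGroup V] [Module R V] [AddCommGroup W₁] [Module R W₁]
    (g : V →ₗ[R] W₁) (h1 : Module.IsTorsionBySet R W₁ (K : Set R))
    (x : V ⊗[R] M) (hgx : rTensor M g x = 0) :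
    ∃ y : (LinearMap.ker g.rangeRestrict) ⊗[R] M,
      rTensor M (LinearMap.ker g.rangeRestrict).subtype y = x := by
  have hr_tors : Module.IsTorsionBySet R (LinearMap.range g) (K : Set R) := by
    intro w a
    apply Subtype.ext
    exact h1 (x := w.1) (a := a)
  have hinj1 : Function.Injective (rTensor M (LinearMap.range g).subtype) :=
    Groth.Agent.H57.rTensor_injective_of_torsion (M := M) K hr_tors h1 _
      (Submodule.injective_subtype _)
  have hq : rTensor M g.rangeRestrict x = 0 := by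
    apply hinj1
    rw [map_zero, ← LinearMap.rTensor_comp_apply]
    exact hgx
  have hex : Function.Exact (rTensor M (LinearMap.ker g.rangeRestrict).subtype)
      (rTensor M g.rangeRestrict) :=
    rTensor_exact M (LinearMap.exact_subtype_ker_map _) (LinearMap.surjective_rangeRestrict g)
  exact (hex x).1 hq

theorem div_T {R S : Type u} [CommRing R] [IsDomain R] [IsNoetherianRing R] [CommRing S]
    [Algebra R S] {M : Type u} [AddCommGroup M] [Module R M]
    (σ : S →ₗ[R] R) (f : R) (hg : σ 1 ≠ 0)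
    (hP : ∀ n : ℕ, Module.Flat
      (R ⧸ Ideal.comap (algebraMap R S) (Ideal.span {algebraMap R S ((σ 1 * f) ^ n)}))
      ((R ⧸ Ideal.comap (algebraMap R S) (Ideal.span {algebraMap R S ((σ 1 * f) ^ n)})) ⊗[R] M))
    (𝔞 : Ideal R) (x : 𝔞 ⊗[R] M) (hx : rTensor M 𝔞.subtype x = 0) :
    ∃ y : 𝔞 ⊗[R] M, x = (σ 1 * f) • y := by
  classical
  have hK : ∀ k : ℕ, ∀ r ∈ Ideal.comap (algebraMap R S)
      (Ideal.span {algebraMap R S ((σ 1 * f) ^ (k + 1))}), ∃ t, r = (σ 1 * f) ^ k * t := by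
    intro k r hr
    rw [Ideal.mem_comap, Ideal.mem_span_singleton'] at hr
    obtain ⟨a, ha⟩ := hr
    have h1 : σ (algebraMap R S r) = r * σ 1 := by
      rw [Algebra.algebraMap_eq_smul_one, map_smul, smul_eq_mul]
    have h2 : σ (a * algebraMap R S ((σ 1 * f) ^ (k + 1))) = (σ 1 * f) ^ (k + 1) * σ a := by
      rw [mul_comm, ← Algebra.smul_def, map_smul, smul_eq_mul]
    rw [← ha, h2] at h1
    refine ⟨f * σ a, mul_right_cancel₀ hg ?_⟩
    rw [← h1, pow_succ]
    ring
  obtain ⟨c, hc⟩ := Ideal.exists_pow_inf_eq_pow_smul (Ideal.span {σ 1 * f}) (𝔞 : Submodule R R)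
  have hAR : ∀ a ∈ 𝔞, (∃ t, a = (σ 1 * f) ^ (c + 1) * t) → ∃ a' ∈ 𝔞, a = (σ 1 * f) * a' := by
    rintro a ha ⟨t, rfl⟩
    have hmem : (σ 1 * f) ^ (c + 1) * t ∈
        (Ideal.span {σ 1 * f}) ^ (c + 1) • (⊤ : Submodule R R) ⊓ (𝔞 : Submodule R R) :=
      Submodule.mem_inf.2 ⟨Submodule.smul_mem_smul
        (Ideal.pow_mem_pow (Ideal.mem_span_singleton_self _) _) Submodule.mem_top, ha⟩
    rw [hc (c + 1) (Nat.le_succ c), Nat.add_sub_cancel_left, pow_one] at hmem
    refine Submodule.smul_induction_on hmem ?_ ?_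
    · intro r hr n hn
      obtain ⟨u, rfl⟩ := Ideal.mem_span_singleton'.1 hr
      exact ⟨u * n, 𝔞.mul_mem_left u (Submodule.mem_inf.1 hn).2, by rw [smul_eq_mul]; ring⟩
    · rintro _ _ ⟨a₁, ha₁, rfl⟩ ⟨a₂, ha₂, rfl⟩
      exact ⟨a₁ + a₂, 𝔞.add_mem ha₁ ha₂, by ring⟩
  haveI := hP (c + 1 + 1)
  have hgx : rTensor M ((Ideal.Quotient.mkₐ R (Ideal.comap (algebraMap R S)
      (Ideal.span {algebraMap R S ((σ 1 * f) ^ (c + 1 + 1))}))).toLinearMap ∘ₗ 𝔞.subtype) x = 0 := by
    rw [LinearMap.rTensor_comp_apply, hx, map_zero]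
  obtain ⟨y, hy⟩ := exists_lift_ker M _ _ (Groth.Agent.S6893.tors_quot _) x hgx
  have hv : ∀ v : LinearMap.ker ((Ideal.Quotient.mkₐ R (Ideal.comap (algebraMap R S)
      (Ideal.span {algebraMap R S ((σ 1 * f) ^ (c + 1 + 1))}))).toLinearMap ∘ₗ
        𝔞.subtype).rangeRestrict, ∃ a' : 𝔞, (v.1 : 𝔞) = (σ 1 * f) • a' := by
    intro v
    have h0 : Ideal.Quotient.mk (Ideal.comap (algebraMap R S)
        (Ideal.span {algebraMap R S ((σ 1 * f) ^ (c + 1 + 1))})) ((v.1 : 𝔞) : R) = 0 :=
      congrArg Subtype.val (LinearMap.mem_ker.1 v.2)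
    have h1 := Ideal.Quotient.eq_zero_iff_mem.1 h0
    obtain ⟨t, ht⟩ := hK (c + 1) _ h1
    obtain ⟨a', ha', ha''⟩ := hAR _ v.1.2 ⟨t, ht⟩
    exact ⟨⟨a', ha'⟩, Subtype.ext ha''⟩
  have key : ∀ y : (LinearMap.ker ((Ideal.Quotient.mkₐ R (Ideal.comap (algebraMap R S)
      (Ideal.span {algebraMap R S ((σ 1 * f) ^ (c + 1 + 1))}))).toLinearMap ∘ₗ
        𝔞.subtype).rangeRestrict) ⊗[R] M,
      ∃ y' : 𝔞 ⊗[R] M, rTensor M (LinearMap.ker ((Ideal.Quotient.mkₐ R (Ideal.comap
        (algebraMap R S) (Ideal.span {algebraMap R S ((σ 1 * f) ^ (c + 1 + 1))}))).toLinearMap ∘ₗ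
          𝔞.subtype).rangeRestrict).subtype y = (σ 1 * f) • y' := by
    intro y
    induction y using TensorProduct.induction_on with
    | zero => exact ⟨0, by simp⟩
    | tmul v m =>
      obtain ⟨a', ha'⟩ := hv v
      refine ⟨a' ⊗ₜ[R] m, ?_⟩
      rw [LinearMap.rTensor_tmul, Submodule.subtype_apply, ha', TensorProduct.smul_tmul']
    | add y₁ y₂ h₁ h₂ =>
      obtain ⟨y₁', e₁⟩ := h₁
      obtain ⟨y₂', e₂⟩ := h₂
      exact ⟨y₁' + y₂', by rw [map_add, e₁, e₂, smul_add]⟩
  obtain ⟨y', hy'⟩ := key y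
  exact ⟨y', by rw [← hy, hy']⟩

/-- `M ≃ (r) ⊗ M` for a nonzero element `r` of a domain. -/
noncomputable def theta {R : Type u} [CommRing R] [IsDomain R] (M : Type u) [AddCommGroup M]
    [Module R M] (r : R) (hr : r ≠ 0) :
    M ≃ₗ[R] (Submodule.span R {r} : Submodule R R) ⊗[R] M :=
  (TensorProduct.lid R M).symm.trans
    (LinearEquiv.rTensor M (LinearEquiv.toSpanNonzeroSingleton R R r hr))

theorem lid_rTensor_theta {R : Type u} [CommRing R] [IsDomain R] (M : Type u) [AddCommGroup M]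
    [Module R M] (r : R) (hr : r ≠ 0) (m : M) :
    TensorProduct.lid R M (rTensor M (Submodule.span R {r} : Submodule R R).subtype
      (theta M r hr m)) = r • m := by
  simp [theta]

theorem torsion_free {R : Type u} [CommRing R] [IsDomain R] {M : Type u} [AddCommGroup M]
    [Module R M] (h : R) (hh : h ≠ 0)
    (hkill : ∀ (𝔞 : Ideal R) (x : 𝔞 ⊗[R] M), rTensor M 𝔞.subtype x = 0 → h • x = 0)
    (hdiv : ∀ (𝔞 : Ideal R) (x : 𝔞 ⊗[R] M), rTensor M 𝔞.subtype x = 0 →
      ∃ y : 𝔞 ⊗[R] M, x = h • y)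
    (m : M) (hm : h • m = 0) : m = 0 := by
  have hzero : ∀ (r : R) (hr : r ≠ 0) (m' : M), r • m' = 0 →
      rTensor M (Submodule.span R {r} : Submodule R R).subtype (theta M r hr m') = 0 := by
    intro r hr m' h0
    apply (TensorProduct.lid R M).injective
    rw [lid_rTensor_theta, h0, map_zero]
  have fact1 : ∀ m' : M, (h * h) • m' = 0 → h • m' = 0 := by
    intro m' h0
    have h1 := hkill _ _ (hzero (h * h) (mul_ne_zero hh hh) m' h0)
    rw [← map_smul] at h1
    exact (theta M (h * h) (mul_ne_zero hh hh)).injective (by rw [h1, map_zero])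
  obtain ⟨y, hy⟩ := hdiv _ _ (hzero h hh m hm)
  obtain ⟨m', rfl⟩ := (theta M h hh).surjective y
  rw [← map_smul] at hy
  have hm' : m = h • m' := (theta M h hh).injective hy
  have h2 : (h * h) • m' = 0 := by rw [mul_smul, ← hm', hm]
  rw [hm', fact1 m' h2]

/-- The domain case. -/
theorem flat_of_domain (R S : Type u) [CommRing R] [IsDomain R] [IsNoetherianRing R]
    [CommRing S] [Algebra R S] [Module.Finite R S]
    (hinj : Function.Injective (algebraMap R S)) (M : Type u) [AddCommGroup M] [Module R M]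
    [Module.Flat S (S ⊗[R] M)]
    (H : ∀ J : Ideal R, J.IsRadical → J ≠ ⊥ → Module.Flat (R ⧸ J) ((R ⧸ J) ⊗[R] M)) :
    Module.Flat R M := by
  obtain ⟨ι, α, β, f, hf, hβα⟩ := exists_alpha_beta R S
  obtain ⟨σ, hσ⟩ := exists_sigma α β f hβα hinj hf
  have hh : σ 1 * f ≠ 0 := mul_ne_zero hσ hf
  have hP : ∀ n : ℕ, Module.Flat
      (R ⧸ Ideal.comap (algebraMap R S) (Ideal.span {algebraMap R S ((σ 1 * f) ^ n)}))
      ((R ⧸ Ideal.comap (algebraMap R S) (Ideal.span {algebraMap R S ((σ 1 * f) ^ n)})) ⊗[R]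
        M) := by
    intro n
    have hJne : (Ideal.span {σ 1 * f}).radical ≠ ⊥ := by
      intro hJ
      have h1 : σ 1 * f ∈ (Ideal.span {σ 1 * f}).radical :=
        Ideal.le_radical (Ideal.mem_span_singleton_self _)
      rw [hJ] at h1
      exact hh (Ideal.mem_bot.1 h1)
    haveI := H _ (Ideal.radical_isRadical (Ideal.span {σ 1 * f})) hJne
    obtain ⟨N₀, hN₀⟩ := Ideal.exists_radical_pow_le_of_fg (Ideal.span {σ 1 * f})
      (IsNoetherian.noetherian _)
    have hN : (Ideal.span {σ 1 * f}).radical ^ (N₀ * n) ≤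
        Ideal.comap (algebraMap R S) (Ideal.span {algebraMap R S ((σ 1 * f) ^ n)}) := by
      calc (Ideal.span {σ 1 * f}).radical ^ (N₀ * n)
          = ((Ideal.span {σ 1 * f}).radical ^ N₀) ^ n := pow_mul _ _ _
        _ ≤ (Ideal.span {σ 1 * f}) ^ n := Ideal.pow_right_mono hN₀ n
        _ = Ideal.span {(σ 1 * f) ^ n} := Ideal.span_singleton_pow _ n
        _ ≤ _ := by
          rw [Ideal.span_singleton_le_iff_mem, Ideal.mem_comap]
          exact Ideal.mem_span_singleton_self _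
    exact Groth.Agent.H57.flat_quotient_of_family (A := R) (Ideal.span {σ 1 * f}).radical M _
      (N₀ * n) hN (ι := PUnit.{u + 1}) (fun _ => S)
      (fun _ => Ideal.span {algebraMap R S ((σ 1 * f) ^ n)}) (fun _ => le_refl _)
      (fun a ha => ha PUnit.unit)
  have hkill : ∀ (𝔞 : Ideal R) (x : 𝔞 ⊗[R] M), rTensor M 𝔞.subtype x = 0 →
      (σ 1 * f) • x = 0 := fun 𝔞 x hx => kill_T α β f hβα σ 𝔞 x hx
  have hdiv : ∀ (𝔞 : Ideal R) (x : 𝔞 ⊗[R] M), rTensor M 𝔞.subtype x = 0 →
      ∃ y : 𝔞 ⊗[R] M, x = (σ 1 * f) • y := fun 𝔞 x hx => div_T σ f hσ hP 𝔞 x hx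
  have htf := torsion_free (σ 1 * f) hh hkill hdiv
  rw [Module.Flat.iff_rTensor_injective']
  intro 𝔞
  rw [injective_iff_map_eq_zero]
  intro x hx
  obtain ⟨y, rfl⟩ := hdiv 𝔞 x hx
  have hw : rTensor M 𝔞.subtype y = 0 := by
    have h1 : (σ 1 * f) • rTensor M 𝔞.subtype y = 0 := by rw [← map_smul]; exact hx
    have h2 : (σ 1 * f) • (TensorProduct.lid R M (rTensor M 𝔞.subtype y)) = 0 := by
      rw [← map_smul, h1, map_zero]
    have h3 := htf _ h2
    exact (TensorProduct.lid R M).injective (by rw [h3, map_zero])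
  exact hkill 𝔞 y hw

theorem prime_case (R S : Type u) [CommRing R] [IsNoetherianRing R] [CommRing S]
    [Algebra R S] [Module.Finite R S] (hinj : Function.Injective (algebraMap R S))
    (M : Type u) [AddCommGroup M] [Module R M] [Module.Flat S (S ⊗[R] M)]
    (p : Ideal R) (hp : p.IsPrime)
    (ih : ∀ J > p, J.IsRadical → Module.Flat (R ⧸ J) ((R ⧸ J) ⊗[R] M)) :
    Module.Flat (R ⧸ p) ((R ⧸ p) ⊗[R] M) := by
  haveI := hp
  obtain ⟨𝔮, -, h𝔮, hcomap⟩ := Ideal.exists_ideal_over_prime_of_isIntegral p (⊥ : Ideal S) (by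
    rw [← RingHom.ker_eq_comap_bot, (RingHom.injective_iff_ker_eq_bot _).1 hinj]
    exact bot_le)
  haveI := h𝔮
  have hle : p ≤ Ideal.comap (algebraMap R S) 𝔮 := hcomap.ge
  letI : Algebra (R ⧸ p) (S ⧸ 𝔮) := Ideal.Quotient.algebraQuotientOfLEComap hle
  haveI : IsScalarTower R (R ⧸ p) (S ⧸ 𝔮) := IsScalarTower.of_algebraMap_eq (fun x => rfl)
  haveI : Module.Finite R (S ⧸ 𝔮) :=
    Module.Finite.of_surjective (Ideal.Quotient.mkₐ R 𝔮).toLinearMap
      (Ideal.Quotient.mkₐ_surjective R 𝔮)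
  haveI : Module.Finite (R ⧸ p) (S ⧸ 𝔮) :=
    Module.Finite.of_restrictScalars_finite R (R ⧸ p) (S ⧸ 𝔮)
  have hinj' : Function.Injective (algebraMap (R ⧸ p) (S ⧸ 𝔮)) := by
    rw [injective_iff_map_eq_zero]
    intro x hx
    obtain ⟨r, rfl⟩ := Ideal.Quotient.mk_surjective x
    have h1 : Ideal.Quotient.mk 𝔮 (algebraMap R S r) = 0 := hx
    rw [Ideal.Quotient.eq_zero_iff_mem] at h1 ⊢
    rw [← hcomap]
    exact h1
  haveI : Module.Flat (S ⧸ 𝔮) ((S ⧸ 𝔮) ⊗[R ⧸ p] ((R ⧸ p) ⊗[R] M)) := by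
    rw [Groth.Agent.H57.flat_tensor_of_tower R (R ⧸ p) (S ⧸ 𝔮) M]
    exact (Groth.Agent.H57.flat_tensor_of_tower R S (S ⧸ 𝔮) M).mp inferInstance
  refine flat_of_domain (R ⧸ p) (S ⧸ 𝔮) hinj' ((R ⧸ p) ⊗[R] M) ?_
  intro J' hJ'rad hJ'ne
  have hJrad : (J'.comap (Ideal.Quotient.mk p)).IsRadical := hJ'rad.comap _
  have hJgt : p < J'.comap (Ideal.Quotient.mk p) := by
    refine lt_of_le_of_ne ?_ ?_
    · intro r hr
      rw [Ideal.mem_comap, Ideal.Quotient.eq_zero_iff_mem.2 hr]
      exact J'.zero_mem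
    · intro h
      apply hJ'ne
      rw [← Ideal.map_comap_of_surjective (Ideal.Quotient.mk p) Ideal.Quotient.mk_surjective J',
        ← h, Ideal.map_quotient_self]
  haveI := ih _ hJgt hJrad
  have hle2 : J'.comap (Ideal.Quotient.mk p) ≤ Ideal.comap (algebraMap R (R ⧸ p)) J' :=
    le_refl _
  letI : Algebra (R ⧸ J'.comap (Ideal.Quotient.mk p)) ((R ⧸ p) ⧸ J') :=
    Ideal.Quotient.algebraQuotientOfLEComap hle2
  haveI : IsScalarTower R (R ⧸ J'.comap (Ideal.Quotient.mk p)) ((R ⧸ p) ⧸ J') :=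
    IsScalarTower.of_algebraMap_eq (fun x => rfl)
  rw [Groth.Agent.H57.flat_tensor_of_tower R (R ⧸ p) ((R ⧸ p) ⧸ J') M]
  exact (Groth.Agent.H57.flat_tensor_of_tower R (R ⧸ J'.comap (Ideal.Quotient.mk p))
    ((R ⧸ p) ⧸ J') M).mp inferInstance

theorem step_radical (R S : Type u) [CommRing R] [IsNoetherianRing R] [CommRing S]
    [Algebra R S] [Module.Finite R S] (hinj : Function.Injective (algebraMap R S))
    (M : Type u) [AddCommGroup M] [Module R M] [Module.Flat S (S ⊗[R] M)] (I : Ideal R)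
    (ih : ∀ J : Ideal R, J > I → J.IsRadical → Module.Flat (R ⧸ J) ((R ⧸ J) ⊗[R] M))
    (hrad : I.IsRadical) : Module.Flat (R ⧸ I) ((R ⧸ I) ⊗[R] M) := by
  by_cases htop : I = ⊤
  · subst htop
    haveI : Subsingleton (R ⧸ (⊤ : Ideal R)) := Ideal.Quotient.subsingleton_iff.2 rfl
    haveI : Subsingleton ((R ⧸ (⊤ : Ideal R)) ⊗[R] M) :=
      Module.subsingleton (R ⧸ (⊤ : Ideal R)) _
    infer_instance
  by_cases hp : I.IsPrime
  · exact prime_case R S hinj M I hp (fun J hJ hJrad => ih J hJ hJrad)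
  · rw [Ideal.isPrime_iff] at hp
    push Not at hp
    obtain ⟨a, b, hab, ha, hb⟩ := hp htop
    have hI₁ : I < (I ⊔ Ideal.span {a}).radical := by
      refine lt_of_le_of_ne (le_sup_left.trans Ideal.le_radical) (fun h => ha ?_)
      have h1 : a ∈ (I ⊔ Ideal.span {a}).radical :=
        Ideal.le_radical (Ideal.mem_sup_right (Ideal.mem_span_singleton_self a))
      rwa [← h] at h1
    have hI₂ : I < (I ⊔ Ideal.span {b}).radical := by
      refine lt_of_le_of_ne (le_sup_left.trans Ideal.le_radical) (fun h => hb ?_)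
      have h1 : b ∈ (I ⊔ Ideal.span {b}).radical :=
        Ideal.le_radical (Ideal.mem_sup_right (Ideal.mem_span_singleton_self b))
      rwa [← h] at h1
    have hmul : (I ⊔ Ideal.span {a}) * (I ⊔ Ideal.span {b}) ≤ I := by
      rw [Ideal.mul_le]
      intro r hr s hs
      obtain ⟨i, hi, r', hr', rfl⟩ := Submodule.mem_sup.1 hr
      obtain ⟨i', hi', s', hs', rfl⟩ := Submodule.mem_sup.1 hs
      obtain ⟨t, rfl⟩ := Ideal.mem_span_singleton'.1 hr'
      obtain ⟨t', rfl⟩ := Ideal.mem_span_singleton'.1 hs'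
      have e : (i + t * a) * (i' + t' * b) = i * (i' + t' * b) + (t * a) * i' +
          (t * t') * (a * b) := by ring
      rw [e]
      exact I.add_mem (I.add_mem (I.mul_mem_right _ hi) (I.mul_mem_left _ hi'))
        (I.mul_mem_left _ hab)
    have hinf : (I ⊔ Ideal.span {a}).radical ⊓ (I ⊔ Ideal.span {b}).radical = I := by
      refine le_antisymm ?_ (le_inf hI₁.le hI₂.le)
      rw [← Ideal.radical_mul]
      exact hrad.radical_le_iff.2 hmul
    haveI := ih _ hI₁ (Ideal.radical_isRadical _)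
    haveI := ih _ hI₂ (Ideal.radical_isRadical _)
    have h3 := Groth.Agent.S6893.result M (I ⊔ Ideal.span {a}).radical
      (I ⊔ Ideal.span {b}).radical
    rwa [hinf] at h3

theorem main_radical (R S : Type u) [CommRing R] [IsNoetherianRing R] [CommRing S]
    [Algebra R S] [Module.Finite R S] (hinj : Function.Injective (algebraMap R S))
    (M : Type u) [AddCommGroup M] [Module R M] [Module.Flat S (S ⊗[R] M)] (I : Ideal R) :
    I.IsRadical → Module.Flat (R ⧸ I) ((R ⧸ I) ⊗[R] M) :=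
  IsNoetherian.induction (P := fun I : Ideal R =>
    I.IsRadical → Module.Flat (R ⧸ I) ((R ⧸ I) ⊗[R] M))
    (fun I ih hrad => step_radical R S hinj M I ih hrad) I

/-- Flatness descends along a finite injective map of Noetherian rings. -/
theorem flat_of_finite_injective (R S : Type u) [CommRing R] [IsNoetherianRing R] [CommRing S]
    [Algebra R S] [Module.Finite R S] (hinj : Function.Injective (algebraMap R S))
    (M : Type u) [AddCommGroup M] [Module R M] [Module.Flat S (S ⊗[R] M)] :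
    Module.Flat R M := by
  haveI := main_radical R S hinj M (⊥ : Ideal R).radical (Ideal.radical_isRadical _)
  obtain ⟨N, hN⟩ := Ideal.exists_radical_pow_le_of_fg (⊥ : Ideal R) (IsNoetherian.noetherian _)
  haveI : Module.Flat (R ⧸ (⊥ : Ideal R)) ((R ⧸ (⊥ : Ideal R)) ⊗[R] M) :=
    Groth.Agent.H57.flat_quotient_of_family (A := R) (⊥ : Ideal R).radical M ⊥ N hN
      (ι := PUnit.{u + 1}) (fun _ => S) (fun _ => (⊥ : Ideal S)) (fun _ => bot_le)
      (fun a ha => by
        have h1 : algebraMap R S a = 0 := by simpa using ha PUnit.unit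
        rw [Ideal.mem_bot]
        exact hinj (by rw [h1, map_zero]))
  haveI : Module.FaithfullyFlat R (R ⧸ (⊥ : Ideal R)) :=
    Module.FaithfullyFlat.of_linearEquiv (R := R) (M := R)
      (Submodule.quotEquivOfEqBot (⊥ : Submodule R R) rfl)
  exact Module.Flat.of_flat_tensorProduct R M (R ⧸ (⊥ : Ideal R))

end Groth.Agent.Lead.FiniteInjFlat
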