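import Mathlib

/-!
# Lemmas for fixed-point schemes of finite groups (provider file for helper63, S16212)
-/

universe u v

open CategoryTheory CategoryTheory.Limits AlgebraicGeometry

namespace Groth.Agent.Lead.FixedPts

/-- (P3) The ideal generated by all `g • f - f` is finitely generated when `B` is of finite type. -/
theorem fg_span_smul_sub (R : Type u) [CommRing R] (B : Type u) [CommRing B] [Algebra R B]
    [Algebra.FiniteType R B] (G : Type v) [Group G] [Finite G] [MulSemiringAction G B]
    [SMulCommClass G R B] :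
    (Ideal.span {x : B | ∃ (g : G) (f : B), x = g • f - f}).FG := by
  classical
  obtain ⟨s, hs⟩ := (Algebra.FiniteType.out : (⊤ : Subalgebra R B).FG)
  have := Fintype.ofFinite G
  let T : Finset B := (Finset.univ ×ˢ s).image (fun p : G × B => p.1 • p.2 - p.2)
  have hT : ∀ g : G, ∀ b ∈ s, g • b - b ∈ Ideal.span (T : Set B) := by
    intro g b hb
    apply Ideal.subset_span
    simp only [T, Finset.coe_image, Set.mem_image, Finset.mem_coe, Finset.mem_product,
      Finset.mem_univ, true_and]
    exact ⟨(g, b), hb, rfl⟩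
  -- for each g, the set of b with g • b - b ∈ J₀ is a subalgebra
  have key : ∀ (g : G) (b : B), g • b - b ∈ Ideal.span (T : Set B) := by
    intro g b
    have hb : b ∈ Algebra.adjoin R (s : Set B) := by rw [hs]; trivial
    induction hb using Algebra.adjoin_induction with
    | mem x hx => exact hT g x hx
    | algebraMap r =>
      have : g • (algebraMap R B r) = algebraMap R B r := by
        rw [Algebra.algebraMap_eq_smul_one, smul_comm, smul_one]
      rw [this, sub_self]
      exact Ideal.zero_mem _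
    | add x y _ _ hx hy =>
      have : g • (x + y) - (x + y) = (g • x - x) + (g • y - y) := by
        rw [smul_add]; ring
      rw [this]
      exact Ideal.add_mem _ hx hy
    | mul x y _ _ hx hy =>
      have : g • (x * y) - x * y = (g • x) * (g • y - y) + (g • x - x) * y := by
        rw [smul_mul']; ring
      rw [this]
      exact Ideal.add_mem _ (Ideal.mul_mem_left _ _ hy) (Ideal.mul_mem_right _ _ hx)
  refine ⟨T, ?_⟩
  apply le_antisymm
  · apply Ideal.span_mono
    intro x hx
    simp only [T, Finset.coe_image, Set.mem_image, Finset.mem_coe, Finset.mem_product,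
      Finset.mem_univ, true_and] at hx
    obtain ⟨⟨g, b⟩, -, rfl⟩ := hx
    exact ⟨g, b, rfl⟩
  · rw [Ideal.span_le]
    rintro x ⟨g, f, rfl⟩
    exact key g f

/-- membership in a finite infimum of opens -/
theorem mem_iInf_opens {α : Type*} [TopologicalSpace α] {ι : Type*} [Finite ι]
    (U : ι → TopologicalSpace.Opens α) (x : α) : x ∈ (⨅ i, U i) ↔ ∀ i, x ∈ U i := by
  rw [← SetLike.mem_coe, TopologicalSpace.Opens.coe_iInf, Set.mem_iInter]
  rfl

/-- (P2) A fixed point of a finite group acting on a separated `S`-scheme has a stable affine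
open neighbourhood lying over an affine open of `S`. -/
theorem exists_stable_affine (S : Scheme.{u}) (X : Over S) [IsSeparated X.hom] (G : Type v)
    [Group G] [Finite G] (ρ : G →* Aut X) (x : X.left)
    (hx : ∀ g : G, (ρ g).hom.left.base x = x) :
    ∃ (V : S.Opens) (U : X.left.Opens), IsAffineOpen V ∧ IsAffineOpen U ∧ x ∈ U ∧
      U ≤ X.hom ⁻¹ᵁ V ∧ ∀ g : G, (ρ g).hom.left ⁻¹ᵁ U = U := by
  classical
  -- affine open of the base
  obtain ⟨_, ⟨V, hV, rfl⟩, hxV, -⟩ := (S.isBasis_affineOpens).exists_subset_of_mem_open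
    (Set.mem_univ (X.hom.base x)) isOpen_univ
  -- affine open of `X` over it
  obtain ⟨_, ⟨U₀, hU₀, rfl⟩, hxU₀, hU₀V⟩ := (X.left.isBasis_affineOpens).exists_subset_of_mem_open
    (show x ∈ ((X.hom ⁻¹ᵁ V : X.left.Opens) : Set X.left) from hxV) (X.hom ⁻¹ᵁ V).isOpen
  have hw : ∀ g : G, (ρ g).hom.left ≫ X.hom = X.hom := fun g => Over.w (ρ g).hom
  have hmul : ∀ g h : G, (ρ (g * h)).hom.left = (ρ h).hom.left ≫ (ρ g).hom.left := by
    intro g h
    rw [map_mul]
    rfl
  let W : G → X.left.Opens := fun g => (ρ g).hom.left ⁻¹ᵁ U₀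
  have hWaff : ∀ g, IsAffineOpen (W g) := by
    intro g
    have h0 : IsIso (ρ g).hom := ⟨(ρ g).inv, (ρ g).hom_inv_id, (ρ g).inv_hom_id⟩
    have : IsIso (ρ g).hom.left := Functor.map_isIso (Over.forget S) (ρ g).hom
    exact hU₀.preimage_of_isIso (ρ g).hom.left
  have hWV : ∀ g, W g ≤ X.hom ⁻¹ᵁ V := by
    intro g y hy
    have h1 : (ρ g).hom.left.base y ∈ X.hom ⁻¹ᵁ V := hU₀V hy
    have h2 : ((ρ g).hom.left ≫ X.hom).base y ∈ V := h1
    rw [hw g] at h2
    exact h2
  have hdiag : IsAffineHom (pullback.diagonal X.hom) := inferInstance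
  have hinf := isAffineHom_diagonal_iff.mp hdiag V hV
  have hclosed : InfClosed {W' : X.left.Opens | IsAffineOpen W' ∧ W' ≤ X.hom ⁻¹ᵁ V} := by
    intro a ha b hb
    exact ⟨hinf a ha.2 b hb.2 ha.1 hb.1, inf_le_left.trans ha.2⟩
  have hU := hclosed.iInf_mem_of_nonempty (f := W) (fun g => ⟨hWaff g, hWV g⟩)
  refine ⟨V, ⨅ g, W g, hV, hU.1, ?_, hU.2, ?_⟩
  · rw [mem_iInf_opens]
    intro g
    show (ρ g).hom.left.base x ∈ U₀
    rw [hx g]
    exact hxU₀
  · intro h
    ext y
    show (ρ h).hom.left.base y ∈ (⨅ g, W g) ↔ y ∈ (⨅ g, W g)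
    rw [mem_iInf_opens, mem_iInf_opens]
    constructor
    · intro H g
      have := H (g * h⁻¹)
      show (ρ g).hom.left.base y ∈ U₀
      have h3 : (ρ (g * h⁻¹)).hom.left.base ((ρ h).hom.left.base y) ∈ U₀ := this
      have h4 : (ρ (g * h⁻¹ * h)).hom.left.base y ∈ U₀ := by
        rw [hmul (g * h⁻¹) h]
        exact h3
      rwa [inv_mul_cancel_right] at h4
    · intro H g
      show (ρ g).hom.left.base ((ρ h).hom.left.base y) ∈ U₀
      have h4 : (ρ (g * h)).hom.left.base y ∈ U₀ := H (g * h)
      rw [hmul g h] at h4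
      exact h4

end Groth.Agent.Lead.FixedPts
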