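import Groth.Agent.S0398
import Groth.Agent.H57.LocalCrit
import Mathlib.RingTheory.Flat.Stability
import Mathlib.RingTheory.Filtration
import Mathlib.RingTheory.HopkinsLevitzki
import Mathlib.RingTheory.LocalRing.Quotient
import Mathlib.RingTheory.Ideal.Quotient.Noetherian

/-!
# Descent of flatness along maps inducing the adic topology (local Noetherian case)

Built on helper2's `S0398` (Artinian injective descent) and helper57's `H57.LocalCrit`.
-/

set_option autoImplicit false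
universe u

namespace Groth.Agent.Lead

open TensorProduct IsLocalRing

/-- flatness mod `J` passes to flatness mod a bigger ideal `J'`. -/
theorem flat_quotient_of_le {A M : Type u} [CommRing A] [AddCommGroup M] [Module A M]
    {J J' : Ideal A} (h : J ≤ J') [Module.Flat (A ⧸ J) ((A ⧸ J) ⊗[A] M)] :
    Module.Flat (A ⧸ J') ((A ⧸ J') ⊗[A] M) := by
  letI : Algebra (A ⧸ J) (A ⧸ J') := (Ideal.Quotient.factor h).toAlgebra
  haveI : IsScalarTower A (A ⧸ J) (A ⧸ J') := IsScalarTower.of_algebraMap_eq' rfl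
  have e : (A ⧸ J') ⊗[A ⧸ J] ((A ⧸ J) ⊗[A] M) ≃ₗ[A ⧸ J'] (A ⧸ J') ⊗[A] M :=
    AlgebraTensorModule.cancelBaseChange A (A ⧸ J) (A ⧸ J') (A ⧸ J') M
  exact Module.Flat.of_linearEquiv e.symm

/-- quotient of a Noetherian local ring by an ideal containing a power of the maximal ideal is
Artinian. -/
theorem artinian_quotient_of_pow_le {A : Type u} [CommRing A] [IsNoetherianRing A] [IsLocalRing A]
    (J : Ideal A) (hJ : ∃ N : ℕ, maximalIdeal A ^ N ≤ J) : IsArtinianRing (A ⧸ J) := by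
  obtain ⟨N, hN⟩ := hJ
  by_cases hI : J = ⊤
  · subst hI
    haveI : Subsingleton (A ⧸ (⊤ : Ideal A)) := Ideal.Quotient.subsingleton_iff.mpr rfl
    infer_instance
  · have : Nontrivial (A ⧸ J) := Ideal.Quotient.nontrivial_iff.mpr hI
    have := IsLocalRing.of_surjective' (Ideal.Quotient.mk J) Ideal.Quotient.mk_surjective
    have := IsLocalHom.of_surjective (Ideal.Quotient.mk J) Ideal.Quotient.mk_surjective
    have hmax : (maximalIdeal A).map (Ideal.Quotient.mk J) = maximalIdeal (A ⧸ J) := by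
      ext x
      obtain ⟨x, rfl⟩ := Ideal.Quotient.mk_surjective x
      simp [sup_eq_left.mpr (le_maximalIdeal hI)]
    rw [isArtinianRing_iff_isNilpotent_maximalIdeal]
    refine ⟨N, ?_⟩
    rw [← hmax, ← Ideal.map_pow, Ideal.zero_eq_bot, Ideal.map_eq_bot_iff_le_ker, Ideal.mk_ker]
    exact hN

/-- Artinian step: flatness of `A' ⊗ B` over `A'` gives flatness of `B` modulo the contraction of
an ideal `K` of `A'`, provided the contraction contains a power of the maximal ideal. -/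
theorem flat_mod_comap {A B A' : Type u} [CommRing A] [CommRing B] [CommRing A']
    [IsNoetherianRing A] [IsLocalRing A] [Algebra A B] [Algebra A A'] (K : Ideal A')
    (J : Ideal A) (hJK : J = K.comap (algebraMap A A'))
    (hK : ∃ N : ℕ, maximalIdeal A ^ N ≤ J)
    [Module.Flat A' (A' ⊗[A] B)] :
    Module.Flat (A ⧸ J) ((A ⧸ J) ⊗[A] B) := by
  haveI : IsArtinianRing (A ⧸ J) := artinian_quotient_of_pow_le J hK
  letI : Algebra (A ⧸ J) (A' ⧸ K) := (Ideal.quotientMap K (algebraMap A A') hJK.le).toAlgebra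
  haveI : IsScalarTower A (A ⧸ J) (A' ⧸ K) := IsScalarTower.of_algebraMap_eq' rfl
  have hinj : Function.Injective (algebraMap (A ⧸ J) (A' ⧸ K)) :=
    Ideal.quotientMap_injective' hJK.ge
  have e1 : (A' ⧸ K) ⊗[A'] (A' ⊗[A] B) ≃ₗ[A' ⧸ K] (A' ⧸ K) ⊗[A] B :=
    AlgebraTensorModule.cancelBaseChange A A' (A' ⧸ K) (A' ⧸ K) B
  have e2 : (A' ⧸ K) ⊗[A ⧸ J] ((A ⧸ J) ⊗[A] B) ≃ₗ[A' ⧸ K] (A' ⧸ K) ⊗[A] B :=
    AlgebraTensorModule.cancelBaseChange A (A ⧸ J) (A' ⧸ K) (A' ⧸ K) B
  haveI : Module.Flat (A' ⧸ K) ((A' ⧸ K) ⊗[A ⧸ J] ((A ⧸ J) ⊗[A] B)) :=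
    Module.Flat.of_linearEquiv (e2.trans e1.symm)
  exact Groth.Agent.S0398.result hinj

/-- Main lemma: if the `𝔪`-adic topology of `A` is induced from a family of ideals of `A'`
(contractions cofinal with powers of `𝔪`), flatness of `B` descends from `A'` to `A`. -/
theorem flat_of_baseChange_of_cofinal {A B A' : Type u} [CommRing A] [CommRing B] [CommRing A']
    [IsNoetherianRing A] [IsLocalRing A] [IsNoetherianRing B] [IsLocalRing B]
    [Algebra A B] [IsLocalHom (algebraMap A B)] [Algebra A A']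
    (h : ∀ n : ℕ, ∃ K : Ideal A', (∃ N : ℕ, maximalIdeal A ^ N ≤ K.comap (algebraMap A A')) ∧
      K.comap (algebraMap A A') ≤ maximalIdeal A ^ n)
    [Module.Flat A' (A' ⊗[A] B)] : Module.Flat A B := by
  refine Groth.Agent.H57.flat_of_flat_mod_pow (S := B) (maximalIdeal A) ?_ ?_
  · rw [IsLocalRing.jacobson_eq_maximalIdeal ⊥ bot_ne_top, Ideal.map_le_iff_le_comap]
    intro a ha
    exact map_nonunit (algebraMap A B) a ha
  · intro k
    obtain ⟨K, hN, hK⟩ := h k
    haveI : Module.Flat (A ⧸ K.comap (algebraMap A A')) ((A ⧸ K.comap (algebraMap A A')) ⊗[A] B) :=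
      flat_mod_comap K _ rfl hN
    exact flat_quotient_of_le hK

end Groth.Agent.Lead
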