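import Mathlib

/-!
# Projective + formally smooth fibre over a nilpotent ideal ⇒ formally smooth

Let `𝔪` be a nilpotent ideal of `A₁`, `B₁` an `A₁`-algebra which is projective as an `A₁`-module,
`k₁ = A₁/𝔪`, `B₀ = B₁/𝔪B₁` (given through surjections with the right kernels).  If `B₀` is a
formally smooth `k₁`-algebra then `B₁` is a formally smooth `A₁`-algebra (EGA 0_IV 19.7.1 in the
discrete nilpotent case).
-/

namespace Groth.Agent.Lead.FlatFibreSmooth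

variable {A₁ : Type*} [CommRing A₁] (𝔪 : Ideal A₁)
  {B₁ : Type*} [CommRing B₁] [Algebra A₁ B₁] [Module.Projective A₁ B₁]
  {k₁ : Type*} [CommRing k₁] [Algebra A₁ k₁]
  {B₀ : Type*} [CommRing B₀] [Algebra k₁ B₀] [Algebra B₁ B₀] [Algebra A₁ B₀]
  [IsScalarTower A₁ k₁ B₀] [IsScalarTower A₁ B₁ B₀]

include 𝔪 in
/-- A square-zero extension of `B₁` whose kernel is killed by `𝔪` splits. -/
theorem exists_section
    (hk : Function.Surjective (algebraMap A₁ k₁)) (hkk : RingHom.ker (algebraMap A₁ k₁) = 𝔪)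
    (hB : Function.Surjective (algebraMap B₁ B₀))
    (hBk : RingHom.ker (algebraMap B₁ B₀) = 𝔪.map (algebraMap A₁ B₁))
    [Algebra.FormallySmooth k₁ B₀]
    {E : Type*} [CommRing E] [Algebra A₁ E] (π : E →ₐ[A₁] B₁) (hπ : Function.Surjective π)
    (hsq : ∀ x ∈ RingHom.ker π, ∀ y ∈ RingHom.ker π, x * y = 0)
    (hm : ∀ a ∈ 𝔪, ∀ x ∈ RingHom.ker π, a • x = 0) :
    ∃ σ : B₁ →ₐ[A₁] E, π.comp σ = AlgHom.id A₁ B₁ := by
  classical
  obtain ⟨s, hs⟩ := Module.projective_lifting_property π.toLinearMap LinearMap.id hπ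
  have hs' : ∀ b, π (s b) = b := fun b => LinearMap.congr_fun hs b
  have hsker : ∀ e : E, e - s (π e) ∈ RingHom.ker π := by
    intro e
    rw [RingHom.mem_ker, map_sub, hs', sub_self]
  set 𝔐 : Ideal E := 𝔪.map (algebraMap A₁ E) with h𝔐
  have key : ∀ x ∈ 𝔐, x = s (π x) := by
    intro x hx
    have hx' : x ∈ 𝔪 • (⊤ : Submodule A₁ E) := by
      rw [Ideal.smul_top_eq_map]; exact hx
    refine Submodule.smul_induction_on hx' ?_ ?_
    · intro a ha e _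
      have h2 := hm a ha _ (hsker e)
      rw [smul_sub, sub_eq_zero] at h2
      rw [map_smul, map_smul, ← h2]
    · intro x y hx hy
      rw [map_add, map_add, ← hx, ← hy]
  have hsmem : ∀ b ∈ 𝔪.map (algebraMap A₁ B₁), s b ∈ 𝔐 := by
    intro b hb
    have hb' : b ∈ 𝔪 • (⊤ : Submodule A₁ B₁) := by
      rw [Ideal.smul_top_eq_map]; exact hb
    refine Submodule.smul_induction_on hb' ?_ ?_
    · intro a ha b' _
      rw [map_smul, Algebra.smul_def]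
      exact Ideal.mul_mem_right _ _ (Ideal.mem_map_of_mem _ ha)
    · intro x y hx hy
      rw [map_add]; exact add_mem hx hy
  -- the `k₁`-algebra structure on `E ⧸ 𝔐`
  have hle : RingHom.ker (algebraMap A₁ k₁) ≤
      RingHom.ker ((Ideal.Quotient.mk 𝔐).comp (algebraMap A₁ E)) := by
    intro a ha
    rw [hkk] at ha
    rw [RingHom.mem_ker, RingHom.comp_apply]
    exact Ideal.Quotient.eq_zero_iff_mem.mpr (Ideal.mem_map_of_mem _ ha)
  let φ₀ : k₁ →+* E ⧸ 𝔐 := RingHom.liftOfSurjective (algebraMap A₁ k₁) hk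
    ⟨(Ideal.Quotient.mk 𝔐).comp (algebraMap A₁ E), hle⟩
  have hφ₀ : ∀ a : A₁, φ₀ (algebraMap A₁ k₁ a) = Ideal.Quotient.mk 𝔐 (algebraMap A₁ E a) := by
    intro a
    exact RingHom.liftOfRightInverse_comp_apply _ _ _ _ a
  letI : Algebra k₁ (E ⧸ 𝔐) := φ₀.toAlgebra
  haveI : IsScalarTower A₁ k₁ (E ⧸ 𝔐) := IsScalarTower.of_algebraMap_eq (fun a => (hφ₀ a).symm)
  -- the induced map `E ⧸ 𝔐 → B₀`
  have h𝔐ker : ∀ x ∈ 𝔐, ((algebraMap B₁ B₀).comp (π : E →+* B₁)) x = 0 := by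
    intro x hx
    rw [RingHom.comp_apply, ← RingHom.mem_ker, hBk]
    have : (π : E →+* B₁) x ∈ (𝔪.map (algebraMap A₁ E)).map (π : E →+* B₁) :=
      Ideal.mem_map_of_mem _ hx
    rwa [Ideal.map_map, AlgHom.comp_algebraMap] at this
  let π₀r : E ⧸ 𝔐 →+* B₀ := Ideal.Quotient.lift 𝔐 ((algebraMap B₁ B₀).comp (π : E →+* B₁)) h𝔐ker
  have hπ₀r : ∀ e : E, π₀r (Ideal.Quotient.mk 𝔐 e) = algebraMap B₁ B₀ (π e) := fun e => rfl
  let π₀ : E ⧸ 𝔐 →ₐ[k₁] B₀ :=
    { π₀r with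
      commutes' := by
        intro c
        obtain ⟨a, rfl⟩ := hk c
        change π₀r (φ₀ (algebraMap A₁ k₁ a)) = _
        rw [hφ₀, hπ₀r, AlgHom.commutes, ← IsScalarTower.algebraMap_apply,
          ← IsScalarTower.algebraMap_apply] }
  have hπ₀ : ∀ e : E, π₀ (Ideal.Quotient.mk 𝔐 e) = algebraMap B₁ B₀ (π e) := fun e => rfl
  have hπ₀surj : Function.Surjective π₀ := by
    intro b₀
    obtain ⟨b, rfl⟩ := hB b₀
    obtain ⟨e, rfl⟩ := hπ b
    exact ⟨Ideal.Quotient.mk 𝔐 e, hπ₀ e⟩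
  have hkerπ₀ : ∀ z : E ⧸ 𝔐, π₀ z = 0 → ∃ n ∈ RingHom.ker π, Ideal.Quotient.mk 𝔐 n = z := by
    intro z hz
    obtain ⟨e, rfl⟩ := Ideal.Quotient.mk_surjective z
    rw [hπ₀, ← RingHom.mem_ker, hBk] at hz
    refine ⟨e - s (π e), hsker e, ?_⟩
    rw [map_sub, Ideal.Quotient.eq_zero_iff_mem.mpr (hsmem _ hz), sub_zero]
  have hnil : IsNilpotent (RingHom.ker (π₀ : E ⧸ 𝔐 →+* B₀)) := by
    refine ⟨2, ?_⟩
    rw [Ideal.zero_eq_bot, eq_bot_iff, pow_two, Ideal.mul_le]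
    intro x hx y hy
    obtain ⟨n, hn, rfl⟩ := hkerπ₀ x hx
    obtain ⟨n', hn', rfl⟩ := hkerπ₀ y hy
    rw [Ideal.mem_bot, ← map_mul, hsq n hn n' hn', map_zero]
  let σ₀ : B₀ →ₐ[k₁] E ⧸ 𝔐 :=
    Algebra.FormallySmooth.liftOfSurjective (AlgHom.id k₁ B₀) π₀ hπ₀surj hnil
  have hσ₀ : ∀ b₀, π₀ (σ₀ b₀) = b₀ := fun b₀ =>
    AlgHom.congr_fun (Algebra.FormallySmooth.comp_liftOfSurjective (AlgHom.id k₁ B₀) π₀
      hπ₀surj hnil) b₀
  -- `E ↪ B₁ × E ⧸ 𝔐`
  let Ψ : E →ₐ[A₁] B₁ × (E ⧸ 𝔐) := AlgHom.prod π (Ideal.Quotient.mkₐ A₁ 𝔐)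
  have hΨ : Function.Injective Ψ := by
    rw [injective_iff_map_eq_zero]
    intro e he
    have h1 : π e = 0 := congrArg Prod.fst he
    have h2 : Ideal.Quotient.mk 𝔐 e = 0 := congrArg Prod.snd he
    rw [key e (Ideal.Quotient.eq_zero_iff_mem.mp h2), h1, map_zero]
  let Γ : B₁ →ₐ[A₁] B₁ × (E ⧸ 𝔐) :=
    AlgHom.prod (AlgHom.id A₁ B₁) ((σ₀.restrictScalars A₁).comp (IsScalarTower.toAlgHom A₁ B₁ B₀))
  have hΓ : ∀ b, Γ b = (b, σ₀ (algebraMap B₁ B₀ b)) := fun b => rfl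
  have hrange : ∀ b, Γ b ∈ Ψ.range := by
    intro b
    have hz : π₀ (Ideal.Quotient.mk 𝔐 (s b) - σ₀ (algebraMap B₁ B₀ b)) = 0 := by
      rw [map_sub, hπ₀, hs', hσ₀, sub_self]
    obtain ⟨n, hn, hnz⟩ := hkerπ₀ _ hz
    refine ⟨s b - n, ?_⟩
    rw [hΓ]
    apply Prod.ext
    · change π (s b - n) = b
      rw [map_sub, hs', (RingHom.mem_ker).mp hn, sub_zero]
    · change Ideal.Quotient.mk 𝔐 (s b - n) = σ₀ (algebraMap B₁ B₀ b)
      rw [map_sub, hnz]; ring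
  let eΨ := AlgEquiv.ofInjective Ψ hΨ
  let σ : B₁ →ₐ[A₁] E := (eΨ.symm : Ψ.range →ₐ[A₁] E).comp (Γ.codRestrict Ψ.range hrange)
  refine ⟨σ, ?_⟩
  apply AlgHom.ext
  intro b
  have h1 : Ψ (σ b) = Γ b := by
    have h2 : eΨ (σ b) = Γ.codRestrict Ψ.range hrange b := eΨ.apply_symm_apply _
    have h3 := congrArg Subtype.val h2
    rwa [AlgEquiv.ofInjective_apply] at h3
  have h4 := congrArg Prod.fst h1
  rw [hΓ] at h4
  exact h4

include 𝔪 in
/-- Lifting along a surjection with square-zero kernel killed by `𝔪`. -/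
theorem exists_lift_of_surjective
    (hk : Function.Surjective (algebraMap A₁ k₁)) (hkk : RingHom.ker (algebraMap A₁ k₁) = 𝔪)
    (hB : Function.Surjective (algebraMap B₁ B₀))
    (hBk : RingHom.ker (algebraMap B₁ B₀) = 𝔪.map (algebraMap A₁ B₁))
    [Algebra.FormallySmooth k₁ B₀]
    {C D : Type*} [CommRing C] [CommRing D] [Algebra A₁ C] [Algebra A₁ D]
    (q : C →ₐ[A₁] D) (hq : Function.Surjective q)
    (hsq : ∀ x ∈ RingHom.ker q, ∀ y ∈ RingHom.ker q, x * y = 0)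
    (hm : ∀ a ∈ 𝔪, ∀ x ∈ RingHom.ker q, a • x = 0) (u : B₁ →ₐ[A₁] D) :
    ∃ v : B₁ →ₐ[A₁] C, q.comp v = u := by
  let E : Subalgebra A₁ (C × B₁) :=
    AlgHom.equalizer (q.comp (AlgHom.fst A₁ C B₁)) (u.comp (AlgHom.snd A₁ C B₁))
  have hE : ∀ x : C × B₁, x ∈ E ↔ q x.1 = u x.2 := fun x => AlgHom.mem_equalizer _ _ x
  let π : E →ₐ[A₁] B₁ := (AlgHom.snd A₁ C B₁).comp E.val
  have hπ : ∀ x : E, π x = (x : C × B₁).2 := fun x => rfl
  have hπsurj : Function.Surjective π := by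
    intro b
    obtain ⟨c, hc⟩ := hq (u b)
    exact ⟨⟨(c, b), (hE _).mpr hc⟩, rfl⟩
  have hker : ∀ x : E, x ∈ RingHom.ker π → (x : C × B₁).1 ∈ RingHom.ker q ∧ (x : C × B₁).2 = 0 := by
    intro x hx
    have h2 : (x : C × B₁).2 = 0 := hx
    refine ⟨?_, h2⟩
    rw [RingHom.mem_ker]
    have := (hE _).mp x.2
    rw [h2, map_zero] at this
    exact this
  obtain ⟨σ, hσ⟩ := exists_section 𝔪 hk hkk hB hBk π hπsurj
    (by
      intro x hx y hy
      obtain ⟨hx1, hx2⟩ := hker x hx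
      obtain ⟨hy1, hy2⟩ := hker y hy
      apply Subtype.ext
      apply Prod.ext
      · change (x : C × B₁).1 * (y : C × B₁).1 = 0
        exact hsq _ hx1 _ hy1
      · change (x : C × B₁).2 * (y : C × B₁).2 = 0
        rw [hx2, zero_mul])
    (by
      intro a ha x hx
      obtain ⟨hx1, hx2⟩ := hker x hx
      apply Subtype.ext
      apply Prod.ext
      · change a • (x : C × B₁).1 = 0
        exact hm a ha _ hx1
      · change a • (x : C × B₁).2 = 0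
        rw [hx2, smul_zero])
  refine ⟨(AlgHom.fst A₁ C B₁).comp (E.val.comp σ), ?_⟩
  apply AlgHom.ext
  intro b
  have h1 : π (σ b) = b := AlgHom.congr_fun hσ b
  have h2 := (hE _).mp (σ b).2
  rw [hπ] at h1
  rw [h1] at h2
  exact h2

include 𝔪 in
/-- Lifting along any square-zero quotient. -/
theorem exists_lift_sq_zero (hnil : IsNilpotent 𝔪)
    (hk : Function.Surjective (algebraMap A₁ k₁)) (hkk : RingHom.ker (algebraMap A₁ k₁) = 𝔪)
    (hB : Function.Surjective (algebraMap B₁ B₀))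
    (hBk : RingHom.ker (algebraMap B₁ B₀) = 𝔪.map (algebraMap A₁ B₁))
    [Algebra.FormallySmooth k₁ B₀]
    {C : Type*} [CommRing C] [Algebra A₁ C] (I : Ideal C) (hI : I ^ 2 = ⊥)
    (u : B₁ →ₐ[A₁] C ⧸ I) :
    ∃ v : B₁ →ₐ[A₁] C, (Ideal.Quotient.mkₐ A₁ I).comp v = u := by
  set 𝔐 : Ideal C := 𝔪.map (algebraMap A₁ C) with h𝔐
  -- the predicate on ideals `K ≤ I`
  let P : Ideal C → Prop := fun K => ∃ (hK : K ≤ I) (v : B₁ →ₐ[A₁] C ⧸ K),
    (Ideal.Quotient.factorₐ A₁ hK).comp v = u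
  have hP0 : P I := by
    refine ⟨le_refl I, u, ?_⟩
    apply AlgHom.ext
    intro b
    obtain ⟨c, hc⟩ := Ideal.Quotient.mk_surjective (u b)
    rw [AlgHom.comp_apply, ← hc]
    exact Ideal.Quotient.factorₐ_apply_mk A₁ (le_refl I) c
  have hstep : ∀ K : Ideal C, P K → P (𝔐 * K) := by
    rintro K ⟨hK, v, hv⟩
    have hle : 𝔐 * K ≤ K := Ideal.mul_le_right
    let q : C ⧸ (𝔐 * K) →ₐ[A₁] C ⧸ K := Ideal.Quotient.factorₐ A₁ hle
    have hq : Function.Surjective q := by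
      intro z
      obtain ⟨c, rfl⟩ := Ideal.Quotient.mk_surjective z
      exact ⟨Ideal.Quotient.mk _ c, Ideal.Quotient.factorₐ_apply_mk A₁ hle c⟩
    have hkerq : ∀ z : C ⧸ (𝔐 * K), z ∈ RingHom.ker q → ∃ c ∈ K, Ideal.Quotient.mk _ c = z := by
      intro z hz
      obtain ⟨c, rfl⟩ := Ideal.Quotient.mk_surjective z
      refine ⟨c, ?_, rfl⟩
      rw [RingHom.mem_ker] at hz
      have : q (Ideal.Quotient.mk _ c) = Ideal.Quotient.mk K c :=
        Ideal.Quotient.factorₐ_apply_mk A₁ hle c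
      rw [this] at hz
      exact Ideal.Quotient.eq_zero_iff_mem.mp hz
    obtain ⟨v', hv'⟩ := exists_lift_of_surjective 𝔪 hk hkk hB hBk q hq
      (by
        intro x hx y hy
        obtain ⟨c, hc, rfl⟩ := hkerq x hx
        obtain ⟨c', hc', rfl⟩ := hkerq y hy
        rw [← map_mul]
        have : c * c' ∈ I ^ 2 := by
          rw [pow_two]; exact Ideal.mul_mem_mul (hK hc) (hK hc')
        rw [hI, Ideal.mem_bot] at this
        rw [this, map_zero])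
      (by
        intro a ha x hx
        obtain ⟨c, hc, rfl⟩ := hkerq x hx
        rw [Algebra.smul_def]
        change Ideal.Quotient.mk _ (algebraMap A₁ C a) * Ideal.Quotient.mk _ c = 0
        rw [← map_mul]
        exact Ideal.Quotient.eq_zero_iff_mem.mpr
          (Ideal.mul_mem_mul (Ideal.mem_map_of_mem _ ha) hc))
      v
    refine ⟨hle.trans hK, v', ?_⟩
    rw [← hv, ← hv']
    apply AlgHom.ext
    intro b
    obtain ⟨c, hc⟩ := Ideal.Quotient.mk_surjective (v' b)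
    simp only [AlgHom.comp_apply]
    rw [← hc]
    change _ = Ideal.Quotient.factorₐ A₁ hK (Ideal.Quotient.factorₐ A₁ hle (Ideal.Quotient.mk _ c))
    rw [Ideal.Quotient.factorₐ_apply_mk, Ideal.Quotient.factorₐ_apply_mk,
      Ideal.Quotient.factorₐ_apply_mk]
  have hPj : ∀ j : ℕ, P (𝔐 ^ j * I) := by
    intro j
    induction j with
    | zero => rw [pow_zero, Ideal.one_eq_top, Ideal.top_mul]; exact hP0
    | succ j ih =>
      have := hstep _ ih
      rwa [← mul_assoc, ← pow_succ'] at this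
  obtain ⟨n, hn⟩ := hnil
  have hbot : 𝔐 ^ n * I = ⊥ := by
    rw [h𝔐, ← Ideal.map_pow, hn, Ideal.zero_eq_bot, Ideal.map_bot, Ideal.bot_mul]
  have hPbot : P ⊥ := hbot ▸ hPj n
  obtain ⟨hK, v, hv⟩ := hPbot
  refine ⟨((AlgEquiv.quotientBot A₁ C) : (C ⧸ (⊥ : Ideal C)) →ₐ[A₁] C).comp v, ?_⟩
  rw [← hv]
  apply AlgHom.ext
  intro b
  obtain ⟨c, hc⟩ := Ideal.Quotient.mk_surjective (v b)
  simp only [AlgHom.comp_apply]
  rw [← hc]
  have h1 : (AlgEquiv.quotientBot A₁ C) (Ideal.Quotient.mk ⊥ c) = c := rfl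
  change Ideal.Quotient.mk I ((AlgEquiv.quotientBot A₁ C) (Ideal.Quotient.mk ⊥ c)) = _
  rw [h1, Ideal.Quotient.factorₐ_apply_mk]

include 𝔪 in
/-- **EGA 0_IV 19.7.1, discrete nilpotent case.** -/
theorem formallySmooth (hnil : IsNilpotent 𝔪)
    (hk : Function.Surjective (algebraMap A₁ k₁)) (hkk : RingHom.ker (algebraMap A₁ k₁) = 𝔪)
    (hB : Function.Surjective (algebraMap B₁ B₀))
    (hBk : RingHom.ker (algebraMap B₁ B₀) = 𝔪.map (algebraMap A₁ B₁))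
    [Algebra.FormallySmooth k₁ B₀] : Algebra.FormallySmooth A₁ B₁ := by
  rw [Algebra.FormallySmooth.iff_comp_surjective]
  intro C _ _ I hI u
  exact exists_lift_sq_zero 𝔪 hnil hk hkk hB hBk I hI u

end Groth.Agent.Lead.FlatFibreSmooth
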