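import Groth.Agent.Lead.FlatFibreSmooth
import Groth.Prelude.Def_EGA41

/-!
# Flat + formally smooth closed fibre ⇒ formally smooth modulo every power; adic formal smoothness
-/

universe u
open TensorProduct IsLocalRing

namespace Groth.Agent.Lead.FlatFibreSmooth

/-- Nakayama for nilpotent ideals, no finiteness. -/
theorem eq_top_of_sup_smul_top_of_nilpotent' {R : Type*} [CommRing R] {M : Type*} [AddCommGroup M]
    [Module R M] {I : Ideal R} (hI : IsNilpotent I) {N : Submodule R M}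
    (h : N ⊔ I • (⊤ : Submodule R M) = ⊤) : N = ⊤ := by
  obtain ⟨n, hn⟩ := hI
  have key : ∀ k : ℕ, N ⊔ (I ^ k) • (⊤ : Submodule R M) = ⊤ := by
    intro k
    induction k with
    | zero => simp
    | succ k ih =>
      rw [eq_top_iff]
      calc (⊤ : Submodule R M) = N ⊔ I • (⊤ : Submodule R M) := h.symm
        _ = N ⊔ I • (N ⊔ (I ^ k) • (⊤ : Submodule R M)) := by rw [ih]
        _ = N ⊔ (I • N ⊔ I • (I ^ k) • (⊤ : Submodule R M)) := by rw [Submodule.smul_sup]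
        _ ≤ N ⊔ (I ^ (k + 1)) • (⊤ : Submodule R M) := by
          rw [pow_succ', Submodule.mul_smul]
          refine sup_le le_sup_left (sup_le ?_ le_sup_right)
          exact Submodule.smul_le_right.trans le_sup_left
  have := key n
  rw [hn, Ideal.zero_eq_bot, Submodule.bot_smul, sup_bot_eq] at this
  exact this

/-- Flat over a local ring with nilpotent maximal ideal ⇒ free (any universes). -/
theorem free_of_flat_of_nilpotent' {R : Type*} [CommRing R] [IsLocalRing R] {M : Type*}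
    [AddCommGroup M] [Module R M] [Module.Flat R M] (hnil : IsNilpotent (maximalIdeal R)) :
    Module.Free R M := by
  classical
  let b := Module.Free.chooseBasis (ResidueField R) (ResidueField R ⊗[R] M)
  have hs : Function.Surjective (TensorProduct.mk R (ResidueField R) M 1) :=
    TensorProduct.mk_surjective R M (ResidueField R) Ideal.Quotient.mk_surjective
  choose v hv using fun i => hs (b i)
  have hcomp : (TensorProduct.mk R (ResidueField R) M 1 ∘ v) = b := funext hv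
  have hli : LinearIndependent R v := by
    apply Module.IsLocalRing.linearIndependent_of_flat
    rw [hcomp]
    exact b.linearIndependent
  have h1 : (Submodule.span R (Set.range v)).map (TensorProduct.mk R (ResidueField R) M 1) = ⊤ := by
    rw [Submodule.map_span, ← Submodule.restrictScalars_span R (ResidueField R)
      Ideal.Quotient.mk_surjective, Submodule.restrictScalars_eq_top_iff, ← Set.range_comp, hcomp,
      b.span_eq]
  have h2 : Submodule.span R (Set.range v) ⊔ (maximalIdeal R) • (⊤ : Submodule R M) = ⊤ := by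
    rw [eq_top_iff]
    intro p _
    have hp : TensorProduct.mk R (ResidueField R) M 1 p ∈
        (Submodule.span R (Set.range v)).map (TensorProduct.mk R (ResidueField R) M 1) := by
      rw [h1]; trivial
    obtain ⟨n, hn, hnp⟩ := hp
    have hker : p - n ∈ LinearMap.ker (TensorProduct.mk R (R ⧸ maximalIdeal R) M 1) := by
      rw [LinearMap.mem_ker, map_sub]
      exact sub_eq_zero.mpr hnp.symm
    rw [LinearMap.ker_tensorProductMk] at hker
    have : p = n + (p - n) := by abel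
    rw [this]
    exact Submodule.add_mem_sup hn hker
  have hsp := eq_top_of_sup_smul_top_of_nilpotent' hnil h2
  exact Module.Free.of_basis (Module.Basis.mk hli hsp.ge)

/-- `A/𝔞^k` is local with nilpotent maximal ideal when `𝔞` is maximal and `k ≥ 1`. -/
theorem isLocalRing_quotient_pow {A : Type*} [CommRing A] (𝔞 : Ideal A) [h𝔞 : 𝔞.IsMaximal]
    (k : ℕ) (hk : 1 ≤ k) :
    ∃ _ : IsLocalRing (A ⧸ 𝔞 ^ k),
      maximalIdeal (A ⧸ 𝔞 ^ k) = 𝔞.map (Ideal.Quotient.mk (𝔞 ^ k)) := by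
  have hk0 : k ≠ 0 := by omega
  have hle : 𝔞 ^ k ≤ 𝔞 := Ideal.pow_le_self hk0
  set 𝔪₁ : Ideal (A ⧸ 𝔞 ^ k) := 𝔞.map (Ideal.Quotient.mk (𝔞 ^ k)) with h𝔪₁
  have hcomap : 𝔪₁.comap (Ideal.Quotient.mk (𝔞 ^ k)) = 𝔞 := by
    rw [h𝔪₁, Ideal.comap_map_of_surjective _ Ideal.Quotient.mk_surjective, ← RingHom.ker_eq_comap_bot,
      Ideal.mk_ker, sup_eq_left.mpr hle]
  have hne : 𝔪₁ ≠ ⊤ := by
    intro htop
    rw [htop, Ideal.comap_top] at hcomap
    exact h𝔞.ne_top hcomap.symm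
  have hmax : 𝔪₁.IsMaximal :=
    (Ideal.map_eq_top_or_isMaximal_of_surjective _ Ideal.Quotient.mk_surjective h𝔞).resolve_left hne
  have hnil : 𝔪₁ ^ k = ⊥ := by
    rw [h𝔪₁, ← Ideal.map_pow, Ideal.map_quotient_self]
  have huniq : ∀ M : Ideal (A ⧸ 𝔞 ^ k), M.IsMaximal → M = 𝔪₁ := by
    intro M hM
    have hle' : 𝔪₁ ≤ M := by
      intro x hx
      have hxk : x ^ k ∈ 𝔪₁ ^ k := Ideal.pow_mem_pow hx k
      rw [hnil, Ideal.mem_bot] at hxk
      exact hM.isPrime.mem_of_pow_mem k (hxk ▸ M.zero_mem)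
    exact (hmax.eq_of_le hM.ne_top hle').symm
  haveI : IsLocalRing (A ⧸ 𝔞 ^ k) := IsLocalRing.of_unique_max_ideal ⟨𝔪₁, hmax, huniq⟩
  exact ⟨inferInstance, (IsLocalRing.eq_maximalIdeal hmax).symm⟩

/-- **Flat with formally smooth closed fibre ⇒ formally smooth modulo every power.** -/
theorem formallySmooth_quotient_pow {A : Type*} {B : Type*} [CommRing A] [CommRing B] [Algebra A B]
    [Module.Flat A B] (𝔞 : Ideal A) [h𝔞 : 𝔞.IsMaximal]
    [Algebra.FormallySmooth (A ⧸ 𝔞) (B ⧸ 𝔞.map (algebraMap A B))] (k : ℕ) (hk : 1 ≤ k) :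
    Algebra.FormallySmooth (A ⧸ 𝔞 ^ k) (B ⧸ (𝔞 ^ k).map (algebraMap A B)) := by
  have hk0 : k ≠ 0 := by omega
  have hle : 𝔞 ^ k ≤ 𝔞 := Ideal.pow_le_self hk0
  have hleB : (𝔞 ^ k).map (algebraMap A B) ≤ 𝔞.map (algebraMap A B) := Ideal.map_mono hle
  obtain ⟨hloc, hmaxeq⟩ := isLocalRing_quotient_pow 𝔞 k hk
  set 𝔪₁ : Ideal (A ⧸ 𝔞 ^ k) := 𝔞.map (Ideal.Quotient.mk (𝔞 ^ k)) with h𝔪₁
  have hnil : IsNilpotent 𝔪₁ := ⟨k, by
    rw [h𝔪₁, ← Ideal.map_pow, Ideal.map_quotient_self, Ideal.zero_eq_bot]⟩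
  -- projectivity
  haveI : Module.Flat (A ⧸ 𝔞 ^ k) (B ⧸ (𝔞 ^ k).map (algebraMap A B)) :=
    Module.Flat.of_linearEquiv
      (Algebra.TensorProduct.quotIdealMapEquivQuotTensor B (𝔞 ^ k)).toLinearEquiv
  haveI : Module.Free (A ⧸ 𝔞 ^ k) (B ⧸ (𝔞 ^ k).map (algebraMap A B)) :=
    free_of_flat_of_nilpotent' (hmaxeq ▸ hnil)
  -- algebra structures
  letI i1 : Algebra (A ⧸ 𝔞 ^ k) (A ⧸ 𝔞) := (Ideal.Quotient.factor hle).toAlgebra
  letI i2 : Algebra (B ⧸ (𝔞 ^ k).map (algebraMap A B)) (B ⧸ 𝔞.map (algebraMap A B)) :=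
    (Ideal.Quotient.factor hleB).toAlgebra
  letI i3 : Algebra (A ⧸ 𝔞 ^ k) (B ⧸ 𝔞.map (algebraMap A B)) :=
    ((algebraMap (A ⧸ 𝔞) (B ⧸ 𝔞.map (algebraMap A B))).comp
      (algebraMap (A ⧸ 𝔞 ^ k) (A ⧸ 𝔞))).toAlgebra
  haveI t1 : IsScalarTower (A ⧸ 𝔞 ^ k) (A ⧸ 𝔞) (B ⧸ 𝔞.map (algebraMap A B)) :=
    IsScalarTower.of_algebraMap_eq (fun _ => rfl)
  haveI t2 : IsScalarTower (A ⧸ 𝔞 ^ k) (B ⧸ (𝔞 ^ k).map (algebraMap A B))
      (B ⧸ 𝔞.map (algebraMap A B)) := by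
    refine IsScalarTower.of_algebraMap_eq (fun x => ?_)
    obtain ⟨a, rfl⟩ := Ideal.Quotient.mk_surjective x
    rfl
  refine formallySmooth 𝔪₁ hnil (k₁ := A ⧸ 𝔞) (B₀ := B ⧸ 𝔞.map (algebraMap A B))
    (Ideal.Quotient.factor_surjective hle) (Ideal.Quotient.factor_ker hle)
    (Ideal.Quotient.factor_surjective hleB) ?_
  have h1 : RingHom.ker (algebraMap (B ⧸ (𝔞 ^ k).map (algebraMap A B))
      (B ⧸ 𝔞.map (algebraMap A B))) =
      (𝔞.map (algebraMap A B)).map (Ideal.Quotient.mk ((𝔞 ^ k).map (algebraMap A B))) :=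
    Ideal.Quotient.factor_ker hleB
  rw [h1, h𝔪₁, Ideal.map_map, Ideal.map_map]
  rfl

open EGA41 in
/-- Adic formal smoothness from formal smoothness modulo every power of `𝔞`. -/
theorem isFormallySmoothAdic_of_forall_quotient {A B : Type u} [CommRing A] [CommRing B]
    [Algebra A B] (𝔞 : Ideal A) (𝔟 : Ideal B)
    (H : ∀ k : ℕ, 1 ≤ k →
      Algebra.FormallySmooth (A ⧸ 𝔞 ^ k) (B ⧸ (𝔞 ^ k).map (algebraMap A B))) :
    EGA41.IsFormallySmoothAdic A 𝔞 B 𝔟 := by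
  intro C _ _ J hJ hk u _
  obtain ⟨k₀, hk₀⟩ := hk
  -- replace `k₀` by `k = k₀ + 1`
  have hk : (𝔞 ^ (k₀ + 1)).map (algebraMap A C) = ⊥ := by
    rw [eq_bot_iff, ← hk₀]
    exact Ideal.map_mono (Ideal.pow_le_pow_right (Nat.le_succ k₀))
  set k := k₀ + 1 with hkdef
  haveI := H k (by omega)
  have hzero : ∀ a ∈ 𝔞 ^ k, algebraMap A C a = 0 := by
    intro a ha
    have : algebraMap A C a ∈ (𝔞 ^ k).map (algebraMap A C) := Ideal.mem_map_of_mem _ ha
    rwa [hk, Ideal.mem_bot] at this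
  letI : Algebra (A ⧸ 𝔞 ^ k) C := (Ideal.Quotient.lift (𝔞 ^ k) (algebraMap A C) hzero).toAlgebra
  haveI : IsScalarTower A (A ⧸ 𝔞 ^ k) C := IsScalarTower.of_algebraMap_eq (fun _ => rfl)
  have huzero : ∀ x ∈ (𝔞 ^ k).map (algebraMap A B), u x = 0 := by
    intro x hx
    have h1 : (u : B →+* C ⧸ J) x ∈ ((𝔞 ^ k).map (algebraMap A B)).map (u : B →+* C ⧸ J) :=
      Ideal.mem_map_of_mem _ hx
    rw [Ideal.map_map, AlgHom.comp_algebraMap, IsScalarTower.algebraMap_eq A C (C ⧸ J),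
      ← Ideal.map_map, hk, Ideal.map_bot, Ideal.mem_bot] at h1
    exact h1
  let ū₀ : (B ⧸ (𝔞 ^ k).map (algebraMap A B)) →ₐ[A] C ⧸ J :=
    Ideal.Quotient.liftₐ ((𝔞 ^ k).map (algebraMap A B)) u huzero
  let ū : (B ⧸ (𝔞 ^ k).map (algebraMap A B)) →ₐ[A ⧸ 𝔞 ^ k] C ⧸ J :=
    AlgHom.extendScalarsOfSurjective Ideal.Quotient.mk_surjective ū₀
  let vbar : (B ⧸ (𝔞 ^ k).map (algebraMap A B)) →ₐ[A ⧸ 𝔞 ^ k] C :=
    Algebra.FormallySmooth.lift J hJ ū
  refine ⟨(vbar.restrictScalars A).comp (Ideal.Quotient.mkₐ A _), ?_⟩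
  apply AlgHom.ext
  intro b
  have h1 : Ideal.Quotient.mk J (vbar (Ideal.Quotient.mk _ b)) = ū (Ideal.Quotient.mk _ b) :=
    Algebra.FormallySmooth.mk_lift J hJ ū _
  exact h1

end Groth.Agent.Lead.FlatFibreSmooth
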