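import Groth.Agent.H31.KFlatResolution

/-!
# Naturality of cell attachment (lead library, on top of helper31's `CellAttach`)

The cell attachment of `Groth.Agent.H31.Cell` is natural with respect to commutative squares.
-/

set_option autoImplicit false
set_option backward.isDefEq.respectTransparency false

namespace Groth.Agent.Lead.FunctRes

open CategoryTheory Limits HomologicalComplex CochainComplex HomComplex
open Groth.Agent.H31

variable {D : Type*} [Category D] [Abelian D]

section CellNat

variable {P K P' K' : CochainComplex D ℤ} (φ : P ⟶ K) (φ' : P' ⟶ K') (a : P ⟶ P') (b : K ⟶ K')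
  (comm : φ ≫ b = a ≫ φ') (i : ℤ) {F F' : D} (z : F ⟶ (mappingCone φ).X i)
  (z' : F' ⟶ (mappingCone φ').X i) (c : F ⟶ F')

theorem map_f_fst :
    (mappingCone.map φ φ' a b comm).f i ≫ (mappingCone.fst φ').1.v i (i + 1) rfl =
      (mappingCone.fst φ).1.v i (i + 1) rfl ≫ a.f (i + 1) := by
  simp [mappingCone.map, mappingCone.desc_f _ _ _ _ i (i + 1) rfl]

theorem map_f_snd :
    (mappingCone.map φ φ' a b comm).f i ≫ (mappingCone.snd φ').v i i (add_zero i) =
      (mappingCone.snd φ).v i i (add_zero i) ≫ b.f i := by
  simp [mappingCone.map, mappingCone.desc_f _ _ _ _ i (i + 1) rfl]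

variable (hc : z ≫ (mappingCone.map φ φ' a b comm).f i = c ≫ z')

include hc in
theorem za_nat : Cell.za φ i z ≫ a.f (i + 1) = c ≫ Cell.za φ' i z' := by
  unfold Cell.za
  rw [Category.assoc, ← map_f_fst φ φ' a b comm i, ← Category.assoc, hc, Category.assoc]

include hc in
theorem zb_nat : Cell.zb φ i z ≫ b.f i = c ≫ Cell.zb φ' i z' := by
  unfold Cell.zb
  rw [Category.assoc, ← map_f_snd φ φ' a b comm i, ← Category.assoc, hc, Category.assoc]

variable (hz : z ≫ (mappingCone φ).d i (i + 1) = 0) (hz' : z' ≫ (mappingCone φ').d i (i + 1) = 0)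

include hc in
theorem cellMap_nat :
    Cell.cellMap φ i z hz ≫ a = (singleFunctor D (i + 1)).map c ≫ Cell.cellMap φ' i z' hz' := by
  apply Cochain.ofHom_injective
  rw [Cochain.ofHom_comp, Cochain.ofHom_comp, Cell.ofHom_cellMap, Cell.ofHom_cellMap,
    ← Cochain.fromSingleMk_postcomp, ← Cochain.fromSingleMk_precomp,
    za_nat φ φ' a b comm i z z' c hc]

include hc in
theorem cellCochain_nat :
    (Cell.cellCochain φ i z).comp (Cochain.ofHom b) (add_zero (-1)) =
      (Cochain.ofHom ((singleFunctor D (i + 1)).map c)).comp (Cell.cellCochain φ' i z')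
        (zero_add (-1)) := by
  unfold Cell.cellCochain
  rw [← Cochain.fromSingleMk_postcomp, ← Cochain.fromSingleMk_precomp, Preadditive.neg_comp,
    Preadditive.comp_neg, zb_nat φ φ' a b comm i z z' c hc]

/-- The induced map between the complexes with a cell attached. -/
noncomputable def cellAttachMap :
    mappingCone (Cell.cellMap φ i z hz) ⟶ mappingCone (Cell.cellMap φ' i z' hz') :=
  mappingCone.map _ _ ((singleFunctor D (i + 1)).map c) a
    (cellMap_nat φ φ' a b comm i z z' c hc hz hz')

theorem inr_cellAttachMap :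
    mappingCone.inr (Cell.cellMap φ i z hz) ≫ cellAttachMap φ φ' a b comm i z z' c hc hz hz' =
      a ≫ mappingCone.inr (Cell.cellMap φ' i z' hz') := by
  simp [cellAttachMap, mappingCone.map]

theorem cellAttachMap_cellDesc :
    cellAttachMap φ φ' a b comm i z z' c hc hz hz' ≫ Cell.cellDesc φ' i z' hz' =
      Cell.cellDesc φ i z hz ≫ b := by
  ext n
  rw [mappingCone.ext_from_iff _ (n + 1) n rfl]
  constructor
  · have h := Cochain.congr_v (cellCochain_nat φ φ' a b comm i z z' c hc) (n + 1) n (by omega)
    rw [Cochain.comp_zero_cochain_v, Cochain.ofHom_v, Cochain.zero_cochain_comp_v,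
      Cochain.ofHom_v] at h
    simp only [cellAttachMap, mappingCone.map, Cell.cellDesc, HomologicalComplex.comp_f,
      mappingCone.inl_v_desc_f_assoc, mappingCone.inl_v_desc_f, Cochain.zero_cochain_comp_v,
      Cochain.ofHom_v, Category.assoc]
    exact h.symm
  · simp only [cellAttachMap, mappingCone.map, Cell.cellDesc, HomologicalComplex.comp_f,
      mappingCone.inr_f_desc_f_assoc, mappingCone.inr_f_desc_f, Category.assoc]
    have := congrArg (fun t => t.f n) comm
    simpa using this.symm

end CellNat

end Groth.Agent.Lead.FunctRes
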