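import Groth.Agent.Lead.FunctRes1

/-!
# Functorial resolutions by iterated cell attachment (lead library)

A functorial version of `Groth.Agent.H31.Resolution.exists_resolution`: given a functorial cover
`πc : Fc ⟶ 𝟭 D` by epimorphisms, the iterated cell attachment is functorial in the complex.
-/

set_option autoImplicit false
set_option backward.isDefEq.respectTransparency false

namespace Groth.Agent.Lead.FunctRes

open CategoryTheory Limits HomologicalComplex CochainComplex HomComplex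
open Groth.Agent.H31

variable {D : Type*} [Category D] [Abelian D]

theorem mappingCone_map_eq_id {K L : CochainComplex D ℤ} (φ : K ⟶ L) (a : K ⟶ K) (b : L ⟶ L)
    (comm : φ ≫ b = a ≫ φ) (ha : a = 𝟙 _) (hb : b = 𝟙 _) :
    mappingCone.map φ φ a b comm = 𝟙 _ := by
  subst ha hb
  exact mappingCone.map_id φ

theorem mappingCone_map_eq_comp {K₁ L₁ K₂ L₂ K₃ L₃ : CochainComplex D ℤ} (φ₁ : K₁ ⟶ L₁)
    (φ₂ : K₂ ⟶ L₂) (φ₃ : K₃ ⟶ L₃) (a₁₃ : K₁ ⟶ K₃) (b₁₃ : L₁ ⟶ L₃) (a₁₂ : K₁ ⟶ K₂)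
    (b₁₂ : L₁ ⟶ L₂) (a₂₃ : K₂ ⟶ K₃) (b₂₃ : L₂ ⟶ L₃) (comm₁₃ : φ₁ ≫ b₁₃ = a₁₃ ≫ φ₃)
    (comm₁₂ : φ₁ ≫ b₁₂ = a₁₂ ≫ φ₂) (comm₂₃ : φ₂ ≫ b₂₃ = a₂₃ ≫ φ₃) (ha : a₁₃ = a₁₂ ≫ a₂₃)
    (hb : b₁₃ = b₁₂ ≫ b₂₃) :
    mappingCone.map φ₁ φ₃ a₁₃ b₁₃ comm₁₃ =
      mappingCone.map φ₁ φ₂ a₁₂ b₁₂ comm₁₂ ≫ mappingCone.map φ₂ φ₃ a₂₃ b₂₃ comm₂₃ := by
  subst ha hb
  exact mappingCone.map_comp φ₁ φ₂ φ₃ a₁₂ b₁₂ comm₁₂ a₂₃ b₂₃ comm₂₃

/-- A quasi-isomorphism criterion for maps from a sequential colimit. -/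
theorem quasiIso_of_seq [HasColimitsOfShape ℕ D] [HasExactColimitsOfShape ℕ D]
    (Φ : ℕ ⥤ CochainComplex D ℤ) {K : CochainComplex D ℤ} (φ : ∀ n, Φ.obj n ⟶ K)
    (hφ : ∀ {n n' : ℕ} (f : n ⟶ n'), Φ.map f ≫ φ n' = φ n)
    (s : Cocone Φ) (hs : IsColimit s) (q : s.pt ⟶ K) (hq : ∀ n, s.ι.app n ≫ q = φ n)
    (hkill : ∀ m, homologyMap ((ConeColim.coneFunctor Φ φ hφ).map (homOfLE (Nat.le_succ m)))
      (Resolution.deg m) = 0) :
    QuasiIso q := by
  rw [KFlat.quasiIso_iff_acyclic_mappingCone]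
  intro i
  rw [exactAt_iff_isZero_homology]
  have hc := ConeColim.isColimitConeCocone Φ φ hφ s q hq hs
  refine SeqColim.isZero_homology_of_isColimit _ _ hc i (fun n => ?_)
  obtain ⟨m, hnm, hm⟩ := Resolution.exists_deg i n
  refine ⟨m, hnm, ?_⟩
  subst hm
  exact hkill m

variable (D) in
/-- A functorial stage: a functor with a natural transformation to the identity. -/
structure FStage where
  /-- the functor -/
  P : CochainComplex D ℤ ⥤ CochainComplex D ℤ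
  /-- the structure map -/
  φ : P ⟶ 𝟭 (CochainComplex D ℤ)

variable (Fc : D ⥤ D) (πc : Fc ⟶ 𝟭 D) [∀ X, Epi (πc.app X)]

namespace FStage

variable (s : FStage D)

/-- The stage over `K`. -/
def st (K : CochainComplex D ℤ) : Resolution.Stage K := ⟨s.P.obj K, s.φ.app K⟩

theorem comm {K K' : CochainComplex D ℤ} (f : K ⟶ K') :
    s.φ.app K ≫ f = s.P.map f ≫ s.φ.app K' :=
  (s.φ.naturality f).symm

/-- The induced map on mapping cones. -/
noncomputable def coneMap {K K' : CochainComplex D ℤ} (f : K ⟶ K') :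
    mappingCone (s.φ.app K) ⟶ mappingCone (s.φ.app K') :=
  mappingCone.map _ _ (s.P.map f) f (s.comm f)

theorem coneMap_id (K : CochainComplex D ℤ) : s.coneMap (𝟙 K) = 𝟙 _ :=
  mappingCone_map_eq_id _ _ _ _ (s.P.map_id K) rfl

theorem coneMap_comp {K K' K'' : CochainComplex D ℤ} (f : K ⟶ K') (g : K' ⟶ K'') :
    s.coneMap (f ≫ g) = s.coneMap f ≫ s.coneMap g :=
  mappingCone_map_eq_comp _ _ _ _ _ _ _ _ _ _ _ _ (s.P.map_comp f g) rfl

/-- The map between the covers of the cycles. -/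
noncomputable def cyc (i : ℤ) {K K' : CochainComplex D ℤ} (f : K ⟶ K') :
    Fc.obj ((mappingCone (s.φ.app K)).cycles i) ⟶ Fc.obj ((mappingCone (s.φ.app K')).cycles i) :=
  Fc.map (cyclesMap (s.coneMap f) i)

theorem cyc_id (i : ℤ) (K : CochainComplex D ℤ) : s.cyc Fc i (𝟙 K) = 𝟙 _ := by
  simp [cyc, coneMap_id]

theorem cyc_comp (i : ℤ) {K K' K'' : CochainComplex D ℤ} (f : K ⟶ K') (g : K' ⟶ K'') :
    s.cyc Fc i (f ≫ g) = s.cyc Fc i f ≫ s.cyc Fc i g := by
  simp [cyc, coneMap_comp, cyclesMap_comp]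

omit [∀ X, Epi (πc.app X)] in
theorem hc (i : ℤ) {K K' : CochainComplex D ℤ} (f : K ⟶ K') :
    (s.st K).z Fc.obj (fun X => πc.app X) i ≫ (s.coneMap f).f i =
      s.cyc Fc i f ≫ (s.st K').z Fc.obj (fun X => πc.app X) i := by
  have h1 := πc.naturality (cyclesMap (s.coneMap f) i)
  have h2 := cyclesMap_i (s.coneMap f) i
  dsimp at h1
  simp only [Resolution.Stage.z, st, cyc, Category.assoc]
  rw [← h2, ← Category.assoc, ← h1, Category.assoc]

/-- The functor of the next stage. -/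
noncomputable def nextP (i : ℤ) : CochainComplex D ℤ ⥤ CochainComplex D ℤ where
  obj K := ((s.st K).next Fc.obj (fun X => πc.app X) i).P
  map {K K'} f := cellAttachMap (s.φ.app K) (s.φ.app K') (s.P.map f) f (s.comm f) i
    ((s.st K).z Fc.obj (fun X => πc.app X) i) ((s.st K').z Fc.obj (fun X => πc.app X) i)
    (s.cyc Fc i f) (s.hc Fc πc i f)
    ((s.st K).hz Fc.obj (fun X => πc.app X) i) ((s.st K').hz Fc.obj (fun X => πc.app X) i)
  map_id K := by
    unfold cellAttachMap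
    exact mappingCone_map_eq_id _ _ _ _
      (by rw [cyc_id]; exact (singleFunctor D (i + 1)).map_id _) (s.P.map_id K)
  map_comp {K K' K''} f g := by
    unfold cellAttachMap
    exact mappingCone_map_eq_comp _ _ _ _ _ _ _ _ _ _ _ _
      (by rw [cyc_comp]; exact (singleFunctor D (i + 1)).map_comp _ _) (s.P.map_comp f g)

/-- The next functorial stage. -/
noncomputable def next (i : ℤ) : FStage D where
  P := s.nextP Fc πc i
  φ :=
    { app := fun K => ((s.st K).next Fc.obj (fun X => πc.app X) i).φ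
      naturality := fun K K' f =>
        cellAttachMap_cellDesc (s.φ.app K) (s.φ.app K') (s.P.map f) f (s.comm f) i
          ((s.st K).z Fc.obj (fun X => πc.app X) i) ((s.st K').z Fc.obj (fun X => πc.app X) i)
          (s.cyc Fc i f) (s.hc Fc πc i f)
          ((s.st K).hz Fc.obj (fun X => πc.app X) i) ((s.st K').hz Fc.obj (fun X => πc.app X) i) }

/-- The inclusion into the next stage. -/
noncomputable def nextMap (i : ℤ) : s.P ⟶ (s.next Fc πc i).P where
  app K := (s.st K).nextMap Fc.obj (fun X => πc.app X) i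
  naturality K K' f :=
    (inr_cellAttachMap (s.φ.app K) (s.φ.app K') (s.P.map f) f (s.comm f) i
      ((s.st K).z Fc.obj (fun X => πc.app X) i) ((s.st K').z Fc.obj (fun X => πc.app X) i)
      (s.cyc Fc i f) (s.hc Fc πc i f)
      ((s.st K).hz Fc.obj (fun X => πc.app X) i) ((s.st K').hz Fc.obj (fun X => πc.app X) i)).symm

theorem nextMap_φ (i : ℤ) : s.nextMap Fc πc i ≫ (s.next Fc πc i).φ = s.φ := by
  ext K : 2
  exact Resolution.Stage.nextMap_φ Fc.obj (fun X => πc.app X) (s.st K) i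

end FStage

end Groth.Agent.Lead.FunctRes
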