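import Groth.Agent.Lead.FunctRes2

/-!
# Functorial resolutions by iterated cell attachment: the colimit (lead library)
-/

set_option autoImplicit false
set_option backward.isDefEq.respectTransparency false

namespace Groth.Agent.Lead.FunctRes

open CategoryTheory Limits HomologicalComplex CochainComplex HomComplex
open Groth.Agent.H31
open ZeroObject

variable {D : Type*} [Category D] [Abelian D]

variable (D) in
/-- The zero stage. -/
noncomputable def zeroStage : FStage D where
  P := (Functor.const _).obj 0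
  φ := { app := fun _ => 0 }

variable (Fc : D ⥤ D) (πc : Fc ⟶ 𝟭 D) [∀ X, Epi (πc.app X)]

/-- The sequence of functorial stages. -/
noncomputable def stageF : ℕ → FStage D
  | 0 => zeroStage D
  | n + 1 => (stageF n).next Fc πc (Resolution.deg n)

/-- The transition maps. -/
noncomputable def stageMapF (n : ℕ) : (stageF Fc πc n).P ⟶ (stageF Fc πc (n + 1)).P :=
  (stageF Fc πc n).nextMap Fc πc (Resolution.deg n)

theorem stageMapF_φ (n : ℕ) :
    stageMapF Fc πc n ≫ (stageF Fc πc (n + 1)).φ = (stageF Fc πc n).φ :=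
  FStage.nextMap_φ Fc πc _ _

/-- The sequence of functors. -/
noncomputable def seqF : ℕ ⥤ (CochainComplex D ℤ ⥤ CochainComplex D ℤ) :=
  Functor.ofSequence (stageMapF Fc πc)

theorem seqF_map_succ (n : ℕ) :
    (seqF Fc πc).map (homOfLE (Nat.le_succ n)) = stageMapF Fc πc n :=
  Functor.ofSequence_map_homOfLE_succ _ n

/-- The maps to the identity functor, as a natural transformation. -/
noncomputable def toId : seqF Fc πc ⟶ (Functor.const ℕ).obj (𝟭 (CochainComplex D ℤ)) :=
  NatTrans.ofSequence (fun n => (stageF Fc πc n).φ) (fun n => by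
    have h : (seqF Fc πc).map (homOfLE (n.le_add_right 1)) = stageMapF Fc πc n :=
      Functor.ofSequence_map_homOfLE_succ _ n
    rw [h]
    dsimp
    rw [Category.comp_id]
    exact stageMapF_φ Fc πc n)

theorem toId_app (n : ℕ) : (toId Fc πc).app n = (stageF Fc πc n).φ := rfl

section

variable (K : CochainComplex D ℤ)

/-- The sequence of complexes over `K`. -/
noncomputable def seqAt : ℕ ⥤ CochainComplex D ℤ :=
  seqF Fc πc ⋙ (evaluation _ _).obj K

/-- The maps to `K`. -/
noncomputable def φsAt (n : ℕ) : (seqAt Fc πc K).obj n ⟶ K := (stageF Fc πc n).φ.app K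

theorem hφsAt {n n' : ℕ} (f : n ⟶ n') :
    (seqAt Fc πc K).map f ≫ φsAt Fc πc K n' = φsAt Fc πc K n := by
  have h := congrArg (fun t => t.app K) ((toId Fc πc).naturality f)
  dsimp at h
  rw [Category.comp_id] at h
  exact h

theorem seqAt_map_succ (m : ℕ) :
    (seqAt Fc πc K).map (homOfLE (Nat.le_succ m)) =
      ((stageF Fc πc m).st K).nextMap Fc.obj (fun X => πc.app X) (Resolution.deg m) := by
  dsimp [seqAt]
  rw [seqF_map_succ]
  rfl

theorem hkillAt (m : ℕ) :
    homologyMap ((ConeColim.coneFunctor (seqAt Fc πc K) (φsAt Fc πc K)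
      (fun f => hφsAt Fc πc K f)).map (homOfLE (Nat.le_succ m))) (Resolution.deg m) = 0 := by
  have h0 := Resolution.Stage.homologyMap_eq_zero Fc.obj (fun X => πc.app X)
    ((stageF Fc πc m).st K) (Resolution.deg m)
  rw [ConeColim.coneFunctor_map]
  rw [ConeColim.map_congr _ _ (seqAt_map_succ Fc πc K m) rfl _
    (by rw [Category.comp_id]; exact (congrArg (fun t => t.app K) (stageMapF_φ Fc πc m)).symm)]
  exact h0

end

variable [HasColimitsOfShape ℕ D]

/-- The resolution functor. -/
noncomputable def resFunctor : CochainComplex D ℤ ⥤ CochainComplex D ℤ := colimit (seqF Fc πc)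

/-- The natural map from the resolution functor. -/
noncomputable def resMap : resFunctor Fc πc ⟶ 𝟭 (CochainComplex D ℤ) :=
  colimit.desc (seqF Fc πc) ⟨𝟭 _, toId Fc πc⟩

section

variable (K : CochainComplex D ℤ)

/-- The cocone over `K`. -/
noncomputable def coconeAt : Cocone (seqAt Fc πc K) :=
  ((evaluation _ _).obj K).mapCocone (colimit.cocone (seqF Fc πc))

/-- The cocone over `K` is colimit. -/
noncomputable def isColimitCoconeAt : IsColimit (coconeAt Fc πc K) :=
  isColimitOfPreserves _ (colimit.isColimit _)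

theorem coconeAt_ι_resMap (n : ℕ) :
    (coconeAt Fc πc K).ι.app n ≫ (resMap Fc πc).app K = φsAt Fc πc K n := by
  have h := congrArg (fun t => t.app K) (colimit.ι_desc (⟨𝟭 _, toId Fc πc⟩ : Cocone (seqF Fc πc)) n)
  exact h

variable [HasExactColimitsOfShape ℕ D]

theorem quasiIso_resMap_app : QuasiIso ((resMap Fc πc).app K) :=
  quasiIso_of_seq (seqAt Fc πc K) (φsAt Fc πc K) (fun f => hφsAt Fc πc K f)
    (coconeAt Fc πc K) (isColimitCoconeAt Fc πc K) ((resMap Fc πc).app K)
    (coconeAt_ι_resMap Fc πc K) (hkillAt Fc πc K)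

end

include πc in
/-- Abstract existence of functorial resolutions: `KF` plays the role of K-flatness and `Fl` of
flatness. -/
theorem exists_functorial_resolution [HasExactColimitsOfShape ℕ D]
    (KF : CochainComplex D ℤ → Prop) (Fl : D → Prop)
    (hFc : ∀ X, Fl (Fc.obj X))
    (h_single : ∀ (F : D) (i : ℤ), Fl F → KF ((singleFunctor D i).obj F))
    (h_cone : ∀ {P Q : CochainComplex D ℤ} (f : P ⟶ Q), KF P → KF Q → KF (mappingCone f))
    (h_contr : ∀ P : CochainComplex D ℤ, Homotopy (𝟙 P) 0 → KF P)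
    (h_colim : ∀ (Φ : ℕ ⥤ CochainComplex D ℤ) (s : Cocone Φ), IsColimit s →
      (∀ m, KF (Φ.obj m)) → KF s.pt) :
    ∃ (P : CochainComplex D ℤ ⥤ CochainComplex D ℤ) (ψ : P ⟶ 𝟭 (CochainComplex D ℤ)),
      ∀ K : CochainComplex D ℤ, KF (P.obj K) ∧ QuasiIso (ψ.app K) := by
  refine ⟨resFunctor Fc πc, resMap Fc πc, fun K => ⟨?_, quasiIso_resMap_app Fc πc K⟩⟩
  have hstage : ∀ n, KF ((stageF Fc πc n).P.obj K) := by
    intro n
    induction n with
    | zero =>
      refine h_contr _ (Homotopy.ofEq ?_)
      exact (isZero_zero (CochainComplex D ℤ)).eq_of_src _ _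
    | succ n ih =>
      exact h_cone _ (h_single _ _ (hFc _)) ih
  exact h_colim (seqAt Fc πc K) (coconeAt Fc πc K) (isColimitCoconeAt Fc πc K) hstage

end Groth.Agent.Lead.FunctRes
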