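import Groth.Agent.Lead.FunctRes3
import Groth.Agent.H31.KFlatResolutionSite

/-!
# Functorial K-flat resolutions (lead library, on top of helper31's K-flat library)
-/

set_option autoImplicit false
set_option backward.isDefEq.respectTransparency false

namespace Groth.Agent.Lead.FunctRes

open CategoryTheory Limits HomologicalComplex CochainComplex
open Groth.Agent.H31 Groth.Agent.H31.KFlat

section Gen

variable {A : Type*} [Category A] [Abelian A]
  (T : A ⥤ A ⥤ A) [T.Additive] [∀ X, (T.obj X).Additive]
  [∀ (K₁ : CochainComplex A ℤ) (K₂ : CochainComplex A ℤ),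
    HasMapBifunctor K₁ K₂ T (ComplexShape.up ℤ)]

variable {T}

variable [∀ X : A, PreservesColimitsOfShape ℕ (T.obj X)] [HasColimitsOfShape ℕ A]
  [HasExactColimitsOfShape ℕ A]

variable [∀ ι : Type, HasColimitsOfShape (Discrete ι) A]
  [∀ ι : Type, HasExactColimitsOfShape (Discrete ι) A]

/-- Functorial K-flat resolutions from a functorial flat cover. -/
theorem exists_functorial_kflat_resolution (hT : TensorLike T) (Fc : A ⥤ A) (πc : Fc ⟶ 𝟭 A)
    [∀ X, Epi (πc.app X)] (hFc : ∀ X, (T.flip.obj (Fc.obj X)).PreservesMonomorphisms) :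
    ∃ (P : CochainComplex A ℤ ⥤ CochainComplex A ℤ) (ψ : P ⟶ 𝟭 (CochainComplex A ℤ)),
      ∀ K : CochainComplex A ℤ,
        (∀ L : CochainComplex A ℤ, L.Acyclic →
          (mapBifunctor L (P.obj K) T (ComplexShape.up ℤ)).Acyclic) ∧ QuasiIso (ψ.app K) := by
  refine exists_functorial_resolution Fc πc
    (fun P => ∀ L : CochainComplex A ℤ, L.Acyclic →
      (mapBifunctor L P T (ComplexShape.up ℤ)).Acyclic)
    (fun X => (T.flip.obj X).PreservesMonomorphisms) hFc ?_ ?_ ?_ ?_
  · intro F i hF L hL
    have hF' : (T.flip.obj (((singleFunctor A i).obj F).X i)).PreservesMonomorphisms :=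
      flat_of_iso (singleObjXSelf (ComplexShape.up ℤ) i F).symm hF
    have h1 := preservesFiniteLimits_flip_obj_of_flat hT _ hF'
    have h2 := hT.right_colim (((singleFunctor A i).obj F).X i)
    exact acyclic_mapBifunctor_of_concentrated T L ((singleFunctor A i).obj F) i
      (fun q hq => isZero_single_obj_X (ComplexShape.up ℤ) i F q hq) hL
  · intro P Q f hP hQ L hL
    exact (acyclic_mappingCone_right T L f).1 (hP L hL) (hQ L hL)
  · intro P h L _
    exact acyclic_mapBifunctor_of_contractible T L P h
  · intro Φ s hs h L hL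
    exact acyclic_mapBifunctor_of_isColimit T L Φ s hs (fun j => h j L hL)

end Gen

section Site

universe u

variable {C : Type u} [SmallCategory C] {J : GrothendieckTopology C} (O : Sheaf J CommRingCat.{u})

/-- The forgetful functor from presheaves of modules to presheaves of types. -/
noncomputable abbrev forgetPM : PM O ⥤ (Cᵒᵖ ⥤ Type u) :=
  PresheafOfModules.toPresheaf (R₀ O) ⋙ (Functor.whiskeringRight _ _ _).obj (forget Ab)

/-- The functorial flat cover of a sheaf of modules. -/
noncomputable def flatCover : ModSite.Mod O ⥤ ModSite.Mod O :=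
  incl O ⋙ (forgetPM O ⋙ PresheafOfModules.free (R₀ O)) ⋙ shf O

/-- The natural epimorphism from the flat cover. -/
noncomputable def flatCoverπ : flatCover O ⟶ 𝟭 (ModSite.Mod O) where
  app F := (shf O).map ((PresheafOfModules.freeAdjunction (R₀ O)).counit.app ((incl O).obj F)) ≫
    (shfAdj O).counit.app F
  naturality F F' f := by
    have h1 := (PresheafOfModules.freeAdjunction (R₀ O)).counit.naturality ((incl O).map f)
    have h2 := (shfAdj O).counit.naturality f
    dsimp only [flatCover, Functor.comp_obj, Functor.comp_map, Functor.id_obj, Functor.id_map]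
      at h1 h2 ⊢
    rw [Category.assoc, ← h2, ← Category.assoc, ← Category.assoc, ← Functor.map_comp, h1,
      Functor.map_comp]

instance (F : ModSite.Mod O) : Epi ((flatCoverπ O).app F) := by
  have : (shf O).IsLeftAdjoint := (shfAdj O).isLeftAdjoint
  have h1 : Epi ((shf O).map
      ((PresheafOfModules.freeAdjunction (R₀ O)).counit.app ((incl O).obj F))) := inferInstance
  have h2 : IsIso ((shfAdj O).counit.app F) := isIso_counit F
  have h3 : Epi ((shfAdj O).counit.app F) := inferInstance
  exact epi_comp' h1 h3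

theorem isFlat_flatCover (F : ModSite.Mod O) : ModSite.IsFlat ((flatCover O).obj F) :=
  isFlat_shf_of_pointwiseFlat _ (pointwiseFlat_freeObj _)

variable {O}

/-- Functorial K-flat resolutions on a ringed site. -/
theorem exists_functorial_isKFlat_resolution :
    ∃ (P : CochainComplex (ModSite.Mod O) ℤ ⥤ CochainComplex (ModSite.Mod O) ℤ)
      (ψ : P ⟶ 𝟭 (CochainComplex (ModSite.Mod O) ℤ)),
      ∀ G : CochainComplex (ModSite.Mod O) ℤ, ModSite.IsKFlat (P.obj G) ∧ QuasiIso (ψ.app G) := by
  have := hasExactColimitsOfShape_nat_Mod (O := O)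
  obtain ⟨P, ψ, h⟩ := exists_functorial_kflat_resolution (T := ModSite.tensorBi O)
    tensorLike_tensorBi (flatCover O) (flatCoverπ O)
    (fun X => (isFlat_iff_preservesMonomorphisms _).1 (isFlat_flatCover O X))
  exact ⟨P, ψ, fun G => ⟨(isKFlat_iff (P.obj G)).2 (h G).1, (h G).2⟩⟩

end Site

end Groth.Agent.Lead.FunctRes
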