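import Groth.Agent.Lead.KaehlerProj

/-!
# `𝔄 Ω_{B/A} = Ω_{B/A}` from uniqueness of one lifting problem into `(B/𝔄) ⊕ (B/𝔄) ⊗ Ω`
-/

universe u
open TensorProduct

namespace Groth.Agent.Lead.KaehlerProj

variable (A B : Type u) [CommRing A] [CommRing B] [Algebra A B] (𝔄 : Ideal B)

/-- `b ↦ (b mod 𝔄, 0)`. -/
noncomputable def u₀ : B →ₐ[A] C' A B 𝔄 where
  toFun b := TrivSqZeroExt.inl (algebraMap B (B ⧸ 𝔄) b)
  map_one' := by simp
  map_mul' x y := by simp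
  map_zero' := by simp
  map_add' x y := by simp
  commutes' a := by
    rw [TrivSqZeroExt.algebraMap_eq_inl', ← IsScalarTower.algebraMap_apply]

lemma u₀_apply (b : B) : u₀ A B 𝔄 b = TrivSqZeroExt.inl (algebraMap B (B ⧸ 𝔄) b) := rfl

lemma u₀_eq_zero_of_mem {x : B} (hx : x ∈ 𝔄) : u₀ A B 𝔄 x = 0 := by
  rw [u₀_apply, show algebraMap B (B ⧸ 𝔄) x = 0 from Ideal.Quotient.eq_zero_iff_mem.mpr hx,
    TrivSqZeroExt.inl_zero]

lemma algebraMap_C'_eq_zero {a : A} (ha : algebraMap A B a ∈ 𝔄) :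
    algebraMap A (C' A B 𝔄) a = 0 := by
  rw [TrivSqZeroExt.algebraMap_eq_inl']
  have : algebraMap A (B ⧸ 𝔄) a = 0 := by
    rw [IsScalarTower.algebraMap_apply A B (B ⧸ 𝔄)]
    exact Ideal.Quotient.eq_zero_iff_mem.mpr ha
  rw [this, TrivSqZeroExt.inl_zero]

/-- the ideal `0 ⊕ P` of `R ⊕ P`. -/
noncomputable def K : Ideal (C' A B 𝔄) :=
  RingHom.ker (TrivSqZeroExt.fstHom (B ⧸ 𝔄) (B ⧸ 𝔄) (P A B 𝔄))

lemma mem_K {x : C' A B 𝔄} : x ∈ K A B 𝔄 ↔ x.fst = 0 := by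
  rw [K, RingHom.mem_ker]; rfl

lemma K_sq : K A B 𝔄 ^ 2 = ⊥ := by
  rw [eq_bot_iff, pow_two, Ideal.mul_le]
  intro x hx y hy
  rw [mem_K] at hx hy
  rw [Ideal.mem_bot]
  apply TrivSqZeroExt.ext
  · rw [TrivSqZeroExt.fst_mul, hx, zero_mul]; rfl
  · rw [TrivSqZeroExt.snd_mul, hx, hy]; simp

lemma sub_mem_K (b : B) : u₁ A B 𝔄 b - u₀ A B 𝔄 b ∈ K A B 𝔄 := by
  rw [mem_K, u₁_apply, u₀_apply]; simp

lemma smul_top_eq_top_of_eq (h : u₁ A B 𝔄 = u₀ A B 𝔄) :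
    𝔄 • (⊤ : Submodule B Ω[B⁄A]) = ⊤ := by
  have hle : Submodule.span B (Set.range (KaehlerDifferential.D A B)) ≤
      𝔄 • (⊤ : Submodule B Ω[B⁄A]) := by
    rw [Submodule.span_le]
    rintro _ ⟨b, rfl⟩
    have h1 := congrArg TrivSqZeroExt.snd (DFunLike.congr_fun h b)
    have h2 : (1 : B ⧸ 𝔄) ⊗ₜ[B] KaehlerDifferential.D A B b = 0 := by
      rw [u₁_apply, u₀_apply] at h1
      simpa [δ_apply] using h1
    have h3 : KaehlerDifferential.D A B b ∈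
        LinearMap.ker (TensorProduct.mk B (B ⧸ 𝔄) Ω[B⁄A] 1) := h2
    rwa [LinearMap.ker_tensorProductMk] at h3
  rw [KaehlerDifferential.span_range_derivation] at hle
  exact top_le_iff.mp hle

end Groth.Agent.Lead.KaehlerProj
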