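import Mathlib
import Groth.Agent.H48.PtFlat9

/-!
# A finitely presented local criterion of flatness (lead)

Derived from `H48.PtFlat.injective_and_flat_coker_of_local` (Stacks 046Y):

* `flat_quot_of_fibre_condition` : `R → T` local, `T` essentially of finite presentation over `R`,
  `N` a finitely presented `T`-module flat over `R`, `K ≤ N` finitely generated with
  `K ∩ 𝔪N = 𝔪K` (i.e. `Tor₁ᴿ(N/K, k) = 0`). Then `N/K` is `R`-flat.
* `flat_quot_of_regular_of_flat_quot` : EGA IV 11.3.8 b) ⇒ c) without noetherian hypotheses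
  (local form): `T` flat, `J` f.g. ideal, `F ∈ 𝔪_T` regular on `T/J`, `T/(J+F)` flat ⇒ `T/J` flat.
* `flat_atPrime_of_isSMulRegular_of_flat_quot` : the global form for a finitely presented
  algebra `A → B` and a prime `P` of `B`.
-/

set_option autoImplicit false
universe u

open IsLocalRing TensorProduct

namespace Groth.Agent.Lead.LocalCritFP

/-- submodules of a finite module are finitely generated modulo `I` when `T/I` is noetherian. -/
lemma exists_fg_le_sup_smul_top {T M : Type*} [CommRing T] [AddCommGroup M] [Module T M]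
    [Module.Finite T M] (I : Ideal T) [IsNoetherianRing (T ⧸ I)] (Z : Submodule T M) :
    ∃ Z' : Submodule T M, Z'.FG ∧ Z' ≤ Z ∧ Z ≤ Z' ⊔ I • (⊤ : Submodule T M) := by
  classical
  set Jb : Submodule T M := I • (⊤ : Submodule T M) with hJb
  have : Module.Finite (T ⧸ I) (M ⧸ Jb) := Module.Finite.of_restrictScalars_finite T _ _
  have hfg : (Z.map Jb.mkQ).FG := by
    have h1 : (Submodule.span (T ⧸ I) ((Z.map Jb.mkQ : Submodule T _) : Set (M ⧸ Jb))).FG :=
      IsNoetherian.noetherian _
    have h2 := h1.restrictScalars_of_surjective (R := T) Ideal.Quotient.mk_surjective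
    rwa [Submodule.restrictScalars_span T (T ⧸ I) Ideal.Quotient.mk_surjective,
      Submodule.span_eq] at h2
  obtain ⟨s, hs⟩ := hfg
  have hs' : ∀ y ∈ s, ∃ z ∈ Z, Jb.mkQ z = y := fun y hy => by
    have : y ∈ Z.map Jb.mkQ := hs ▸ Submodule.subset_span hy
    simpa using this
  choose! g hgZ hg using hs'
  refine ⟨Submodule.span T (g '' s), ⟨s.image g, by simp⟩,
    Submodule.span_le.mpr (by rintro _ ⟨y, hy, rfl⟩; exact hgZ y hy), ?_⟩
  intro z hz
  have h1 : Jb.mkQ z ∈ (Submodule.span T (g '' s)).map Jb.mkQ := by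
    rw [Submodule.map_span, Set.image_image]
    have : (fun y => Jb.mkQ (g y)) '' (s : Set (M ⧸ Jb)) = s := by
      ext y
      constructor
      · rintro ⟨y', hy', rfl⟩
        change Jb.mkQ (g y') ∈ (s : Set (M ⧸ Jb))
        rw [hg y' hy']; exact hy'
      · intro hy
        exact ⟨y, hy, hg y hy⟩
    rw [this, hs]
    exact Submodule.mem_map_of_mem hz
  obtain ⟨z', hz', hzz'⟩ := h1
  have h2 : z - z' ∈ Jb := by
    rw [← Submodule.Quotient.mk_eq_zero, Submodule.Quotient.mk_sub]
    change Jb.mkQ z - Jb.mkQ z' = 0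
    rw [hzz', sub_self]
  have : z = z' + (z - z') := by abel
  rw [this]
  exact Submodule.add_mem_sup hz' h2

section PartA

variable {R T : Type u} [CommRing R] [CommRing T] [IsLocalRing R] [IsLocalRing T] [Algebra R T]
  [IsLocalHom (algebraMap R T)]
  (S₀ : Type u) [CommRing S₀] [Algebra R S₀] [Algebra S₀ T] [IsScalarTower R S₀ T]
  (W : Submonoid S₀) [Algebra.FinitePresentation R S₀] [IsLocalization W T]

include S₀ W in
/-- the closed fibre of an essentially finitely presented local algebra is noetherian. -/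
theorem isNoetherianRing_fibre :
    IsNoetherianRing (T ⧸ (maximalIdeal R).map (algebraMap R T)) := by
  haveI : Algebra.EssFiniteType S₀ T := Algebra.EssFiniteType.of_isLocalization T W
  haveI : Algebra.EssFiniteType R T := Algebra.EssFiniteType.comp R S₀ T
  letI := Ideal.Quotient.field (maximalIdeal R)
  exact Algebra.EssFiniteType.isNoetherianRing (R ⧸ maximalIdeal R) _

include S₀ W in
/-- **Finitely presented local criterion of flatness.** -/
theorem flat_quot_of_fibre_condition {N : Type u} [AddCommGroup N] [Module T N] [Module R N]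
    [IsScalarTower R T N] [Module.FinitePresentation T N] [Module.Flat R N]
    (K : Submodule T N) (hKfg : K.FG)
    (hK : ∀ x ∈ K, x ∈ (maximalIdeal R).map (algebraMap R T) • (⊤ : Submodule T N) →
      x ∈ (maximalIdeal R).map (algebraMap R T) • K) :
    Module.Flat R (N ⧸ K) := by
  classical
  set J : Ideal T := (maximalIdeal R).map (algebraMap R T) with hJ
  haveI : IsNoetherianRing (T ⧸ J) := isNoetherianRing_fibre S₀ W
  obtain ⟨b, v, hv⟩ := K.fg_iff_exists_fin_linearMap.mp hKfg
  obtain ⟨L', hL'fg, hL'le, hcover⟩ :=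
    exists_fg_le_sup_smul_top (M := Fin b → T) J (LinearMap.ker v)
  -- the finitely presented approximation of `K`
  haveI : Module.FinitePresentation T ((Fin b → T) ⧸ L') :=
    Module.finitePresentation_of_free_of_surjective L'.mkQ (Submodule.mkQ_surjective _)
      (by rwa [Submodule.ker_mkQ])
  let u : ((Fin b → T) ⧸ L') →ₗ[T] N := L'.liftQ v hL'le
  have hrange : LinearMap.range u = K := by
    rw [Submodule.range_liftQ, hv]
  have hu : ∀ x : (Fin b → T) ⧸ L', u x ∈ J • (⊤ : Submodule T N) →
      x ∈ J • (⊤ : Submodule T ((Fin b → T) ⧸ L')) := by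
    intro x hx
    obtain ⟨z, rfl⟩ := Submodule.mkQ_surjective L' x
    have hvz : u (L'.mkQ z) = v z := Submodule.liftQ_apply _ _ _
    rw [hvz] at hx
    have h1 : v z ∈ J • K := hK _ (hv ▸ LinearMap.mem_range_self v z) hx
    rw [← hv, LinearMap.range_eq_map, ← Submodule.map_smul''] at h1
    obtain ⟨z₁, hz₁, hz₁z⟩ := h1
    have h2 : z - z₁ ∈ LinearMap.ker v := by
      rw [LinearMap.mem_ker, map_sub, hz₁z, sub_self]
    have h3 : z - z₁ ∈ L' ⊔ J • (⊤ : Submodule T (Fin b → T)) := hcover h2
    obtain ⟨l, hl, j, hj, hlj⟩ := Submodule.mem_sup.mp h3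
    have h4 : L'.mkQ z = L'.mkQ (j + z₁) := by
      have : z = l + (j + z₁) := by rw [← add_assoc, hlj]; abel
      rw [this, map_add, (Submodule.mkQ_apply L' l), (Submodule.Quotient.mk_eq_zero L').mpr hl, zero_add]
    rw [h4]
    have h5 : j + z₁ ∈ J • (⊤ : Submodule T (Fin b → T)) := add_mem hj hz₁
    have h6 := Submodule.mem_map_of_mem (f := L'.mkQ) h5
    rw [Submodule.map_smul''] at h6
    exact Submodule.smul_mono le_rfl le_top h6
  obtain ⟨_, hflat⟩ := Groth.Agent.H48.PtFlat.injective_and_flat_coker_of_local S₀ W u hu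
  exact Module.Flat.of_linearEquiv
    ((Submodule.quotEquivOfEq _ _ hrange).symm.restrictScalars R)

end PartA

section PartB

variable {R T : Type u} [CommRing R] [CommRing T] [IsLocalRing R] [IsLocalRing T] [Algebra R T]
  [IsLocalHom (algebraMap R T)]
  (S₀ : Type u) [CommRing S₀] [Algebra R S₀] [Algebra S₀ T] [IsScalarTower R S₀ T]
  (W : Submonoid S₀) [Algebra.FinitePresentation R S₀] [IsLocalization W T]

omit [IsLocalRing R] [IsLocalRing T] [IsLocalHom (algebraMap R T)] in
/-- if `T/I₂` is `R`-flat then `I₂ ∩ 𝔞T ⊆ 𝔞 I₂`. -/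
lemma mem_mul_of_flat_quot (𝔞 : Ideal R) (I₂ : Ideal T) (hflat : Module.Flat R (T ⧸ I₂))
    (x : T) (hx : x ∈ I₂) (hxM : x ∈ 𝔞.map (algebraMap R T)) :
    x ∈ 𝔞.map (algebraMap R T) * I₂ := by
  have h := Groth.Agent.H48.FlatLimit.inf_smul_top_le_smul_of_flat 𝔞
    ((Submodule.mkQ I₂).restrictScalars R) (Submodule.mkQ_surjective I₂)
  have hx1 : x ∈ LinearMap.ker ((Submodule.mkQ I₂).restrictScalars R) := by
    rw [LinearMap.mem_ker]
    exact (Submodule.Quotient.mk_eq_zero I₂).mpr hx
  have hx2 : x ∈ 𝔞 • (⊤ : Submodule R T) := by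
    rw [← Groth.Agent.H48.PtFlat.mem_map_smul_top_iff (A := T)]
    rwa [smul_eq_mul, Ideal.mul_top]
  have h3 := h ⟨hx1, hx2⟩
  refine Submodule.smul_induction_on h3 (fun r hr n hn => ?_) (fun a b ha hb => add_mem ha hb)
  rw [Algebra.smul_def]
  refine Ideal.mul_mem_mul (Ideal.mem_map_of_mem _ hr) ?_
  rw [LinearMap.mem_ker] at hn
  exact (Submodule.Quotient.mk_eq_zero I₂).mp hn

include S₀ W in
/-- **EGA IV 11.3.8 b) ⇒ c), local form, without noetherian hypotheses.** -/
theorem flat_quot_of_regular_of_flat_quot [Module.Flat R T] (J' : Ideal T) (hJ' : J'.FG) (F : T)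
    (hF : F ∈ maximalIdeal T) (hreg : ∀ t : T, F * t ∈ J' → t ∈ J')
    (hflat : Module.Flat R (T ⧸ (J' ⊔ Ideal.span {F}))) : Module.Flat R (T ⧸ J') := by
  classical
  set M₀ : Ideal T := (maximalIdeal R).map (algebraMap R T) with hM₀
  haveI : IsNoetherianRing (T ⧸ M₀) := isNoetherianRing_fibre S₀ W
  -- Step 2: decomposition
  have step2 : ∀ x ∈ J', x ∈ M₀ → ∃ y ∈ M₀ * J', ∃ t ∈ J', t ∈ M₀ ∧ x = y + F * t := by
    intro x hx hxM
    have h1 := mem_mul_of_flat_quot (maximalIdeal R) (J' ⊔ Ideal.span {F}) hflat x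
      (Ideal.mem_sup_left hx) hxM
    rw [Ideal.mul_sup] at h1
    obtain ⟨y, hy, w, hw, hyw⟩ := Submodule.mem_sup.mp h1
    obtain ⟨t, ht, rfl⟩ := Ideal.mem_mul_span_singleton.mp hw
    have hyJ : y ∈ J' := (Ideal.mul_le_left : J' * M₀ ≤ J') (by rwa [mul_comm])
    have hFt : F * t ∈ J' := by
      have : F * t = x - y := by rw [← hyw]; ring
      rw [this]
      exact sub_mem hx hyJ
    exact ⟨y, hy, t, hreg t hFt, ht, by rw [← hyw]; ring⟩
  -- Step 3: Nakayama
  haveI : Module.Finite T J' := Module.Finite.iff_fg.mpr hJ'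
  have conv : ∀ y' : J', (y' : T) ∈ M₀ * J' → y' ∈ M₀ • (⊤ : Submodule T J') := by
    intro y' hy'
    have h1 : (M₀ • (⊤ : Submodule T J')).map (Submodule.subtype J') = M₀ * J' := by
      rw [Submodule.map_smul'', Submodule.map_top, Submodule.range_subtype, smul_eq_mul]
    rw [← h1] at hy'
    obtain ⟨y'', hy'', hyy⟩ := hy'
    rwa [← Subtype.ext hyy]
  set Z : Submodule T J' := Submodule.comap (Submodule.subtype J') M₀ with hZ
  obtain ⟨Z', hZ'fg, hZ'le, hcover⟩ := exists_fg_le_sup_smul_top (M := J') M₀ Z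
  have hjac : Ideal.span {F} ≤ Ideal.jacobson (⊥ : Ideal T) := by
    rw [Ideal.span_le, Set.singleton_subset_iff, IsLocalRing.jacobson_eq_maximalIdeal ⊥ bot_ne_top]
    exact hF
  have hNN : Z' ≤ M₀ • (⊤ : Submodule T J') ⊔ Ideal.span {F} • Z' := by
    intro z hz
    have hzZ : z ∈ Z := hZ'le hz
    obtain ⟨y, hy, t, htJ, htM, hzy⟩ := step2 (z : T) z.2 hzZ
    obtain ⟨z'', hz'', m, hm, hzm⟩ := Submodule.mem_sup.mp (hcover (show (⟨t, htJ⟩ : J') ∈ Z from htM))
    have hy' : z - F • (⟨t, htJ⟩ : J') ∈ M₀ • (⊤ : Submodule T J') := by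
      apply conv
      have : ((z - F • (⟨t, htJ⟩ : J') : J') : T) = y := by
        change (z : T) - F * t = y
        rw [hzy]; ring
      rw [this]; exact hy
    have : z = (z - F • (⟨t, htJ⟩ : J') + F • m) + F • z'' := by
      rw [← hzm, smul_add]; abel
    rw [this]
    refine Submodule.add_mem_sup (add_mem hy' (Submodule.smul_mem _ _ hm)) ?_
    exact Submodule.smul_mem_smul (Ideal.mem_span_singleton_self F) hz''
  have hZ'M : Z' ≤ M₀ • (⊤ : Submodule T J') :=
    Submodule.le_of_le_smul_of_le_jacobson_bot hZ'fg hjac hNN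
  have hZM : Z ≤ M₀ • (⊤ : Submodule T J') := hcover.trans (sup_le hZ'M le_rfl)
  -- conclusion
  refine flat_quot_of_fibre_condition S₀ W (N := T) J' hJ' ?_
  intro x hx hxM
  rw [smul_eq_mul, Ideal.mul_top] at hxM
  have h1 : (⟨x, hx⟩ : J') ∈ M₀ • (⊤ : Submodule T J') := hZM (show (⟨x, hx⟩ : J') ∈ Z from hxM)
  have h2 := Submodule.mem_map_of_mem (f := Submodule.subtype J') h1
  rwa [Submodule.map_smul'', Submodule.map_top, Submodule.range_subtype] at h2

end PartB

section PartC

open MvPolynomial in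
/-- EGA IV 11.3.8 b) ⇒ c) for a localized polynomial ring over an arbitrary base ring `A`. -/
theorem flat_quot_atPrime_mvPolynomial {A : Type u} [CommRing A] {n : ℕ}
    (Q : Ideal (MvPolynomial (Fin n) A)) [Q.IsPrime]
    (J' : Ideal (Localization.AtPrime Q)) (hJ' : J'.FG) (F : Localization.AtPrime Q)
    (hF : F ∈ maximalIdeal (Localization.AtPrime Q)) (hreg : ∀ t, F * t ∈ J' → t ∈ J')
    (hflat : Module.Flat A (Localization.AtPrime Q ⧸ (J' ⊔ Ideal.span {F}))) :
    Module.Flat A (Localization.AtPrime Q ⧸ J') := by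
  classical
  set p : Ideal A := Q.comap (algebraMap A (MvPolynomial (Fin n) A)) with hp
  haveI : p.IsPrime := Ideal.comap_isPrime _ _
  letI algRT : Algebra (Localization.AtPrime p) (Localization.AtPrime Q) :=
    (Localization.localRingHom p Q (algebraMap A (MvPolynomial (Fin n) A)) hp).toAlgebra
  haveI towerART : IsScalarTower A (Localization.AtPrime p) (Localization.AtPrime Q) :=
    IsScalarTower.of_algebraMap_eq fun a => by
      change _ = Localization.localRingHom p Q _ hp (algebraMap A _ a)
      rw [Localization.localRingHom_to_map]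
      exact IsScalarTower.algebraMap_apply A (MvPolynomial (Fin n) A) (Localization.AtPrime Q) a
  haveI : IsLocalHom (algebraMap (Localization.AtPrime p) (Localization.AtPrime Q)) :=
    Localization.isLocalHom_localRingHom p Q _ hp
  haveI flatA : Module.Flat A (Localization.AtPrime Q) := inferInstance
  haveI flatR : Module.Flat (Localization.AtPrime p) (Localization.AtPrime Q) :=
    (Module.flat_iff_of_isLocalization (Localization.AtPrime p) p.primeCompl
      (Localization.AtPrime Q)).mpr flatA
  -- `S₀`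
  letI algCS : Algebra (MvPolynomial (Fin n) A) (MvPolynomial (Fin n) (Localization.AtPrime p)) :=
    MvPolynomial.algebraMvPolynomial
  letI algST : Algebra (MvPolynomial (Fin n) (Localization.AtPrime p)) (Localization.AtPrime Q) :=
    (MvPolynomial.aeval (R := Localization.AtPrime p) (fun i =>
      algebraMap (MvPolynomial (Fin n) A) (Localization.AtPrime Q) (X i))).toRingHom.toAlgebra
  haveI towerRST : IsScalarTower (Localization.AtPrime p)
      (MvPolynomial (Fin n) (Localization.AtPrime p)) (Localization.AtPrime Q) :=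
    IsScalarTower.of_algebraMap_eq fun r => by
      change _ = MvPolynomial.aeval _ (algebraMap _ _ r)
      rw [AlgHom.commutes]
  haveI towerCST : IsScalarTower (MvPolynomial (Fin n) A)
      (MvPolynomial (Fin n) (Localization.AtPrime p)) (Localization.AtPrime Q) :=
    IsScalarTower.of_algebraMap_eq' (by
      apply MvPolynomial.ringHom_ext
      · intro a
        change _ = MvPolynomial.aeval _ (MvPolynomial.map (algebraMap A (Localization.AtPrime p)) (C a))
        rw [MvPolynomial.map_C, MvPolynomial.aeval_C, ← MvPolynomial.algebraMap_eq,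
          ← IsScalarTower.algebraMap_apply, ← IsScalarTower.algebraMap_apply]
      · intro i
        change _ = MvPolynomial.aeval _ (MvPolynomial.map (algebraMap A (Localization.AtPrime p)) (X i))
        rw [MvPolynomial.map_X, MvPolynomial.aeval_X])
  haveI locS : IsLocalization (p.primeCompl.map (C (σ := Fin n)))
      (MvPolynomial (Fin n) (Localization.AtPrime p)) :=
    MvPolynomial.isLocalization p.primeCompl (Localization.AtPrime p)
  have hle : p.primeCompl.map (C (σ := Fin n)) ≤ Q.primeCompl := by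
    rintro _ ⟨a, ha, rfl⟩ hmem
    exact ha hmem
  haveI locT := IsLocalization.isLocalization_of_submonoid_le
    (MvPolynomial (Fin n) (Localization.AtPrime p)) (Localization.AtPrime Q) _ _ hle
  have hflatR : Module.Flat (Localization.AtPrime p)
      (Localization.AtPrime Q ⧸ (J' ⊔ Ideal.span {F})) :=
    (Module.flat_iff_of_isLocalization (Localization.AtPrime p) p.primeCompl _).mpr hflat
  have := flat_quot_of_regular_of_flat_quot (MvPolynomial (Fin n) (Localization.AtPrime p))
    (Q.primeCompl.map (algebraMap (MvPolynomial (Fin n) A)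
      (MvPolynomial (Fin n) (Localization.AtPrime p)))) J' hJ' F hF hreg hflatR
  exact (Module.flat_iff_of_isLocalization (Localization.AtPrime p) p.primeCompl _).mp this

/-- **EGA IV 11.3.8 b) ⇒ c)** (no noetherian hypotheses): `A → B` of finite presentation, `P` a
prime of `B`, `f ∈ P` a nonzerodivisor on `B_P` with `B_P/(f)` flat over `A`. Then `B_P` is flat
over `A`. -/
theorem flat_atPrime_of_isSMulRegular_of_flat_quot {A B : Type u} [CommRing A] [CommRing B]
    [Algebra A B] [Algebra.FinitePresentation A B] (P : Ideal B) [P.IsPrime] (f : B) (hfP : f ∈ P)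
    (hreg : IsSMulRegular (Localization.AtPrime P) (algebraMap B (Localization.AtPrime P) f))
    (hflat : Module.Flat A
      (Localization.AtPrime P ⧸ Ideal.span {algebraMap B (Localization.AtPrime P) f})) :
    Module.Flat A (Localization.AtPrime P) := by
  classical
  obtain ⟨n, φ, hφ, hker⟩ := Algebra.FinitePresentation.out (R := A) (A := B)
  set Q : Ideal (MvPolynomial (Fin n) A) := P.comap φ.toRingHom with hQ
  haveI : Q.IsPrime := Ideal.comap_isPrime _ _
  set f₁ : Localization.AtPrime P := algebraMap B (Localization.AtPrime P) f with hf₁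
  -- the surjection `C_Q → B_P`
  let ψ₀ : Localization.AtPrime Q →+* Localization.AtPrime P :=
    Localization.localRingHom Q P φ.toRingHom hQ
  have hψ₀surj : Function.Surjective ψ₀ :=
    RingHom.surjective_localRingHom_of_surjective φ.toRingHom hφ P
  have hψ₀map : ∀ c : MvPolynomial (Fin n) A,
      ψ₀ (algebraMap _ (Localization.AtPrime Q) c) = algebraMap B (Localization.AtPrime P) (φ c) :=
    fun c => Localization.localRingHom_to_map Q P φ.toRingHom hQ c
  let ψ : Localization.AtPrime Q →ₐ[A] Localization.AtPrime P :=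
    { ψ₀ with
      commutes' := fun a => by
        change ψ₀ (algebraMap A _ a) = algebraMap A _ a
        rw [IsScalarTower.algebraMap_apply A (MvPolynomial (Fin n) A) (Localization.AtPrime Q),
          hψ₀map, AlgHom.commutes, ← IsScalarTower.algebraMap_apply] }
  have hψapply : ∀ t, ψ t = ψ₀ t := fun _ => rfl
  have hψsurj : Function.Surjective ψ := hψ₀surj
  -- its kernel
  have hmap : Submonoid.map φ.toRingHom Q.primeCompl = P.primeCompl := by
    ext b
    constructor
    · rintro ⟨c, hc, rfl⟩
      exact hc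
    · intro hb
      obtain ⟨c, rfl⟩ := hφ b
      exact ⟨c, hb, rfl⟩
  have hkerψ : RingHom.ker ψ₀ = (RingHom.ker φ.toRingHom).map
      (algebraMap (MvPolynomial (Fin n) A) (Localization.AtPrime Q)) :=
    IsLocalization.ker_map (S := Localization.AtPrime Q) (Localization.AtPrime P) φ.toRingHom hmap
  set J' : Ideal (Localization.AtPrime Q) := RingHom.ker ψ with hJ'def
  have hJ'eq : J' = RingHom.ker ψ₀ := rfl
  have hJ' : J'.FG := by
    rw [hJ'eq, hkerψ]
    exact hker.map _
  obtain ⟨F₀, hF₀⟩ := hφ f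
  set F : Localization.AtPrime Q := algebraMap _ (Localization.AtPrime Q) F₀ with hFdef
  have hψF : ψ F = f₁ := by
    rw [hψapply, hFdef, hψ₀map, hF₀]
  have hF : F ∈ maximalIdeal (Localization.AtPrime Q) := by
    rw [hFdef, IsLocalization.AtPrime.to_map_mem_maximal_iff (Localization.AtPrime Q) Q]
    change φ F₀ ∈ P
    rw [hF₀]; exact hfP
  have hreg' : ∀ t, F * t ∈ J' → t ∈ J' := by
    intro t ht
    rw [hJ'def, RingHom.mem_ker] at ht ⊢
    rw [map_mul, hψF] at ht
    apply hreg
    change f₁ • ψ t = f₁ • 0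
    rw [smul_eq_mul, ht, smul_zero]
  -- the flat quotient
  let χ : Localization.AtPrime Q →ₐ[A] (Localization.AtPrime P ⧸ Ideal.span {f₁}) :=
    (Ideal.Quotient.mkₐ A (Ideal.span {f₁})).comp ψ
  have hχsurj : Function.Surjective χ :=
    (Ideal.Quotient.mkₐ_surjective A _).comp hψsurj
  have hkerχ : RingHom.ker χ = J' ⊔ Ideal.span {F} := by
    ext t
    rw [RingHom.mem_ker]
    change Ideal.Quotient.mk (Ideal.span {f₁}) (ψ t) = 0 ↔ _
    rw [Ideal.Quotient.eq_zero_iff_mem, Ideal.mem_span_singleton']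
    constructor
    · rintro ⟨b, hb⟩
      obtain ⟨t', rfl⟩ := hψsurj b
      have h1 : t - t' * F ∈ J' := by
        rw [hJ'def, RingHom.mem_ker, map_sub, map_mul, hψF, hb, sub_self]
      have : t = (t - t' * F) + t' * F := by ring
      rw [this]
      exact Submodule.add_mem_sup h1 (Ideal.mem_span_singleton'.mpr ⟨t', rfl⟩)
    · intro ht
      obtain ⟨j, hj, w, hw, rfl⟩ := Submodule.mem_sup.mp ht
      obtain ⟨t', rfl⟩ := Ideal.mem_span_singleton'.mp hw
      rw [hJ'def, RingHom.mem_ker] at hj
      exact ⟨ψ t', by rw [map_add, hj, zero_add, map_mul, hψF]⟩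
  have hflat1 : Module.Flat A (Localization.AtPrime Q ⧸ RingHom.ker χ) :=
    Module.Flat.of_linearEquiv (Ideal.quotientKerAlgEquivOfSurjective hχsurj).toLinearEquiv
  have hflat2 : Module.Flat A (Localization.AtPrime Q ⧸ (J' ⊔ Ideal.span {F})) := by
    rw [← hkerχ]; exact hflat1
  have hmain := flat_quot_atPrime_mvPolynomial Q J' hJ' F hF hreg' hflat2
  exact Module.Flat.of_linearEquiv (Ideal.quotientKerAlgEquivOfSurjective hψsurj).symm.toLinearEquiv

end PartC

end Groth.Agent.Lead.LocalCritFP
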