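import Mathlib
import Groth.Agent.Lead.LocalCritFP

/-!
# EGA IV 11.3.8 b) ⇒ c) for regular sequences (lead)

List versions of `Lead/LocalCritFP.lean`:
* `flat_quot_atPrime_mvPolynomial_list` : `T = (A[X₁..Xₙ])_Q`, `J'` f.g. ideal, `Fs ⊆ 𝔪_T` weakly
  regular on `T/J'`, `T/(J' + (Fs))` flat over `A` ⇒ `T/J'` flat over `A`.
* `flat_atPrime_of_isWeaklyRegular_of_flat_quot` : `A → B` f.p., `P` prime, `fs ⊆ P` whose images
  form a weakly regular sequence on `B_P`, `B_P/(fs)` flat over `A` ⇒ `B_P` flat over `A`.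
-/

set_option autoImplicit false
universe u

open IsLocalRing RingTheory.Sequence
open scoped Pointwise

namespace Groth.Agent.Lead.LocalCritFP

/-- `(T/J)/F(T/J) ≅ T/(J + (F))`. -/
lemma smul_top_quot_eq {T : Type*} [CommRing T] (J' : Ideal T) (F : T) :
    F • (⊤ : Submodule T (T ⧸ J')) =
      Submodule.map (Submodule.mkQ J') (Ideal.span {F} : Submodule T T) := by
  have h1 : (Ideal.span {F} : Submodule T T) = Ideal.span {F} • (⊤ : Submodule T T) := by
    rw [smul_eq_mul, Ideal.mul_top]
  rw [h1, Submodule.map_smul'', Submodule.map_top, Submodule.range_mkQ,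
    Submodule.ideal_span_singleton_smul]

/-- `(T/J)/F(T/J) ≅ T/(J + (F))`. -/
noncomputable def quotSMulTopQuotEquiv {T : Type*} [CommRing T] (J' : Ideal T) (F : T) :
    QuotSMulTop F (T ⧸ J') ≃ₗ[T] T ⧸ (J' ⊔ Ideal.span {F}) :=
  Submodule.quotEquivOfEq _ _ (smul_top_quot_eq J' F) ≪≫ₗ
    Submodule.quotientQuotientEquivQuotientSup J' (Ideal.span {F})

theorem flat_quot_atPrime_mvPolynomial_list {A : Type u} [CommRing A] {n : ℕ}
    (Q : Ideal (MvPolynomial (Fin n) A)) [Q.IsPrime] :
    ∀ (Fs : List (Localization.AtPrime Q)) (J' : Ideal (Localization.AtPrime Q)), J'.FG →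
    (∀ F ∈ Fs, F ∈ maximalIdeal (Localization.AtPrime Q)) →
    IsWeaklyRegular (Localization.AtPrime Q ⧸ J') Fs →
    Module.Flat A (Localization.AtPrime Q ⧸ (J' ⊔ Ideal.ofList Fs)) →
    Module.Flat A (Localization.AtPrime Q ⧸ J') := by
  intro Fs
  induction Fs with
  | nil =>
    intro J' _ _ _ hflat
    rwa [Ideal.ofList_nil, sup_bot_eq] at hflat
  | cons F Fs ih =>
    intro J' hJ' hmem hreg hflat
    rw [isWeaklyRegular_cons_iff] at hreg
    obtain ⟨hF, hFs⟩ := hreg
    have hJ'' : (J' ⊔ Ideal.span {F}).FG := Submodule.FG.sup hJ' ⟨{F}, by simp⟩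
    have hFs' : IsWeaklyRegular (Localization.AtPrime Q ⧸ (J' ⊔ Ideal.span {F})) Fs :=
      ((quotSMulTopQuotEquiv J' F).isWeaklyRegular_congr Fs).mp hFs
    have hflat' : Module.Flat A
        (Localization.AtPrime Q ⧸ ((J' ⊔ Ideal.span {F}) ⊔ Ideal.ofList Fs)) := by
      rwa [Ideal.ofList_cons, ← sup_assoc] at hflat
    have h1 := ih (J' ⊔ Ideal.span {F}) hJ'' (fun G hG => hmem G (List.mem_cons_of_mem _ hG))
      hFs' hflat'
    refine flat_quot_atPrime_mvPolynomial Q J' hJ' F (hmem F List.mem_cons_self) ?_ h1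
    intro t ht
    rw [← Ideal.Quotient.eq_zero_iff_mem] at ht ⊢
    apply hF
    change F • (Ideal.Quotient.mk J' t) = F • 0
    rw [smul_zero, ← ht, map_mul]
    rfl

/-- **EGA IV 11.3.8 b) ⇒ c) for sequences** (no noetherian hypotheses): `A → B` of finite
presentation, `P` a prime of `B`, `fs` a list of elements of `P` whose images form a weakly regular
sequence on `B_P`, with `B_P/(fs)` flat over `A`. Then `B_P` is flat over `A`. -/
theorem flat_atPrime_of_isWeaklyRegular_of_flat_quot {A B : Type u} [CommRing A] [CommRing B]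
    [Algebra A B] [Algebra.FinitePresentation A B] (P : Ideal B) [P.IsPrime] (fs : List B)
    (hfP : ∀ f ∈ fs, f ∈ P)
    (hreg : IsWeaklyRegular (Localization.AtPrime P)
      (fs.map (algebraMap B (Localization.AtPrime P))))
    (hflat : Module.Flat A
      (Localization.AtPrime P ⧸ Ideal.ofList (fs.map (algebraMap B (Localization.AtPrime P))))) :
    Module.Flat A (Localization.AtPrime P) := by
  classical
  obtain ⟨n, φ, hφ, hker⟩ := Algebra.FinitePresentation.out (R := A) (A := B)
  set Q : Ideal (MvPolynomial (Fin n) A) := P.comap φ.toRingHom with hQ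
  haveI : Q.IsPrime := Ideal.comap_isPrime _ _
  set fs' : List (Localization.AtPrime P) := fs.map (algebraMap B (Localization.AtPrime P))
    with hfs'
  -- the surjection `C_Q → B_P`
  let ψ₀ : Localization.AtPrime Q →+* Localization.AtPrime P :=
    Localization.localRingHom Q P φ.toRingHom hQ
  have hψ₀surj : Function.Surjective ψ₀ :=
    RingHom.surjective_localRingHom_of_surjective φ.toRingHom hφ P
  have hψ₀map : ∀ c : MvPolynomial (Fin n) A,
      ψ₀ (algebraMap _ (Localization.AtPrime Q) c) = algebraMap B (Localization.AtPrime P) (φ c) :=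
    fun c => Localization.localRingHom_to_map Q P φ.toRingHom hQ c
  let ψ : Localization.AtPrime Q →ₐ[A] Localization.AtPrime P :=
    { ψ₀ with
      commutes' := fun a => by
        change ψ₀ (algebraMap A _ a) = algebraMap A _ a
        rw [IsScalarTower.algebraMap_apply A (MvPolynomial (Fin n) A) (Localization.AtPrime Q),
          hψ₀map, AlgHom.commutes, ← IsScalarTower.algebraMap_apply] }
  have hψapply : ∀ t, ψ t = ψ₀ t := fun _ => rfl
  have hψsurj : Function.Surjective ψ := hψ₀surj
  -- its kernel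
  have hmap : Submonoid.map φ.toRingHom Q.primeCompl = P.primeCompl := by
    ext b
    constructor
    · rintro ⟨c, hc, rfl⟩
      exact hc
    · intro hb
      obtain ⟨c, rfl⟩ := hφ b
      exact ⟨c, hb, rfl⟩
  have hkerψ : RingHom.ker ψ₀ = (RingHom.ker φ.toRingHom).map
      (algebraMap (MvPolynomial (Fin n) A) (Localization.AtPrime Q)) :=
    IsLocalization.ker_map (S := Localization.AtPrime Q) (Localization.AtPrime P) φ.toRingHom hmap
  set J' : Ideal (Localization.AtPrime Q) := RingHom.ker ψ with hJ'def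
  have hJ'eq : J' = RingHom.ker ψ₀ := rfl
  have hJ' : J'.FG := by
    rw [hJ'eq, hkerψ]
    exact hker.map _
  -- lifts of the sequence
  obtain ⟨F0s, hF0s⟩ := (List.map_surjective_iff.mpr hφ) fs
  set Fs : List (Localization.AtPrime Q) :=
    F0s.map (algebraMap _ (Localization.AtPrime Q)) with hFsdef
  have hFsmap : Fs.map ψ₀ = fs' := by
    rw [hFsdef, hfs', ← hF0s, List.map_map, List.map_map]
    apply List.map_congr_left
    intro c _
    exact hψ₀map c
  have hFmem : ∀ F ∈ Fs, F ∈ maximalIdeal (Localization.AtPrime Q) := by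
    intro F hF
    rw [hFsdef, List.mem_map] at hF
    obtain ⟨c, hc, rfl⟩ := hF
    rw [IsLocalization.AtPrime.to_map_mem_maximal_iff (Localization.AtPrime Q) Q]
    change φ c ∈ P
    apply hfP
    rw [← hF0s]
    exact List.mem_map_of_mem hc
  -- regularity over `T`
  letI algTB : Algebra (Localization.AtPrime Q) (Localization.AtPrime P) := ψ₀.toAlgebra
  have hregT : IsWeaklyRegular (Localization.AtPrime P) Fs := by
    rw [← isWeaklyRegular_map_algebraMap_iff (Localization.AtPrime P)]
    change IsWeaklyRegular (Localization.AtPrime P) (Fs.map ψ₀)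
    rw [hFsmap]
    exact hreg
  have hofIdsurj : Function.Surjective
      (Algebra.ofId (Localization.AtPrime Q) (Localization.AtPrime P)) := hψ₀surj
  have hkerofId : RingHom.ker (Algebra.ofId (Localization.AtPrime Q) (Localization.AtPrime P)) =
      J' := rfl
  have hregJ : IsWeaklyRegular (Localization.AtPrime Q ⧸ J') Fs := by
    have e : (Localization.AtPrime Q ⧸ J') ≃ₗ[Localization.AtPrime Q] Localization.AtPrime P :=
      (Ideal.quotientKerAlgEquivOfSurjective hofIdsurj).toLinearEquiv
    exact (e.isWeaklyRegular_congr Fs).mpr hregT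
  -- the flat quotient
  let χ : Localization.AtPrime Q →ₐ[A] (Localization.AtPrime P ⧸ Ideal.ofList fs') :=
    (Ideal.Quotient.mkₐ A (Ideal.ofList fs')).comp ψ
  have hχsurj : Function.Surjective χ :=
    (Ideal.Quotient.mkₐ_surjective A _).comp hψsurj
  have hkerχ : RingHom.ker χ = J' ⊔ Ideal.ofList Fs := by
    have h1 : RingHom.ker χ = Ideal.comap ψ₀ (Ideal.ofList fs') := by
      ext t
      rw [RingHom.mem_ker, Ideal.mem_comap]
      change Ideal.Quotient.mk (Ideal.ofList fs') (ψ t) = 0 ↔ _
      rw [Ideal.Quotient.eq_zero_iff_mem]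
      rfl
    rw [h1, ← hFsmap, ← Ideal.map_ofList, Ideal.comap_map_of_surjective ψ₀ hψ₀surj, sup_comm]
    rfl
  have hflat1 : Module.Flat A (Localization.AtPrime Q ⧸ RingHom.ker χ) :=
    Module.Flat.of_linearEquiv (Ideal.quotientKerAlgEquivOfSurjective hχsurj).toLinearEquiv
  have hflat2 : Module.Flat A (Localization.AtPrime Q ⧸ (J' ⊔ Ideal.ofList Fs)) := by
    rw [← hkerχ]; exact hflat1
  have hmain := flat_quot_atPrime_mvPolynomial_list Q Fs J' hJ' hFmem hregJ hflat2
  exact Module.Flat.of_linearEquiv (Ideal.quotientKerAlgEquivOfSurjective hψsurj).symm.toLinearEquiv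

/-- Global form: `A → B` of finite presentation, `rs` a weakly regular sequence of `B` with
`B/(rs)` flat over `A`. Then `B_P` is flat over `A` at every prime `P ⊇ (rs)`. -/
theorem flat_atPrime_of_isWeaklyRegular_of_flat_quot' {A B : Type u} [CommRing A] [CommRing B]
    [Algebra A B] [Algebra.FinitePresentation A B] (rs : List B) (hreg : IsWeaklyRegular B rs)
    (hflat : Module.Flat A (B ⧸ Ideal.ofList rs)) (P : Ideal B) [P.IsPrime]
    (hP : Ideal.ofList rs ≤ P) : Module.Flat A (Localization.AtPrime P) := by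
  have hfP : ∀ f ∈ rs, f ∈ P := fun f hf => hP (Ideal.subset_span hf)
  haveI : Module.Flat B (Localization.AtPrime P) := IsLocalization.flat _ P.primeCompl
  have hreg' : IsWeaklyRegular (Localization.AtPrime P)
      (rs.map (algebraMap B (Localization.AtPrime P))) := hreg.of_flat
  refine flat_atPrime_of_isWeaklyRegular_of_flat_quot P rs hfP hreg' ?_
  rw [← Ideal.map_ofList]
  set I := Ideal.ofList rs
  haveI : IsScalarTower A (B ⧸ I)
      (Localization.AtPrime P ⧸ I.map (algebraMap B (Localization.AtPrime P))) :=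
    IsScalarTower.of_algebraMap_eq fun a => by
      change Ideal.Quotient.mk _ (algebraMap A (Localization.AtPrime P) a) =
        Ideal.Quotient.mk _ (algebraMap B (Localization.AtPrime P) (algebraMap A B a))
      rw [← IsScalarTower.algebraMap_apply]
  haveI : Module.Flat (B ⧸ I)
      (Localization.AtPrime P ⧸ I.map (algebraMap B (Localization.AtPrime P))) :=
    IsLocalization.flat _ (Algebra.algebraMapSubmonoid (B ⧸ I) P.primeCompl)
  exact Module.Flat.trans A (B ⧸ I) _

end Groth.Agent.Lead.LocalCritFP
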