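import Mathlib
import Groth.Agent.S0299
import Groth.Agent.S0300
import Groth.Agent.S0303
import Groth.Agent.S0305

/-!
# Matlis decomposition: injective modules over a Noetherian ring are direct sums of indecomposable
injectives (lead)
-/

set_option autoImplicit false
universe u

namespace Groth.Agent.Lead.MatlisDecomp

open Submodule

variable {R : Type u} [CommRing R]

/-- A complement of a submodule in an injective module is injective. -/
theorem injective_of_isCompl {I : Type u} [AddCommGroup I] [Module R I] [Module.Injective R I]
    (P Q : Submodule R I) (h : IsCompl P Q) : Module.Injective R ↥P := by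
  refine ⟨fun X Y _ _ _ _ f hf g => ?_⟩
  obtain ⟨k, hk⟩ := Module.Injective.extension_property R I X Y f hf (P.subtype ∘ₗ g)
  refine ⟨(Submodule.projectionOnto P Q h) ∘ₗ k, fun x => ?_⟩
  have h1 : k (f x) = (g x : I) := by
    have := LinearMap.congr_fun hk x
    simpa using this
  rw [LinearMap.comp_apply, h1, Submodule.projectionOnto_apply_left]

theorem injective_of_linearEquiv {M N : Type u} [AddCommGroup M] [Module R M] [AddCommGroup N]
    [Module R N] (e : M ≃ₗ[R] N) (h : Module.Injective R M) : Module.Injective R N :=
  (Module.Baer.of_equiv e (Module.Baer.of_injective h)).injective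

theorem isIndecomposable_of_linearEquiv {M N : Type u} [AddCommGroup M] [Module R M]
    [AddCommGroup N] [Module R N] (e : M ≃ₗ[R] N) (h : InjHull.IsIndecomposable R M) :
    InjHull.IsIndecomposable R N := by
  obtain ⟨hnt, hdec⟩ := h
  refine ⟨e.symm.toEquiv.nontrivial, fun P Q hPQ => ?_⟩
  have hc : IsCompl (P.map e.symm.toLinearMap) (Q.map e.symm.toLinearMap) := by
    have := hPQ.map (Submodule.orderIsoMapComap e.symm)
    simpa using this
  have hbot : ∀ P : Submodule R N, P.map e.symm.toLinearMap = ⊥ → P = ⊥ := by
    intro P hP
    rw [Submodule.eq_bot_iff] at hP ⊢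
    intro x hx
    have := hP (e.symm x) (Submodule.mem_map_of_mem hx)
    exact e.symm.map_eq_zero_iff.mp this
  rcases hdec _ _ hc with h1 | h1
  · exact Or.inl (hbot _ h1)
  · exact Or.inr (hbot _ h1)

/-- **Matlis**: an injective module over a Noetherian ring is the internal direct sum of a family
of indecomposable injective submodules (indexed by a set of submodules). -/
theorem exists_isInternal [IsNoetherianRing R] (I : Type u) [AddCommGroup I] [Module R I]
    [hI : Module.Injective R I] :
    ∃ S : Set (Submodule R I),
      (∀ inst : DecidableEq S, @DirectSum.IsInternal S I (Submodule R I) inst _ _ _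
        (fun E : S => (E : Submodule R I))) ∧
      ∀ E ∈ S, InjHull.IsIndecomposable R ↥E ∧ Module.Injective R ↥E := by
  classical
  let good : Submodule R I → Prop := fun E =>
    InjHull.IsIndecomposable R ↥E ∧ Module.Injective R ↥E
  obtain ⟨S, hSmax⟩ := zorn_subset {S : Set (Submodule R I) | sSupIndep S ∧ ∀ E ∈ S, good E} (by
    intro c hc hchain
    refine ⟨⋃₀ c, ⟨iSupIndep_sUnion_of_directed hchain.directedOn (fun s hs => (hc hs).1), ?_⟩,
      fun s hs => Set.subset_sUnion_of_mem hs⟩
    rintro E ⟨s, hs, hE⟩
    exact (hc hs).2 E hE)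
  have hS : sSupIndep S ∧ ∀ E ∈ S, good E := hSmax.prop
  let A : S → Submodule R I := fun E => E
  have hind : iSupIndep A := (sSupIndep_iff S).mp hS.1
  have hsup : sSup S = ⨆ i, A i := sSup_eq_iSup'  S
  -- the sum of the family is injective
  let φ : (DirectSum S fun i => ↥(A i)) →ₗ[R] I := DirectSum.coeLinearMap A
  have hφinj : Function.Injective φ := hind.dfinsupp_lsum_injective
  have hφrange : LinearMap.range φ = ⨆ i, A i := (Submodule.iSup_eq_range_dfinsupp_lsum A).symm
  have hDS : Module.Injective R (DirectSum S fun i => ↥(A i)) :=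
    Groth.Agent.S0300.result R (fun i : S => ↥(A i)) (fun i => (hS.2 i.1 i.2).2)
  have hE₀ : Module.Injective R ↥(LinearMap.range φ) :=
    injective_of_linearEquiv (LinearEquiv.ofInjective φ hφinj) hDS
  obtain ⟨r, hr⟩ := Module.Injective.extension_property R ↥(LinearMap.range φ)
    ↥(LinearMap.range φ) I (LinearMap.range φ).subtype (Submodule.subtype_injective _)
    LinearMap.id
  have hcompl : IsCompl (LinearMap.range φ) (LinearMap.ker r) :=
    LinearMap.isCompl_of_proj (fun x => LinearMap.congr_fun hr x)
  by_cases hbot : LinearMap.ker r = ⊥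
  · -- the family is everything
    refine ⟨S, fun _ => DirectSum.isInternal_submodule_of_iSupIndep_of_iSup_eq_top hind ?_, hS.2⟩
    have := hcompl.sup_eq_top
    rw [hbot, sup_bot_eq, hφrange] at this
    exact this
  · exfalso
    set I' : Submodule R I := LinearMap.ker r with hI'
    haveI hI'inj : Module.Injective R ↥I' := injective_of_isCompl I' _ hcompl.symm
    haveI : Nontrivial ↥I' := (Submodule.nontrivial_iff_ne_bot).mpr hbot
    obtain ⟨p, hp⟩ := associatedPrimes.nonempty R ↥I'
    obtain ⟨hprime, j, hj⟩ := (isAssociatedPrime_iff_exists_injective_linearMap p ↥I').mp hp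
    haveI := hprime
    obtain ⟨E, _, _, f, hf⟩ := Groth.Agent.S0299.result R (R ⧸ p)
    obtain ⟨α, hα, -, -⟩ := Groth.Agent.S0303.result R (R ⧸ p) E ↥I' f hf j hj hI'inj
    have hEind : InjHull.IsIndecomposable R E := (Groth.Agent.S0305.result R p E f hf).1
    have hEinj : Module.Injective R E := hf.isInjective
    let β : E →ₗ[R] I := I'.subtype ∘ₗ α
    have hβ : Function.Injective β := (Submodule.subtype_injective _).comp hα
    set E' : Submodule R I := LinearMap.range β with hE'
    have hE'good : good E' :=
      ⟨isIndecomposable_of_linearEquiv (LinearEquiv.ofInjective β hβ) hEind,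
        injective_of_linearEquiv (LinearEquiv.ofInjective β hβ) hEinj⟩
    have hE'le : E' ≤ I' := by
      rintro _ ⟨x, rfl⟩
      exact (α x).2
    have hdisj : Disjoint (sSup S) E' := by
      rw [hsup, ← hφrange]
      exact hcompl.disjoint.mono_right hE'le
    have hE'ne : E' ≠ ⊥ := by
      haveI := hE'good.1.1
      exact (Submodule.nontrivial_iff_ne_bot).mp inferInstance
    have hE'notin : E' ∉ S := by
      intro hmem
      have h1 : E' ≤ sSup S := le_sSup hmem
      exact hE'ne (hdisj.eq_bot_of_ge h1)
    have hT : sSupIndep (insert E' S) ∧ ∀ F ∈ insert E' S, good F := by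
      refine ⟨?_, ?_⟩
      · intro a ha
        rcases ha with rfl | ha
        · have h1 : sSup (insert E' S \ {E'}) ≤ sSup S := by
            apply sSup_le_sSup
            rintro x ⟨hx1, hx2⟩
            rcases hx1 with rfl | hx1
            · exact absurd rfl hx2
            · exact hx1
          exact hdisj.symm.mono_right h1
        · have hane : a ≠ E' := fun h => hE'notin (h ▸ ha)
          have h1 : sSup (insert E' S \ {a}) ≤ sSup (S \ {a}) ⊔ E' := by
            apply sSup_le
            rintro x ⟨hx1, hx2⟩
            rcases hx1 with rfl | hx1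
            · exact le_sup_right
            · exact le_sup_of_le_left (le_sSup ⟨hx1, hx2⟩)
          have h2 : Disjoint a (sSup (S \ {a})) := hS.1 ha
          have h3 : Disjoint (a ⊔ sSup (S \ {a})) E' := by
            refine hdisj.mono_left (sup_le (le_sSup ha) (sSup_le_sSup Set.sdiff_subset))
          exact (h2.disjoint_sup_right_of_disjoint_sup_left h3).mono_right h1
      · rintro F (rfl | hF)
        · exact hE'good
        · exact hS.2 F hF
    have := hSmax.le_of_ge hT (Set.subset_insert E' S)
    exact hE'notin (this (Set.mem_insert E' S))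

end Groth.Agent.Lead.MatlisDecomp
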