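import Mathlib
import Groth.Agent.H15.SerreNormal
import Groth.Agent.H17.NN_RING

/-!
# (RING2) for helper14's S18352 squad: normality of a flat local algebra over a normal Noetherian
domain with reduced fibres and normal generic fibre localisations.
-/

set_option autoImplicit false
universe u
open IsLocalRing Polynomial

namespace Groth.Agent.Lead.NF_RING2

section DVR

variable {R : Type u} [CommRing R] [IsDomain R] [IsNoetherianRing R] [IsIntegrallyClosed R]

/-- a height-one prime of a Noetherian normal domain behaves like a discrete valuation -/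
theorem dvr_facts (P : Ideal R) [P.IsPrime] (hP : P.height ≤ 1) :
    ∃ π₀ ∈ P, (∀ y ∈ P, ∃ σ, σ ∉ P ∧ ∃ b, σ * y = b * π₀) ∧
      (∀ r : R, r ≠ 0 → ∃ (m : ℕ) (σ b : R), σ ∉ P ∧ b ∉ P ∧ σ * r = b * π₀ ^ m) := by
  let L := Localization.AtPrime P
  have hle : P.primeCompl ≤ nonZeroDivisors R := P.primeCompl_le_nonZeroDivisors
  have hinj : Function.Injective (algebraMap R L) := IsLocalization.injective L hle
  have : IsDomain L := IsLocalization.isDomain_localization hle
  have : IsIntegrallyClosed L := isIntegrallyClosed_of_isLocalization L P.primeCompl hle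
  have : IsNoetherianRing L := IsLocalization.isNoetherianRing P.primeCompl L inferInstance
  have hdim : ringKrullDim L ≤ ((1 : ℕ) : WithBot ℕ∞) := by
    rw [IsLocalization.AtPrime.ringKrullDim_eq_height P L]
    exact_mod_cast hP
  have hK : Ring.KrullDimLE 1 L := Ring.krullDimLE_iff.mpr hdim
  have hprimes : ∀ P' : Ideal L, P' ≠ ⊥ → P'.IsPrime → P' = maximalIdeal L :=
    fun P' h0 hP' => IsLocalRing.eq_maximalIdeal (hP'.isMaximal_of_ne_bot h0)
  have h34 : (IsIntegrallyClosed L ∧
      ∀ P' : Ideal L, P' ≠ ⊥ → P'.IsPrime → P' = maximalIdeal L) →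
      (maximalIdeal L).IsPrincipal :=
    ((tfae_of_isNoetherianRing_of_isLocalRing_of_isDomain L).out 3 4).mp
  have hprin : (maximalIdeal L).IsPrincipal := h34 ⟨inferInstance, hprimes⟩
  obtain ⟨π, hπ⟩ := hprin
  have hπ' : maximalIdeal L = Ideal.span {π} := hπ
  -- write `π = π₁ / σ₁`
  obtain ⟨⟨π₁, σ₁⟩, hπ₁⟩ := IsLocalization.surj P.primeCompl π
  have hσ₁u : IsUnit (algebraMap R L (σ₁ : R)) := IsLocalization.map_units L σ₁
  have hgen : maximalIdeal L = Ideal.span {algebraMap R L π₁} := by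
    rw [hπ', ← hπ₁]
    exact (Ideal.span_singleton_mul_right_unit hσ₁u π).symm
  have hπ₁P : π₁ ∈ P := by
    have : algebraMap R L π₁ ∈ maximalIdeal L := by
      rw [hgen]; exact Ideal.mem_span_singleton_self _
    exact (IsLocalization.AtPrime.to_map_mem_maximal_iff L P π₁).mp this
  refine ⟨π₁, hπ₁P, ?_, ?_⟩
  · intro y hy
    have : algebraMap R L y ∈ maximalIdeal L :=
      (IsLocalization.AtPrime.to_map_mem_maximal_iff L P y).mpr hy
    rw [hgen, Ideal.mem_span_singleton'] at this
    obtain ⟨c, hc⟩ := this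
    obtain ⟨⟨b, σ⟩, hb⟩ := IsLocalization.surj P.primeCompl c
    refine ⟨σ, σ.2, b, hinj ?_⟩
    rw [map_mul, map_mul, ← hc, ← hb]
    ring
  · intro r hr
    have hr' : algebraMap R L r ≠ 0 := fun h => hr (hinj (by rw [h, map_zero]))
    obtain ⟨k, u, hu, hru⟩ :=
      Groth.Agent.H15.SerreNormal.exists_unit_mul_pow hgen hr'
    obtain ⟨⟨b, σ⟩, hb⟩ := IsLocalization.surj P.primeCompl u
    have hbP : b ∉ P := by
      intro hbP
      have h1 : algebraMap R L b ∈ maximalIdeal L :=
        (IsLocalization.AtPrime.to_map_mem_maximal_iff L P b).mpr hbP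
      have h2 : IsUnit (algebraMap R L b) := by
        rw [← hb]; exact hu.mul (IsLocalization.map_units L σ)
      exact (IsLocalRing.mem_maximalIdeal _).mp h1 h2
    refine ⟨k, σ, b, σ.2, hbP, hinj ?_⟩
    rw [map_mul, map_mul, map_pow, hru, ← hb]
    ring

end DVR

section RAD

variable {R A : Type u} [CommRing R] [CommRing A] [Algebra R A]

/-- the saturation of `π₀ A` with respect to `R ∖ P` is a radical ideal, when the fibre rings of `A`
are reduced. -/
theorem rad_sat (P : Ideal R) [P.IsPrime] (π₀ : R)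
    (hi : ∀ y ∈ P, ∃ σ, σ ∉ P ∧ ∃ b, σ * y = b * π₀)
    (hred : ∀ (q : Ideal A) [q.IsPrime], IsReduced (Localization.AtPrime q ⧸
      (q.comap (algebraMap R A)).map
        ((algebraMap A (Localization.AtPrime q)).comp (algebraMap R A))))
    (c : A) (N : ℕ) (hc : c ^ N ∈ Ideal.span {algebraMap R A π₀}) :
    ∃ t, t ∉ P ∧ ∃ a', algebraMap R A t * c = algebraMap R A π₀ * a' := by
  have h1P : (1 : R) ∉ P := (Ideal.ne_top_iff_one P).mp Ideal.IsPrime.ne_top'
  have hmulP : ∀ {s t : R}, s ∉ P → t ∉ P → s * t ∉ P := fun hs ht h =>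
    (Ideal.IsPrime.mem_or_mem ‹_› h).elim hs ht
  -- the saturation
  let 𝔞 : Ideal A :=
    { carrier := {c | ∃ t, t ∉ P ∧ algebraMap R A t * c ∈ Ideal.span {algebraMap R A π₀}}
      zero_mem' := ⟨1, h1P, by simp⟩
      add_mem' := by
        rintro c₁ c₂ ⟨t₁, ht₁, h₁⟩ ⟨t₂, ht₂, h₂⟩
        refine ⟨t₁ * t₂, hmulP ht₁ ht₂, ?_⟩
        have : algebraMap R A (t₁ * t₂) * (c₁ + c₂) =
            algebraMap R A t₂ * (algebraMap R A t₁ * c₁) +
              algebraMap R A t₁ * (algebraMap R A t₂ * c₂) := by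
          rw [map_mul]; ring
        rw [this]
        exact add_mem (Ideal.mul_mem_left _ _ h₁) (Ideal.mul_mem_left _ _ h₂)
      smul_mem' := by
        rintro e c ⟨t, ht, h⟩
        refine ⟨t, ht, ?_⟩
        have : algebraMap R A t * (e • c) = e * (algebraMap R A t * c) := by
          rw [smul_eq_mul]; ring
        rw [this]
        exact Ideal.mul_mem_left _ _ h }
  have hmem𝔞 : ∀ c, c ∈ 𝔞 ↔ ∃ t, t ∉ P ∧ algebraMap R A t * c ∈
      Ideal.span {algebraMap R A π₀} := fun _ => Iff.rfl
  by_contra hcon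
  have hc𝔞 : c ∉ 𝔞 := by
    rw [hmem𝔞]
    rintro ⟨t, ht, h⟩
    obtain ⟨a', ha'⟩ := Ideal.mem_span_singleton'.mp h
    exact hcon ⟨t, ht, a', by rw [← ha']; ring⟩
  -- the colon ideal
  let I : Ideal A :=
    { carrier := {e | e * c ∈ 𝔞}
      zero_mem' := by simp
      add_mem' := by
        intro e₁ e₂ h₁ h₂
        show (e₁ + e₂) * c ∈ 𝔞
        rw [add_mul]; exact add_mem h₁ h₂
      smul_mem' := by
        intro e e' h
        show (e • e') * c ∈ 𝔞
        rw [smul_eq_mul, mul_assoc]; exact Ideal.mul_mem_left _ _ h }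
  have hmemI : ∀ e, e ∈ I ↔ e * c ∈ 𝔞 := fun _ => Iff.rfl
  let S : Submonoid A := P.primeCompl.map (algebraMap R A : R →* A)
  have hdisj : Disjoint (I : Set A) S := by
    rw [Set.disjoint_left]
    rintro e he ⟨t, ht, rfl⟩
    rw [SetLike.mem_coe, hmemI, hmem𝔞] at he
    obtain ⟨t', ht', h⟩ := he
    apply hc𝔞
    rw [hmem𝔞]
    refine ⟨t' * t, hmulP ht' ht, ?_⟩
    have : algebraMap R A (t' * t) * c = algebraMap R A t' * (algebraMap R A t * c) := by
      rw [map_mul]; ring
    rw [this]; exact h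
  obtain ⟨q, hq, hIq, hqS⟩ := Ideal.exists_le_prime_disjoint I S hdisj
  have h𝔞I : 𝔞 ≤ I := fun e he => by
    rw [hmemI]; exact Ideal.mul_mem_right _ _ he
  have hqP : q.comap (algebraMap R A) ≤ P := by
    intro t ht
    by_contra htP
    exact (Set.disjoint_left.mp hqS) ht ⟨t, htP, rfl⟩
  have hP𝔞 : ∀ y ∈ P, algebraMap R A y ∈ 𝔞 := by
    intro y hy
    obtain ⟨σ, hσ, b, hb⟩ := hi y hy
    rw [hmem𝔞]
    refine ⟨σ, hσ, ?_⟩
    rw [← map_mul, hb, map_mul]
    exact Ideal.mul_mem_left _ _ (Ideal.mem_span_singleton_self _)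
  have hmapP : (q.comap (algebraMap R A)).map (algebraMap R A) ≤ 𝔞 := by
    rw [Ideal.map_le_iff_le_comap]
    intro y hy
    exact hP𝔞 y (hqP hy)
  have hπ₀q : π₀ ∈ q.comap (algebraMap R A) := by
    rw [Ideal.mem_comap]
    apply hIq
    apply h𝔞I
    rw [hmem𝔞]
    exact ⟨1, h1P, by rw [map_one, one_mul]; exact Ideal.mem_span_singleton_self _⟩
  -- work in `A_q`
  have hr := hred q
  set J := (q.comap (algebraMap R A)).map
    ((algebraMap A (Localization.AtPrime q)).comp (algebraMap R A)) with hJ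
  have hπJ : algebraMap A (Localization.AtPrime q) (algebraMap R A π₀) ∈ J :=
    Ideal.mem_map_of_mem ((algebraMap A (Localization.AtPrime q)).comp (algebraMap R A)) hπ₀q
  obtain ⟨a', ha'⟩ := Ideal.mem_span_singleton'.mp hc
  have hcN : (algebraMap A (Localization.AtPrime q) c) ^ N ∈ J := by
    rw [← map_pow, ← ha', map_mul]
    exact Ideal.mul_mem_left _ _ hπJ
  have hzero : (Ideal.Quotient.mk J) (algebraMap A (Localization.AtPrime q) c) = 0 := by
    apply IsReduced.eq_zero
    refine ⟨N, ?_⟩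
    rw [← map_pow, Ideal.Quotient.eq_zero_iff_mem]
    exact hcN
  rw [Ideal.Quotient.eq_zero_iff_mem, hJ, ← Ideal.map_map] at hzero
  obtain ⟨m, hm, hmc⟩ := (IsLocalization.algebraMap_mem_map_algebraMap_iff q.primeCompl
    (Localization.AtPrime q) ((q.comap (algebraMap R A)).map (algebraMap R A)) c).mp hzero
  apply hm
  apply hIq
  rw [hmemI]
  exact hmapP hmc

end RAD

section Key

variable {R A B : Type u} [CommRing R] [IsDomain R] [IsNoetherianRing R] [IsIntegrallyClosed R]
  [CommRing A] [Algebra R A] [CommRing B] [Algebra A B] [Algebra R B] [IsScalarTower R A B]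

/-- (2a) the denominators of an integral element are not contained in a height-one prime. -/
theorem exists_notMem_smul_mem (hinj : Function.Injective (algebraMap A B))
    (hunit : ∀ r : R, r ≠ 0 → IsUnit (algebraMap R B r))
    (hred : ∀ (q : Ideal A) [q.IsPrime], IsReduced (Localization.AtPrime q ⧸
      (q.comap (algebraMap R A)).map
        ((algebraMap A (Localization.AtPrime q)).comp (algebraMap R A))))
    (P : Ideal R) [P.IsPrime] (hP : P.height ≤ 1) (hP0 : P ≠ ⊥)
    (x : B) (hx : IsIntegral A x) (r₀ : R) (hr₀ : r₀ ≠ 0)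
    (hr₀x : algebraMap R B r₀ * x ∈ (algebraMap A B).range) :
    ∃ d, d ∉ P ∧ algebraMap R B d * x ∈ (algebraMap A B).range := by
  obtain ⟨π₀, hπ₀P, hi, hii⟩ := dvr_facts P hP
  have hψ : ∀ r : R, algebraMap R B r = algebraMap A B (algebraMap R A r) :=
    fun r => IsScalarTower.algebraMap_apply R A B r
  have hmulP : ∀ {s t : R}, s ∉ P → t ∉ P → s * t ∉ P := fun hs ht h =>
    (Ideal.IsPrime.mem_or_mem ‹_› h).elim hs ht
  have hπ₀0 : π₀ ≠ 0 := by
    rintro rfl
    apply hP0
    rw [eq_bot_iff]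
    intro y hy
    obtain ⟨σ, hσ, b, hb⟩ := hi y hy
    rw [mul_zero] at hb
    rcases mul_eq_zero.mp hb with h | h
    · exact absurd (h ▸ P.zero_mem) hσ
    · rw [h]; exact Ideal.zero_mem _
  have hπu : IsUnit (algebraMap R B π₀) := hunit π₀ hπ₀0
  have claim : ∀ (m : ℕ) (x₁ : B), IsIntegral A x₁ →
      algebraMap R B π₀ ^ m * x₁ ∈ (algebraMap A B).range →
      ∃ t, t ∉ P ∧ algebraMap R B t * x₁ ∈ (algebraMap A B).range := by
    intro m
    induction m with
    | zero =>
      intro x₁ _ h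
      refine ⟨1, (Ideal.ne_top_iff_one P).mp Ideal.IsPrime.ne_top', ?_⟩
      simpa using h
    | succ m ih =>
      intro x₁ hx₁ h
      obtain ⟨a, ha⟩ := h
      obtain ⟨p, hpm, hpx⟩ := hx₁
      have h0 : eval₂ (algebraMap A B) (algebraMap A B (algebraMap R A π₀ ^ (m + 1)) * x₁)
          (scaleRoots p (algebraMap R A π₀ ^ (m + 1))) = 0 :=
        scaleRoots_eval₂_eq_zero _ hpx
      have e1 : algebraMap A B (algebraMap R A π₀ ^ (m + 1)) * x₁ = algebraMap A B a := by
        rw [map_pow, ← hψ, ha]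
      rw [e1, eval₂_at_apply] at h0
      have h1 : (scaleRoots p (algebraMap R A π₀ ^ (m + 1))).eval a = 0 :=
        hinj (by rw [h0, map_zero])
      have h2 : a ^ p.natDegree ∈ Ideal.span {algebraMap R A π₀} :=
        Groth.Agent.H17.NN_RING.pow_mem_of_scaleRoots _ a (m + 1) (Nat.succ_pos m) p hpm h1
      obtain ⟨t, ht, a', hta⟩ := rad_sat P π₀ hi hred a _ h2
      have hx₂ : IsIntegral A (algebraMap R B t * x₁) := by
        rw [hψ]
        exact IsIntegral.mul isIntegral_algebraMap ⟨p, hpm, hpx⟩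
      have hmem : algebraMap R B π₀ ^ m * (algebraMap R B t * x₁) ∈ (algebraMap A B).range := by
        refine ⟨a', ?_⟩
        apply hπu.mul_left_cancel
        calc algebraMap R B π₀ * algebraMap A B a'
            = algebraMap A B (algebraMap R A π₀ * a') := by rw [map_mul, ← hψ]
          _ = algebraMap A B (algebraMap R A t * a) := by rw [hta]
          _ = algebraMap R B t * (algebraMap R B π₀ ^ (m + 1) * x₁) := by
              rw [map_mul, ← hψ, ha]
          _ = algebraMap R B π₀ * (algebraMap R B π₀ ^ m * (algebraMap R B t * x₁)) := by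
              rw [pow_succ]; ring
      obtain ⟨t', ht', h'⟩ := ih _ hx₂ hmem
      refine ⟨t' * t, hmulP ht' ht, ?_⟩
      rw [map_mul, mul_assoc]
      exact h'
  obtain ⟨m, σ, b, hσ, hb, hσr⟩ := hii r₀ hr₀
  have hx₁ : IsIntegral A (algebraMap R B b * x) := by
    rw [hψ]; exact IsIntegral.mul isIntegral_algebraMap hx
  have hmem : algebraMap R B π₀ ^ m * (algebraMap R B b * x) ∈ (algebraMap A B).range := by
    obtain ⟨a₀, ha₀⟩ := hr₀x
    refine ⟨algebraMap R A σ * a₀, ?_⟩
    rw [map_mul, ← hψ, ha₀]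
    have : algebraMap R B (σ * r₀) = algebraMap R B (b * π₀ ^ m) := by rw [hσr]
    rw [map_mul, map_mul, map_pow] at this
    calc algebraMap R B σ * (algebraMap R B r₀ * x)
        = (algebraMap R B σ * algebraMap R B r₀) * x := by ring
      _ = (algebraMap R B b * algebraMap R B π₀ ^ m) * x := by rw [this]
      _ = algebraMap R B π₀ ^ m * (algebraMap R B b * x) := by ring
  obtain ⟨t, ht, h⟩ := claim m _ hx₁ hmem
  refine ⟨t * b, hmulP ht hb, ?_⟩
  rw [map_mul, mul_assoc]
  exact h

end Key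

section Key2

variable {R A B : Type u} [CommRing R] [IsDomain R] [IsNoetherianRing R] [IsIntegrallyClosed R]
  [CommRing A] [Algebra R A] [Module.Flat R A]
  [CommRing B] [Algebra A B] [Algebra R B] [IsScalarTower R A B]

open RingTheory.Sequence in
/-- (KEY2) an element of `B = A ⊗ Frac R` integral over `A` lies in `A`. -/
theorem mem_range_of_isIntegral (hinj : Function.Injective (algebraMap A B))
    (hunit : ∀ r : R, r ≠ 0 → IsUnit (algebraMap R B r))
    (hred : ∀ (q : Ideal A) [q.IsPrime], IsReduced (Localization.AtPrime q ⧸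
      (q.comap (algebraMap R A)).map
        ((algebraMap A (Localization.AtPrime q)).comp (algebraMap R A))))
    (x : B) (hx : IsIntegral A x) (r₀ : R) (hr₀ : r₀ ≠ 0)
    (hr₀x : algebraMap R B r₀ * x ∈ (algebraMap A B).range) :
    x ∈ (algebraMap A B).range := by
  classical
  have hψ : ∀ r : R, algebraMap R B r = algebraMap A B (algebraMap R A r) :=
    fun r => IsScalarTower.algebraMap_apply R A B r
  -- the ideal of denominators
  let D : Ideal R :=
    { carrier := {d | algebraMap R B d * x ∈ (algebraMap A B).range}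
      zero_mem' := ⟨0, by simp⟩
      add_mem' := by
        rintro d₁ d₂ ⟨a₁, h₁⟩ ⟨a₂, h₂⟩
        exact ⟨a₁ + a₂, by rw [map_add, h₁, h₂, map_add, add_mul]⟩
      smul_mem' := by
        rintro e d ⟨a, h⟩
        exact ⟨algebraMap R A e * a, by rw [map_mul, ← hψ, h, smul_eq_mul, map_mul, mul_assoc]⟩ }
  have hmemD : ∀ d, d ∈ D ↔ algebraMap R B d * x ∈ (algebraMap A B).range := fun _ => Iff.rfl
  have hD : ∀ (P : Ideal R) [P.IsPrime], P.height ≤ 1 → r₀ ∈ P → ¬ D ≤ P := by
    intro P _ hP hrP hDP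
    have hP0 : P ≠ ⊥ := by
      rintro rfl
      exact hr₀ ((Submodule.mem_bot R).mp hrP)
    obtain ⟨d, hdP, hd⟩ := exists_notMem_smul_mem hinj hunit hred P hP hP0 x hx r₀ hr₀ hr₀x
    exact hdP (hDP ((hmemD d).mpr hd))
  -- prime avoidance
  have hfin := Ideal.finite_minimalPrimes_of_isNoetherianRing R (Ideal.span {r₀})
  have hmin : ∀ P ∈ (Ideal.span {r₀}).minimalPrimes, P.IsPrime ∧ P.height ≤ 1 ∧ r₀ ∈ P := by
    intro P hPm
    refine ⟨hPm.1.1, ?_, hPm.1.2 (Ideal.mem_span_singleton_self r₀)⟩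
    exact Ideal.height_le_one_of_isPrincipal_of_mem_minimalPrimes (Ideal.span {r₀}) P hPm
  obtain ⟨d, hdD, hdmin⟩ : ∃ d ∈ D, ∀ P ∈ (Ideal.span {r₀}).minimalPrimes, d ∉ P := by
    by_contra hcon
    push Not at hcon
    have hsub : (D : Set R) ⊆ ⋃ P ∈ (↑hfin.toFinset : Set (Ideal R)), (id P : Ideal R) := by
      intro d hd
      obtain ⟨P, hPm, hdP⟩ := hcon d hd
      simp only [Set.mem_iUnion]
      exact ⟨P, by simpa using hPm, hdP⟩
    obtain ⟨P, hPs, hDP⟩ := (Ideal.subset_union_prime (f := id) ⊤ ⊤ (by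
      intro P hP _ _
      exact (hmin P (by simpa using hP)).1)).mp hsub
    have hPm : P ∈ (Ideal.span {r₀}).minimalPrimes := by simpa using hPs
    obtain ⟨hPp, hPh, hrP⟩ := hmin P hPm
    exact hD P hPh hrP hDP
  -- `d` is regular modulo `r₀`
  have hnormal : ∀ (p : Ideal R) [p.IsPrime], IsDomain (Localization.AtPrime p) ∧
      IsIntegrallyClosed (Localization.AtPrime p) := by
    intro p _
    have hle : p.primeCompl ≤ nonZeroDivisors R := p.primeCompl_le_nonZeroDivisors
    exact ⟨IsLocalization.isDomain_localization hle,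
      isIntegrallyClosed_of_isLocalization _ p.primeCompl hle⟩
  have hS2 := (Groth.Agent.H15.SerreNormal.hasRk_hasSk_of_normal hnormal).2
  have hr₀reg : IsSMulRegular R r₀ := by
    intro y z hyz
    exact mul_left_cancel₀ hr₀ hyz
  have hdreg : ∀ y, d * y ∈ Ideal.span {r₀} → y ∈ Ideal.span {r₀} := by
    intro y hy
    apply Groth.Agent.H15.SerreNormal.mem_span_of_forall_height_le_one hS2 hr₀reg
    intro Q _ hQ
    by_cases hrQ : r₀ ∈ Q
    · -- `Q` is minimal over `r₀`
      have hQm : Q ∈ (Ideal.span {r₀}).minimalPrimes := by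
        obtain ⟨P', hP'm, hP'Q⟩ := Ideal.exists_minimalPrimes_le
          (show Ideal.span {r₀} ≤ Q from (Ideal.span_singleton_le_iff_mem _).mpr hrQ)
        have hP'p : P'.IsPrime := hP'm.1.1
        by_cases hne : P' = Q
        · rw [← hne]; exact hP'm
        · exfalso
          have hlt : P' < Q := lt_of_le_of_ne hP'Q hne
          have h1 := Ideal.height_strict_mono_of_isPrime_of_isPrime hlt
          have h2 : P'.height < 1 := lt_of_lt_of_le h1 hQ
          have h3 : P'.height = 0 := Order.lt_one_iff.mp h2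
          rw [Ideal.height_eq_zero_iff_eq_bot] at h3
          have : r₀ ∈ P' := hP'm.1.2 (Ideal.mem_span_singleton_self r₀)
          rw [h3] at this
          exact hr₀ ((Submodule.mem_bot R).mp this)
      have hdQ : d ∉ Q := hdmin Q hQm
      obtain ⟨u, hu⟩ := (IsLocalization.map_units (Localization.AtPrime Q)
        (⟨d, hdQ⟩ : Q.primeCompl)).exists_left_inv
      obtain ⟨z, hz⟩ := Ideal.mem_span_singleton'.mp hy
      rw [Ideal.mem_span_singleton']
      refine ⟨u * algebraMap R (Localization.AtPrime Q) z, ?_⟩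
      have h4 : algebraMap R (Localization.AtPrime Q) (z * r₀) =
          algebraMap R (Localization.AtPrime Q) (d * y) := by rw [hz]
      rw [map_mul, map_mul] at h4
      calc u * algebraMap R (Localization.AtPrime Q) z * algebraMap R (Localization.AtPrime Q) r₀
          = u * (algebraMap R (Localization.AtPrime Q) z *
              algebraMap R (Localization.AtPrime Q) r₀) := by ring
        _ = (u * algebraMap R (Localization.AtPrime Q) d) *
              algebraMap R (Localization.AtPrime Q) y := by rw [h4]; ring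
        _ = algebraMap R (Localization.AtPrime Q) y := by
              have hu' : u * algebraMap R (Localization.AtPrime Q) d = 1 := hu
              rw [hu', one_mul]
    · have hun : IsUnit (algebraMap R (Localization.AtPrime Q) r₀) :=
        IsLocalization.map_units (Localization.AtPrime Q) (⟨r₀, hrQ⟩ : Q.primeCompl)
      rw [Ideal.span_singleton_eq_top.mpr hun]
      trivial
  -- the regular sequence `r₀, d` and its image in `A`
  have hdregQ : IsSMulRegular (QuotSMulTop r₀ R) d := by
    rw [isSMulRegular_iff_right_eq_zero_of_smul]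
    intro yb hyb
    induction yb using Submodule.Quotient.induction_on with
    | H y =>
      rw [← Submodule.Quotient.mk_smul, Submodule.Quotient.mk_eq_zero,
        Submodule.mem_smul_pointwise_iff_exists] at hyb
      obtain ⟨z, _, hz⟩ := hyb
      have hy : d * y ∈ Ideal.span {r₀} := by
        rw [Ideal.mem_span_singleton']
        exact ⟨z, by rw [mul_comm]; exact hz⟩
      obtain ⟨z', hz'⟩ := Ideal.mem_span_singleton'.mp (hdreg y hy)
      rw [Submodule.Quotient.mk_eq_zero, Submodule.mem_smul_pointwise_iff_exists]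
      exact ⟨z', trivial, by rw [smul_eq_mul, mul_comm]; exact hz'⟩
  have hwr : IsWeaklyRegular R [r₀, d] :=
    (isWeaklyRegular_cons_iff R r₀ [d]).mpr ⟨hr₀reg,
      (isWeaklyRegular_cons_iff _ d []).mpr ⟨hdregQ, IsWeaklyRegular.nil _ _⟩⟩
  have hwA : IsWeaklyRegular A [algebraMap R A r₀, algebraMap R A d] := by
    have := hwr.of_flat (S := A)
    simpa using this
  have hregA : IsSMulRegular (QuotSMulTop (algebraMap R A r₀) A) (algebraMap R A d) :=
    ((isWeaklyRegular_cons_iff _ _ _).mp ((isWeaklyRegular_cons_iff _ _ _).mp hwA).2).1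
  -- conclusion
  obtain ⟨a, ha⟩ := hr₀x
  obtain ⟨a_d, had⟩ := (hmemD d).mp hdD
  have hrel : algebraMap R A d * a = algebraMap R A r₀ * a_d := by
    apply hinj
    rw [map_mul, map_mul, ← hψ, ← hψ, ha, had]
    ring
  have hzero : (Submodule.Quotient.mk a : QuotSMulTop (algebraMap R A r₀) A) = 0 := by
    apply (isSMulRegular_iff_right_eq_zero_of_smul.mp hregA)
    rw [← Submodule.Quotient.mk_smul, Submodule.Quotient.mk_eq_zero,
      Submodule.mem_smul_pointwise_iff_exists]
    exact ⟨a_d, trivial, by rw [smul_eq_mul, smul_eq_mul, hrel]⟩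
  rw [Submodule.Quotient.mk_eq_zero, Submodule.mem_smul_pointwise_iff_exists] at hzero
  obtain ⟨a'', _, ha''⟩ := hzero
  refine ⟨a'', ?_⟩
  apply (hunit r₀ hr₀).mul_left_cancel
  rw [← ha, ← ha'', smul_eq_mul, map_mul, ← hψ]

end Key2

section Adapters

variable {R A B : Type u} [CommRing R] [IsDomain R] [IsNoetherianRing R] [IsIntegrallyClosed R]
  [CommRing A] [Algebra R A] [Module.Flat R A]
  [CommRing B] [Algebra A B] [Algebra R B] [IsScalarTower R A B]

/-- (K2A) in helper14's exact form. -/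
theorem exists_notMem_smul_mem' (hinj : Function.Injective (algebraMap A B))
    (hunit : ∀ r : R, r ≠ 0 → IsUnit (algebraMap R B r))
    (hsurj : ∀ b : B, ∃ r : R, r ≠ 0 ∧ ∃ a : A, algebraMap A B a = algebraMap R B r * b)
    (hred : ∀ (q : Ideal A) [q.IsPrime], IsReduced (Localization.AtPrime q ⧸
      (q.comap (algebraMap R A)).map
        ((algebraMap A (Localization.AtPrime q)).comp (algebraMap R A))))
    (P : Ideal R) [P.IsPrime] (hP : P.height = 1) (b : B) (hb : IsIntegral A b) :
    ∃ d : R, d ∉ P ∧ ∃ a : A, algebraMap A B a = algebraMap R B d * b := by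
  obtain ⟨r₀, hr₀, a₀, ha₀⟩ := hsurj b
  have hP0 : P ≠ ⊥ := by
    rintro rfl
    have h0 : (⊥ : Ideal R).height = 0 := Ideal.height_bot
    rw [h0] at hP
    exact zero_ne_one hP
  obtain ⟨d, hd, a, ha⟩ := exists_notMem_smul_mem hinj hunit hred P hP.le hP0 b hb r₀ hr₀
    ⟨a₀, ha₀⟩
  exact ⟨d, hd, a, ha⟩

/-- (KEY2) in the `hkey` form needed by helper14's (ASM2). -/
theorem exists_algebraMap_eq_of_isIntegral (hinj : Function.Injective (algebraMap A B))
    (hunit : ∀ r : R, r ≠ 0 → IsUnit (algebraMap R B r))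
    (hsurj : ∀ b : B, ∃ r : R, r ≠ 0 ∧ ∃ a : A, algebraMap A B a = algebraMap R B r * b)
    (hred : ∀ (q : Ideal A) [q.IsPrime], IsReduced (Localization.AtPrime q ⧸
      (q.comap (algebraMap R A)).map
        ((algebraMap A (Localization.AtPrime q)).comp (algebraMap R A))))
    (b : B) (hb : IsIntegral A b) : ∃ a : A, algebraMap A B a = b := by
  obtain ⟨r₀, hr₀, a₀, ha₀⟩ := hsurj b
  obtain ⟨a, ha⟩ := mem_range_of_isIntegral hinj hunit hred b hb r₀ hr₀ ⟨a₀, ha₀⟩
  exact ⟨a, ha⟩

end Adapters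

end Groth.Agent.Lead.NF_RING2
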