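import Mathlib
import Groth.Agent.Lead.NagataVal
import Groth.Agent.H48.PtFlat9

/-!
# Consequences of Nagata's theorem over valuation rings: local covers by localized polynomial
rings
-/

set_option autoImplicit false
universe u

namespace Groth.Agent.Lead.NagataVal

open MvPolynomial

/-- a local ring essentially of finite type over `A` is a quotient of the localization of a
polynomial ring at a prime. -/
theorem exists_local_cover (A B : Type u) [CommRing A] [CommRing B] [IsLocalRing B] [Algebra A B]
    [Algebra.EssFiniteType A B] :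
    ∃ (n : ℕ) (q : Ideal (MvPolynomial (Fin n) A)) (_ : q.IsPrime)
      (ψ : Localization.AtPrime q →ₐ[A] B), Function.Surjective ψ := by
  classical
  let C := Algebra.EssFiniteType.subalgebra A B
  let W := Algebra.EssFiniteType.submonoid A B
  obtain ⟨n, f, hf⟩ := Algebra.FiniteType.iff_quotient_mvPolynomial''.1
    (inferInstance : Algebra.FiniteType A C)
  let φ : MvPolynomial (Fin n) A →ₐ[A] B := C.val.comp f
  let q : Ideal (MvPolynomial (Fin n) A) := (IsLocalRing.maximalIdeal B).comap φ.toRingHom
  haveI hq : q.IsPrime := Ideal.comap_isPrime _ _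
  have hunit : ∀ y : q.primeCompl, IsUnit (φ.toRingHom y) := by
    intro y
    by_contra h
    exact y.2 ((IsLocalRing.mem_maximalIdeal _).2 h)
  let ψ₀ : Localization.AtPrime q →+* B := IsLocalization.lift (M := q.primeCompl) hunit
  have hψ₀ : ∀ p, ψ₀ (algebraMap _ _ p) = φ p := fun p => IsLocalization.lift_eq hunit p
  let ψ : Localization.AtPrime q →ₐ[A] B :=
    { ψ₀ with
      commutes' := fun a => by
        have : algebraMap A (Localization.AtPrime q) a =
            algebraMap (MvPolynomial (Fin n) A) (Localization.AtPrime q) (algebraMap A _ a) :=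
          IsScalarTower.algebraMap_apply A (MvPolynomial (Fin n) A) (Localization.AtPrime q) a
        change ψ₀ (algebraMap A (Localization.AtPrime q) a) = _
        rw [this, hψ₀, AlgHom.commutes] }
  refine ⟨n, q, hq, ψ, fun b => ?_⟩
  obtain ⟨⟨c, w⟩, hcw⟩ := IsLocalization.surj W b
  obtain ⟨pc, hpc⟩ := hf c
  obtain ⟨pw, hpw⟩ := hf (w : C)
  have hwu : IsUnit (algebraMap C B w) := w.2
  have hφw : φ pw = algebraMap C B w := by
    change (C.val (f pw)) = _
    rw [hpw]; rfl
  have hφc : φ pc = algebraMap C B c := by
    change (C.val (f pc)) = _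
    rw [hpc]; rfl
  have hpwq : pw ∈ q.primeCompl := by
    intro hmem
    have : φ pw ∈ IsLocalRing.maximalIdeal B := hmem
    rw [hφw] at this
    exact (IsLocalRing.mem_maximalIdeal _).1 this hwu
  refine ⟨IsLocalization.mk' (Localization.AtPrime q) pc ⟨pw, hpwq⟩, ?_⟩
  change ψ₀ _ = b
  rw [IsLocalization.lift_mk']
  rw [Units.mul_inv_eq_iff_eq_mul]
  change φ pc = b * φ pw
  rw [hφc, hφw]
  exact hcw.symm

/-- in a module over a valuation ring, elements of `I • ⊤` are single multiples. -/
lemma exists_eq_smul_of_mem_smul_top {A X : Type*} [CommRing A] [IsDomain A] [ValuationRing A]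
    [AddCommGroup X] [Module A X] (I : Ideal A) (x : X) (hx : x ∈ (I • ⊤ : Submodule A X)) :
    ∃ a ∈ I, ∃ y : X, x = a • y := by
  refine Submodule.smul_induction_on (p := fun x => ∃ a ∈ I, ∃ y : X, x = a • y) hx
    (fun a ha y _ => ⟨a, ha, y, rfl⟩) (fun x₁ x₂ h₁ h₂ => ?_)
  obtain ⟨a₁, ha₁, y₁, rfl⟩ := h₁
  obtain ⟨a₂, ha₂, y₂, rfl⟩ := h₂
  rcases ValuationRing.dvd_total a₁ a₂ with ⟨c, rfl⟩ | ⟨c, rfl⟩
  · exact ⟨a₁, ha₁, y₁ + c • y₂, by rw [smul_add, mul_smul]⟩
  · exact ⟨a₂, ha₂, c • y₁ + y₂, by rw [smul_add, mul_smul]⟩

lemma mem_map_smul_top_iff {A S X : Type*} [CommRing A] [CommRing S] [Algebra A S]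
    [AddCommGroup X] [Module A X] [Module S X] [IsScalarTower A S X] (I : Ideal A) (x : X) :
    x ∈ (I.map (algebraMap A S)) • (⊤ : Submodule S X) ↔ x ∈ (I • ⊤ : Submodule A X) := by
  have := Ideal.smul_restrictScalars (R := A) (S := S) (M := X) I (⊤ : Submodule S X)
  rw [Submodule.restrictScalars_top] at this
  rw [← this]
  rfl

open IsLocalRing in
/-- **Stacks 00ME over a valuation ring, without finite presentation hypotheses**: `A` a valuation
ring, `A → B` local, essentially of finite type, `u : N → M` a map of finite `B`-modules with `M`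
flat over `A` and `u` injective modulo `𝔪_A`.  Then `u` is injective with `A`-flat cokernel. -/
theorem injective_and_flat_coker {A B : Type u} [CommRing A] [IsDomain A] [ValuationRing A]
    [CommRing B] [IsLocalRing B] [Algebra A B] [IsLocalHom (algebraMap A B)]
    [Algebra.EssFiniteType A B]
    {N M : Type u} [AddCommGroup N] [Module B N] [Module A N] [IsScalarTower A B N]
    [Module.Finite B N] [AddCommGroup M] [Module B M] [Module A M] [IsScalarTower A B M]
    [Module.Finite B M] [Module.Flat A M] (u : N →ₗ[B] M)
    (hu : ∀ n : N, u n ∈ (maximalIdeal A • ⊤ : Submodule A M) →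
      n ∈ (maximalIdeal A • ⊤ : Submodule A N)) :
    Function.Injective u ∧ Module.Flat A (M ⧸ LinearMap.range u) := by
  classical
  obtain ⟨n, q, hq, ψ, hψ⟩ := exists_local_cover A B
  let B' := Localization.AtPrime q
  letI : Algebra B' B := ψ.toRingHom.toAlgebra
  haveI : IsScalarTower A B' B := IsScalarTower.of_algebraMap_eq (fun a => (ψ.commutes a).symm)
  letI : Module B' M := Module.compHom M ψ.toRingHom
  letI : Module B' N := Module.compHom N ψ.toRingHom
  haveI : IsScalarTower B' B M := ⟨fun b' b x => by
    change (ψ b' * b) • x = ψ b' • (b • x)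
    rw [mul_smul]⟩
  haveI : IsScalarTower B' B N := ⟨fun b' b x => by
    change (ψ b' * b) • x = ψ b' • (b • x)
    rw [mul_smul]⟩
  haveI : IsScalarTower A B' M := ⟨fun a b' x => by
    change ψ (a • b') • x = a • (ψ b' • x)
    rw [map_smul, smul_assoc]⟩
  haveI : IsScalarTower A B' N := ⟨fun a b' x => by
    change ψ (a • b') • x = a • (ψ b' • x)
    rw [map_smul, smul_assoc]⟩
  haveI : Module.Finite B' B := Module.Finite.of_surjective (Algebra.linearMap B' B) hψ
  haveI : Module.Finite B' M := Module.Finite.trans B M
  haveI : Module.Finite B' N := Module.Finite.trans B N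
  let u' : N →ₗ[B'] M :=
    { toFun := u
      map_add' := u.map_add
      map_smul' := fun b' x => by
        change u (ψ b' • x) = ψ b' • u x
        exact u.map_smul _ _ }
  let Nb : Submodule B' M := LinearMap.range u'
  have htfM : ∀ (r : A) (x : M), r ≠ 0 → r • x = 0 → x = 0 :=
    fun r x hr h => torsionFree_of_flat (R := A) r x hr h
  haveI : Module.FinitePresentation B' M := finitePresentation_of_essFiniteType (R := A) B' M htfM
  haveI : Module.FinitePresentation B' Nb :=
    finitePresentation_of_essFiniteType (R := A) B' Nb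
      (fun r x hr h => Subtype.ext (htfM r x hr (congrArg Subtype.val h)))
  haveI : IsLocalHom (algebraMap A B') := ⟨fun a ha => by
    have h1 : IsUnit (algebraMap A B a) := by
      rw [IsScalarTower.algebraMap_apply A B' B]
      exact ha.map (algebraMap B' B)
    exact isUnit_of_map_unit (algebraMap A B) a h1⟩
  have hmodN : ∀ x : Nb, (x : M) ∈ (maximalIdeal A • ⊤ : Submodule A M) →
      x ∈ (maximalIdeal A • ⊤ : Submodule A Nb) := by
    rintro ⟨x, n0, rfl⟩ hx
    have hn0 : n0 ∈ (maximalIdeal A • ⊤ : Submodule A N) := hu n0 hx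
    -- push forward along `N → Nb`
    let v : N →ₗ[A] Nb :=
      { toFun := fun n => ⟨u n, n, rfl⟩
        map_add' := fun a b => Subtype.ext (u.map_add a b)
        map_smul' := fun a b => Subtype.ext (by
          change u (a • b) = a • u b
          rw [← algebraMap_smul B a b, map_smul, algebraMap_smul]) }
    have := Submodule.mem_map_of_mem (f := v) hn0
    rw [Submodule.map_smul'', Submodule.map_top] at this
    exact Submodule.smul_mono (le_refl _) le_top this
  have key := Groth.Agent.H48.PtFlat.injective_and_flat_coker_of_local (R := A) (S := B')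
    (MvPolynomial (Fin n) A) q.primeCompl (M := Nb) (N := M) Nb.subtype (fun x hx => by
      rw [mem_map_smul_top_iff] at hx
      exact (mem_map_smul_top_iff (A := A) (S := B') (X := Nb) _ _).2 (hmodN x hx))
  obtain ⟨-, hflat⟩ := key
  refine ⟨?_, ?_⟩
  · -- injectivity via Nakayama on the kernel
    have hKfg' : (LinearMap.ker u'.rangeRestrict).FG :=
      Module.FinitePresentation.fg_ker (R := B') (M := N) (N := Nb) u'.rangeRestrict
        u'.surjective_rangeRestrict
    have hKfg : (LinearMap.ker u).FG := by
      obtain ⟨t, ht⟩ := hKfg'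
      refine ⟨t, le_antisymm ?_ ?_⟩
      · refine Submodule.span_le.2 (fun x hx => ?_)
        have hx' : x ∈ LinearMap.ker u'.rangeRestrict := by
          rw [← ht]; exact Submodule.subset_span hx
        rw [LinearMap.mem_ker] at hx'
        change x ∈ LinearMap.ker u
        rw [LinearMap.mem_ker]
        exact congrArg Subtype.val hx'
      · intro x hx
        have hx' : x ∈ LinearMap.ker u'.rangeRestrict := by
          rw [LinearMap.mem_ker] at hx ⊢
          exact Subtype.ext hx
        rw [← ht] at hx'
        -- a `B'`-combination is a `B`-combination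
        refine Submodule.span_induction (p := fun y _ => y ∈ Submodule.span B (t : Set N))
          (fun y hy => Submodule.subset_span hy) (Submodule.zero_mem _)
          (fun y z _ _ hy hz => Submodule.add_mem _ hy hz) (fun b' y _ hy => ?_) hx'
        change ψ b' • y ∈ _
        exact Submodule.smul_mem _ _ hy
    have hK : LinearMap.ker u = ⊥ := by
      refine Submodule.eq_bot_of_le_smul_of_le_jacobson_bot (maximalIdeal B) _ hKfg ?_
        (IsLocalRing.maximalIdeal_le_jacobson ⊥)
      intro x hx
      rw [LinearMap.mem_ker] at hx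
      have hxm : x ∈ (maximalIdeal A • ⊤ : Submodule A N) := hu x (by rw [hx]; exact zero_mem _)
      obtain ⟨a, ha, y, rfl⟩ := exists_eq_smul_of_mem_smul_top _ x hxm
      by_cases ha0 : a = 0
      · rw [ha0, zero_smul]; exact zero_mem _
      · have hy : u y = 0 := by
          refine htfM a (u y) ha0 ?_
          rw [← hx, ← algebraMap_smul B a y, map_smul, algebraMap_smul]
        rw [← algebraMap_smul B a y]
        exact Submodule.smul_mem_smul (map_nonunit (algebraMap A B) a ha)
          (LinearMap.mem_ker.2 hy)
    exact LinearMap.ker_eq_bot.1 hK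
  · -- flatness of the cokernel: same quotient
    have heq : (LinearMap.range Nb.subtype).restrictScalars A =
        (LinearMap.range u).restrictScalars A := by
      ext x
      simp only [Submodule.restrictScalars_mem, LinearMap.mem_range, Submodule.coe_subtype,
        Subtype.exists, exists_prop, exists_eq_right]
      exact Iff.rfl
    let e1 := Submodule.Quotient.restrictScalarsEquiv A (LinearMap.range Nb.subtype)
    let e2 := Submodule.Quotient.restrictScalarsEquiv A (LinearMap.range u)
    exact Module.Flat.of_linearEquiv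
      ((e2.symm.trans (Submodule.quotEquivOfEq _ _ heq.symm)).trans e1)

end Groth.Agent.Lead.NagataVal
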