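import Mathlib

/-!
# (RR) for helper88's S7797 squad: row reduction of polynomial matrices over a field
-/

set_option autoImplicit false
universe u
open Polynomial

namespace Groth.Agent.Lead.P1RowReduce

variable {k : Type u} [Field k] {r : ℕ}

/-- the row degree -/
def rowdeg (A : Matrix (Fin r) (Fin r) k[X]) (i : Fin r) : ℕ :=
  Finset.univ.sup (fun j => (A i j).natDegree)

lemma natDegree_le_rowdeg (A : Matrix (Fin r) (Fin r) k[X]) (i j : Fin r) :
    (A i j).natDegree ≤ rowdeg A i :=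
  Finset.le_sup (f := fun j => (A i j).natDegree) (Finset.mem_univ j)

lemma det_updateRow_one (i₀ : Fin r) (v : Fin r → k[X]) :
    (Matrix.updateRow (1 : Matrix (Fin r) (Fin r) k[X]) i₀ v).det = v i₀ := by
  rw [← Matrix.det_transpose, ← Matrix.updateCol_transpose, Matrix.transpose_one,
    ← Matrix.cramer_apply, Matrix.cramer_one]
  rfl

lemma step (A : Matrix (Fin r) (Fin r) k[X]) (hA : A.det ≠ 0)
    (hLc : ¬ IsUnit (Matrix.of fun i j => (A i j).coeff (rowdeg A i))) :
    ∃ E : Matrix (Fin r) (Fin r) k[X], IsUnit E ∧ (E * A).det ≠ 0 ∧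
      ∑ i, rowdeg (E * A) i < ∑ i, rowdeg A i := by
  classical
  set δ : Fin r → ℕ := rowdeg A with hδ
  set Lc : Matrix (Fin r) (Fin r) k := Matrix.of fun i j => (A i j).coeff (δ i) with hLcdef
  have hdet : Lc.det = 0 := by
    by_contra h
    exact hLc ((Matrix.isUnit_iff_isUnit_det _).2 (isUnit_iff_ne_zero.2 h))
  obtain ⟨w, hw0, hw⟩ := Matrix.exists_vecMul_eq_zero_iff.2 hdet
  have hne : (Finset.univ.filter (fun i => w i ≠ 0)).Nonempty := by
    by_contra h
    apply hw0
    funext i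
    by_contra hi
    exact h ⟨i, Finset.mem_filter.2 ⟨Finset.mem_univ _, hi⟩⟩
  obtain ⟨i₀, hi₀mem, hi₀max⟩ := Finset.exists_max_image _ δ hne
  have hwi₀ : w i₀ ≠ 0 := (Finset.mem_filter.1 hi₀mem).2
  have hmax : ∀ l, w l ≠ 0 → δ l ≤ δ i₀ := fun l hl =>
    hi₀max l (Finset.mem_filter.2 ⟨Finset.mem_univ _, hl⟩)
  set v : Fin r → k[X] := fun l => C (w l) * X ^ (δ i₀ - δ l) with hv
  set E : Matrix (Fin r) (Fin r) k[X] := Matrix.updateRow 1 i₀ v with hE
  have hEdet : E.det = C (w i₀) := by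
    rw [hE, det_updateRow_one, hv]
    simp
  have hEunit : IsUnit E := by
    rw [Matrix.isUnit_iff_isUnit_det, hEdet]
    exact Polynomial.isUnit_C.2 (isUnit_iff_ne_zero.2 hwi₀)
  have hrow_ne : ∀ i, i ≠ i₀ → ∀ j, (E * A) i j = A i j := by
    intro i hi j
    rw [Matrix.mul_apply, hE]
    simp [Matrix.updateRow_ne hi, Matrix.one_apply]
  have hrow_i₀ : ∀ j, (E * A) i₀ j = ∑ l, v l * A l j := by
    intro j
    rw [Matrix.mul_apply, hE]
    simp [Matrix.updateRow_self]
  have hdeg : ∀ j, ((E * A) i₀ j).natDegree ≤ δ i₀ := by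
    intro j
    rw [hrow_i₀]
    apply Polynomial.natDegree_sum_le_of_forall_le
    intro l _
    by_cases hl : w l = 0
    · simp [hv, hl]
    · calc natDegree (v l * A l j) ≤ natDegree (v l) + natDegree (A l j) := natDegree_mul_le
        _ ≤ (δ i₀ - δ l) + δ l :=
          add_le_add (natDegree_C_mul_X_pow_le _ _) (natDegree_le_rowdeg A l j)
        _ = δ i₀ := Nat.sub_add_cancel (hmax l hl)
  have hcoeff : ∀ j, ((E * A) i₀ j).coeff (δ i₀) = 0 := by
    intro j
    rw [hrow_i₀, Polynomial.finsetSum_coeff]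
    have hterm : ∀ l, (v l * A l j).coeff (δ i₀) = w l * (A l j).coeff (δ l) := by
      intro l
      by_cases hl : w l = 0
      · simp [hv, hl]
      · obtain ⟨m, hm⟩ : ∃ m, δ i₀ = δ l + m := ⟨δ i₀ - δ l, by have := hmax l hl; omega⟩
        have hm' : δ i₀ - δ l = m := by omega
        show (C (w l) * X ^ (δ i₀ - δ l) * A l j).coeff (δ i₀) = _
        rw [hm', mul_assoc, coeff_C_mul, hm, coeff_X_pow_mul]
    rw [Finset.sum_congr rfl (fun l _ => hterm l)]
    have h1 := congrFun hw j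
    simpa [Matrix.vecMul, dotProduct, hLcdef] using h1
  have hdetB : (E * A).det ≠ 0 := by
    rw [Matrix.det_mul, hEdet]
    exact mul_ne_zero (C_ne_zero.2 hwi₀) hA
  have hpos : 0 < δ i₀ := by
    by_contra h0
    have h0' : δ i₀ = 0 := by omega
    apply hdetB
    apply Matrix.det_eq_zero_of_row_eq_zero i₀
    intro j
    have h1 := hdeg j
    rw [h0'] at h1
    have h2 := hcoeff j
    rw [h0'] at h2
    rw [Polynomial.eq_C_of_natDegree_le_zero h1, h2, C_0]
  have hlt : rowdeg (E * A) i₀ < δ i₀ := by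
    unfold rowdeg
    rw [Finset.sup_lt_iff (by exact hpos)]
    intro j _
    by_cases hp : (E * A) i₀ j = 0
    · rw [hp, natDegree_zero]; exact hpos
    · refine lt_of_le_of_ne (hdeg j) ?_
      intro heq
      apply hp
      rw [← leadingCoeff_eq_zero, leadingCoeff, heq]
      exact hcoeff j
  have hle : ∀ i, rowdeg (E * A) i ≤ δ i := by
    intro i
    by_cases hi : i = i₀
    · subst hi; exact hlt.le
    · apply le_of_eq
      rw [hδ]
      unfold rowdeg
      congr 1
      funext j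
      rw [hrow_ne i hi j]
  exact ⟨E, hEunit, hdetB, Finset.sum_lt_sum (fun i _ => hle i) ⟨i₀, Finset.mem_univ _, hlt⟩⟩

theorem row_reduce {k : Type u} [Field k] {r : ℕ} (A : Matrix (Fin r) (Fin r) k[X])
    (hA : A.det ≠ 0) : ∃ (U : Matrix (Fin r) (Fin r) k[X]) (δ : Fin r → ℕ), IsUnit U ∧
      (∀ i j, ((U * A) i j).natDegree ≤ δ i) ∧
      IsUnit (Matrix.of fun i j => ((U * A) i j).coeff (δ i)) := by
  have key : ∀ N : ℕ, ∀ A : Matrix (Fin r) (Fin r) k[X], A.det ≠ 0 → ∑ i, rowdeg A i = N →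
      ∃ (U : Matrix (Fin r) (Fin r) k[X]) (δ : Fin r → ℕ), IsUnit U ∧
        (∀ i j, ((U * A) i j).natDegree ≤ δ i) ∧
        IsUnit (Matrix.of fun i j => ((U * A) i j).coeff (δ i)) := by
    intro N
    induction N using Nat.strong_induction_on with
    | _ N ih =>
      intro A hA hN
      by_cases hLc : IsUnit (Matrix.of fun i j => (A i j).coeff (rowdeg A i))
      · refine ⟨1, rowdeg A, isUnit_one, ?_, ?_⟩
        · intro i j
          rw [Matrix.one_mul]
          exact natDegree_le_rowdeg A i j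
        · rw [Matrix.one_mul]
          exact hLc
      · obtain ⟨E, hE, hdetB, hlt⟩ := step A hA hLc
        obtain ⟨U', δ', hU', hb, hl⟩ := ih _ (hN ▸ hlt) (E * A) hdetB rfl
        refine ⟨U' * E, δ', hU'.mul hE, ?_, ?_⟩
        · intro i j
          rw [Matrix.mul_assoc]
          exact hb i j
        · rw [Matrix.mul_assoc]
          exact hl
  exact key _ A hA rfl

end Groth.Agent.Lead.P1RowReduce
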