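import Mathlib
import Groth.Agent.H79.RegCM

/-!
# Lead helper library: the cokernel of `A/(∏ fᵢ) → ∏ A/(fᵢ)` for pairwise coprime primes

* `length_coker_prod`: for `α : A → M₁` surjective and `β : A → M₂`, the cokernel of
  `(α, β) : A → M₁ × M₂` has length `ℓ(A/(ker α + ker β)) + ℓ(M₂ / range β)`.
* `length_sup_prod`: `ℓ(A/(I + (∏ hᵢ))) = ∑ ℓ(A/(I + (hᵢ)))` when the `hᵢ` are regular modulo `I`.
* `ker_diag`, `length_coker_diag`: the diagonal map `A → ∏ᵢ A/(fᵢ)`.
-/

set_option autoImplicit false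
universe u

namespace Groth.Agent.Lead.PairLen

variable {A : Type u} [CommRing A]

section coker

variable {M₁ M₂ : Type u} [AddCommGroup M₁] [Module A M₁] [AddCommGroup M₂] [Module A M₂]

theorem length_coker_prod (α : A →ₗ[A] M₁) (β : A →ₗ[A] M₂) (hα : Function.Surjective α) :
    Module.length A ((M₁ × M₂) ⧸ LinearMap.range (α.prod β)) =
      Module.length A (A ⧸ (LinearMap.ker α ⊔ LinearMap.ker β)) +
        Module.length A (M₂ ⧸ LinearMap.range β) := by
  set N := LinearMap.range (α.prod β) with hN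
  have h1 : N ≤ Submodule.comap (LinearMap.snd A M₁ M₂) (LinearMap.range β) := by
    rintro _ ⟨a, rfl⟩
    exact ⟨a, rfl⟩
  let π : ((M₁ × M₂) ⧸ N) →ₗ[A] (M₂ ⧸ LinearMap.range β) :=
    Submodule.mapQ N (LinearMap.range β) (LinearMap.snd A M₁ M₂) h1
  have h2 : LinearMap.ker α ⊔ LinearMap.ker β ≤
      LinearMap.ker (N.mkQ ∘ₗ LinearMap.inl A M₁ M₂ ∘ₗ α) := by
    refine sup_le ?_ ?_
    · intro b hb
      rw [LinearMap.mem_ker] at hb ⊢
      rw [LinearMap.comp_apply, LinearMap.comp_apply, hb, map_zero, map_zero]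
    · intro b hb
      rw [LinearMap.mem_ker] at hb ⊢
      rw [LinearMap.comp_apply, LinearMap.comp_apply, Submodule.mkQ_apply,
        Submodule.Quotient.mk_eq_zero]
      refine ⟨b, ?_⟩
      simp [hb]
  let κ : (A ⧸ (LinearMap.ker α ⊔ LinearMap.ker β)) →ₗ[A] ((M₁ × M₂) ⧸ N) :=
    Submodule.liftQ _ (N.mkQ ∘ₗ LinearMap.inl A M₁ M₂ ∘ₗ α) h2
  have hκ : ∀ b : A, κ (Submodule.Quotient.mk b) = Submodule.Quotient.mk (α b, 0) := fun b => rfl
  have hπ : ∀ m : M₁ × M₂, π (Submodule.Quotient.mk m) = Submodule.Quotient.mk m.2 := fun m => rfl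
  have hinj : Function.Injective κ := by
    rw [← LinearMap.ker_eq_bot, Submodule.eq_bot_iff]
    intro z hz
    obtain ⟨b, rfl⟩ := Submodule.Quotient.mk_surjective _ z
    rw [LinearMap.mem_ker, hκ, Submodule.Quotient.mk_eq_zero] at hz
    obtain ⟨a, ha⟩ := hz
    have ha1 : α a = α b := congrArg Prod.fst ha
    have ha2 : β a = 0 := congrArg Prod.snd ha
    rw [Submodule.Quotient.mk_eq_zero]
    have hb : b = (b - a) + a := by ring
    rw [hb]
    refine Submodule.add_mem _ (Submodule.mem_sup_left ?_) (Submodule.mem_sup_right ?_)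
    · rw [LinearMap.mem_ker, map_sub, ha1, sub_self]
    · rw [LinearMap.mem_ker, ha2]
  have hsurj : Function.Surjective π := by
    intro z
    obtain ⟨m, rfl⟩ := Submodule.Quotient.mk_surjective _ z
    exact ⟨Submodule.Quotient.mk (0, m), rfl⟩
  have hex : Function.Exact κ π := by
    intro z
    constructor
    · intro hz
      obtain ⟨⟨m₁, m₂⟩, rfl⟩ := Submodule.Quotient.mk_surjective _ z
      rw [hπ, Submodule.Quotient.mk_eq_zero] at hz
      obtain ⟨a, ha⟩ := hz
      obtain ⟨c, hc⟩ := hα m₁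
      refine ⟨Submodule.Quotient.mk (c - a), ?_⟩
      rw [hκ, eq_comm, ← sub_eq_zero, ← Submodule.Quotient.mk_sub, Submodule.Quotient.mk_eq_zero]
      refine ⟨a, ?_⟩
      have ha' : β a = m₂ := ha
      show (α a, β a) = (m₁, m₂) - (α (c - a), 0)
      rw [map_sub, hc, ha', Prod.mk_sub_mk, sub_zero, sub_sub_cancel]
    · rintro ⟨y, rfl⟩
      obtain ⟨b, rfl⟩ := Submodule.Quotient.mk_surjective _ y
      rw [hκ, hπ]
      exact Submodule.Quotient.mk_zero _
  rw [Module.length_eq_add_of_exact κ π hinj hsurj hex]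

end coker

section prod

theorem length_sup_prod {ι : Type*} (I : Ideal A) (h : ι → A) (s : Finset ι)
    (hreg : ∀ i ∈ s, ∀ a, h i * a ∈ I → a ∈ I) :
    Module.length A (A ⧸ (I ⊔ Ideal.span {∏ i ∈ s, h i})) =
      ∑ i ∈ s, Module.length A (A ⧸ (I ⊔ Ideal.span {h i})) := by
  classical
  induction s using Finset.induction_on with
  | empty =>
    rw [Finset.prod_empty, Finset.sum_empty, Ideal.span_singleton_one, sup_top_eq]
    exact Module.length_eq_zero
  | insert a s ha ih =>
    rw [Finset.prod_insert ha, Finset.sum_insert ha, mul_comm,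
      Groth.Agent.H79.RegCM.length_sup_mul I (∏ i ∈ s, h i) (h a)
        (hreg a (Finset.mem_insert_self a s)),
      ih (fun i hi => hreg i (Finset.mem_insert_of_mem hi)), add_comm]

end prod

section diag

/-- the diagonal map `A → ∏ᵢ A/(fᵢ)`. -/
def diag {n : ℕ} (f : Fin n → A) : A →ₗ[A] ((i : Fin n) → A ⧸ Ideal.span {f i}) :=
  LinearMap.pi (fun i => Submodule.mkQ (Ideal.span {f i}))

theorem diag_apply {n : ℕ} (f : Fin n → A) (a : A) (i : Fin n) :
    diag f a i = Ideal.Quotient.mk (Ideal.span {f i}) a := rfl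

theorem mem_ker_diag {n : ℕ} (f : Fin n → A) (a : A) :
    a ∈ LinearMap.ker (diag f) ↔ ∀ i, f i ∣ a := by
  rw [LinearMap.mem_ker, funext_iff]
  refine forall_congr' fun i => ?_
  rw [diag_apply, Pi.zero_apply, Ideal.Quotient.eq_zero_iff_mem, Ideal.mem_span_singleton]

theorem ker_diag [IsDomain A] [DecompositionMonoid A] {n : ℕ} (f : Fin n → A)
    (hcop : ∀ i j, i ≠ j → IsRelPrime (f i) (f j)) :
    LinearMap.ker (diag f) = Ideal.span {∏ i, f i} := by
  ext a
  rw [mem_ker_diag, Ideal.mem_span_singleton]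
  constructor
  · intro h
    exact Finset.prod_dvd_of_isRelPrime (fun i _ j _ hij => hcop i j hij) (fun i _ => h i)
  · intro h i
    exact (Finset.dvd_prod_of_mem f (Finset.mem_univ i)).trans h

theorem sum_pairs_succ {n : ℕ} (F : Fin (n + 1) → Fin (n + 1) → ℕ∞) :
    ∑ p ∈ (Finset.univ : Finset (Fin (n + 1) × Fin (n + 1))) with p.1 < p.2, F p.1 p.2 =
      ∑ j : Fin n, F 0 j.succ +
        ∑ p ∈ (Finset.univ : Finset (Fin n × Fin n)) with p.1 < p.2, F p.1.succ p.2.succ := by
  rw [Finset.sum_filter, Finset.sum_filter, ← Finset.univ_product_univ, Finset.sum_product,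
    ← Finset.univ_product_univ, Finset.sum_product, Fin.sum_univ_succ]
  congr 1
  · rw [Fin.sum_univ_succ]
    simp [Fin.succ_pos]
  · refine Finset.sum_congr rfl fun i _ => ?_
    rw [Fin.sum_univ_succ]
    simp [Fin.succ_lt_succ_iff]

theorem length_coker_diag [IsDomain A] [DecompositionMonoid A] :
    ∀ {n : ℕ} (f : Fin n → A), (∀ i, Prime (f i)) →
      (∀ i j, i ≠ j → IsRelPrime (f i) (f j)) →
      Module.length A (((i : Fin n) → A ⧸ Ideal.span {f i}) ⧸ LinearMap.range (diag f)) =
        ∑ p ∈ (Finset.univ : Finset (Fin n × Fin n)) with p.1 < p.2,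
          Module.length A (A ⧸ Ideal.span ({f p.1, f p.2} : Set A)) := by
  intro n
  induction n with
  | zero =>
    intro f _ _
    rw [Module.length_eq_zero]
    symm
    apply Finset.sum_eq_zero
    rintro ⟨i, _⟩ _
    exact i.elim0
  | succ n ih =>
    intro f hp hcop
    let f' : Fin n → A := fun i => f i.succ
    have hcop' : ∀ i j, i ≠ j → IsRelPrime (f' i) (f' j) := fun i j hij =>
      hcop i.succ j.succ (fun h => hij (Fin.succ_injective _ h))
    have ih' := ih f' (fun i => hp i.succ) hcop'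
    let e := Fin.consLinearEquiv A (fun i : Fin (n + 1) => A ⧸ Ideal.span {f i})
    let α : A →ₗ[A] A ⧸ Ideal.span {f 0} := Submodule.mkQ (Ideal.span {f 0})
    have hα : Function.Surjective α := Submodule.mkQ_surjective _
    have hcomp : (e : _ →ₗ[A] _) ∘ₗ (α.prod (diag f')) = diag f := by
      apply LinearMap.ext
      intro a
      funext i
      refine Fin.cases ?_ (fun j => ?_) i
      · rfl
      · rfl
    have hmap : (LinearMap.range (α.prod (diag f'))).map (e : _ →ₗ[A] _) =
        LinearMap.range (diag f) := by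
      rw [← LinearMap.range_comp, hcomp]
    have hlen := (Submodule.Quotient.equiv (LinearMap.range (α.prod (diag f')))
      (LinearMap.range (diag f)) e hmap).length_eq
    rw [← hlen, length_coker_prod α (diag f') hα, ih', Submodule.ker_mkQ, ker_diag f' hcop',
      sum_pairs_succ (fun i j => Module.length A (A ⧸ Ideal.span ({f i, f j} : Set A)))]
    congr 1
    have hreg : ∀ i ∈ (Finset.univ : Finset (Fin n)), ∀ a, f' i * a ∈ Ideal.span {f 0} →
        a ∈ Ideal.span {f 0} := by
      intro i _ a ha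
      rw [Ideal.mem_span_singleton] at ha ⊢
      rcases (hp 0).dvd_or_dvd ha with h | h
      · exfalso
        have hrel := hcop 0 i.succ (Fin.succ_ne_zero i).symm
        exact (hp 0).not_isUnit (hrel dvd_rfl h)
      · exact h
    rw [length_sup_prod (Ideal.span {f 0}) f' Finset.univ hreg]
    refine Finset.sum_congr rfl fun j _ => ?_
    rw [Ideal.span_insert]

end diag

end Groth.Agent.Lead.PairLen
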