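import Groth.Agent.S2456
import Groth.Agent.S4533
import Groth.Agent.S4534
import Groth.Agent.S4537
import Groth.Agent.H44.CoeffField
import Groth.Agent.Lead.CohenRingIso

/-!
# Formal smoothness of power series rings over Cohen rings / fields of char p
-/

open IsLocalRing

namespace Groth.Agent.Lead.PowerSeriesFS

theorem maximalIdeal_mvPowerSeries (σ : Type*) (R : Type*) [CommRing R] [IsLocalRing R] :
    IsLocalRing.maximalIdeal (MvPowerSeries σ R) =
      (IsLocalRing.maximalIdeal R).map (MvPowerSeries.C : R →+* MvPowerSeries σ R) ⊔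
        RingHom.ker (MvPowerSeries.constantCoeff : MvPowerSeries σ R →+* R) := by
  apply le_antisymm
  · intro f hf
    rw [IsLocalRing.mem_maximalIdeal, mem_nonunits_iff,
      MvPowerSeries.isUnit_iff_constantCoeff] at hf
    have h1 : MvPowerSeries.constantCoeff f ∈ IsLocalRing.maximalIdeal R := hf
    have h2 : f = MvPowerSeries.C (MvPowerSeries.constantCoeff f) +
        (f - MvPowerSeries.C (MvPowerSeries.constantCoeff f)) := by ring
    rw [h2]
    refine Ideal.add_mem _ (Ideal.mem_sup_left (Ideal.mem_map_of_mem _ h1))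
      (Ideal.mem_sup_right ?_)
    rw [RingHom.mem_ker, map_sub, MvPowerSeries.constantCoeff_C, sub_self]
  · refine sup_le ?_ ?_
    · rw [Ideal.map_le_iff_le_comap]
      intro a ha
      rw [Ideal.mem_comap, IsLocalRing.mem_maximalIdeal, mem_nonunits_iff,
        MvPowerSeries.isUnit_iff_constantCoeff, MvPowerSeries.constantCoeff_C]
      exact ha
    · intro f hf
      rw [RingHom.mem_ker] at hf
      rw [IsLocalRing.mem_maximalIdeal, mem_nonunits_iff,
        MvPowerSeries.isUnit_iff_constantCoeff, hf]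
      exact not_isUnit_zero

theorem zmod_case (p : ℕ) [Fact p.Prime] (L : Type) [Field L] [Algebra (ZMod p) L] (n : ℕ) :
    CAlgX.IsAdicFormallySmooth (ZMod p) (MvPowerSeries (Fin n) L)
      (IsLocalRing.maximalIdeal (MvPowerSeries (Fin n) L)) := by
  rw [Groth.Agent.S4537.result]
  haveI : CharP L p := charP_of_injective_algebraMap (algebraMap (ZMod p) L).injective p
  haveI : Algebra.FormallySmooth (ZMod p) L :=
    Groth.Agent.H44.CoeffField.formallySmooth_of_charP_perfect p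
  have h1 : EGA41.IsFormallySmoothAdic (ZMod p) ⊥ L ⊥ := by
    intro C _ _ J hJ _ u _
    exact Algebra.FormallySmooth.exists_lift J hJ u
  have h2 : EGA41.IsFormallySmoothAdic L ⊥ (MvPowerSeries (Fin n) L)
      (IsLocalRing.maximalIdeal (MvPowerSeries (Fin n) L)) := by
    rw [maximalIdeal_mvPowerSeries, IsLocalRing.maximalIdeal_eq_bot]
    exact Groth.Agent.S4533.result L ⊥ n
  exact Groth.Agent.S4534.result ⊥ ⊥ _ ⟨1, by simp⟩ ⟨1, by simp⟩ h1 h2

theorem int_case (Λ : Type) [CommRing Λ] [IsLocalRing Λ] [IsDomain Λ]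
    [IsDiscreteValuationRing Λ]
    (p : ℕ) (hp : p.Prime) (hm : IsLocalRing.maximalIdeal Λ = Ideal.span {(p : Λ)}) (n : ℕ) :
    CAlgX.IsAdicFormallySmooth ℤ (MvPowerSeries (Fin n) Λ)
      (IsLocalRing.maximalIdeal (MvPowerSeries (Fin n) Λ)) := by
  letI algΛ : Algebra (ULift.{0} ℤ) Λ := ULift.algebra' ℤ Λ
  letI algS : Algebra (ULift.{0} ℤ) (MvPowerSeries (Fin n) Λ) := ULift.algebra' ℤ _
  haveI : IsScalarTower (ULift.{0} ℤ) Λ (MvPowerSeries (Fin n) Λ) :=
    IsScalarTower.of_algebraMap_eq' (Groth.Agent.S2456.ulift_int_ringHom_ext _ _)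
  set 𝔞 : Ideal (ULift.{0} ℤ) := Ideal.span {(ULift.up (p : ℤ) : ULift.{0} ℤ)} with h𝔞
  have h1 : EGA41.IsFormallySmoothAdic (ULift.{0} ℤ) 𝔞 Λ (IsLocalRing.maximalIdeal Λ) :=
    Groth.Agent.S2456.adic_of_cohenRing Λ p hp hm _
  have h2 : EGA41.IsFormallySmoothAdic Λ (IsLocalRing.maximalIdeal Λ) (MvPowerSeries (Fin n) Λ)
      (IsLocalRing.maximalIdeal (MvPowerSeries (Fin n) Λ)) := by
    rw [maximalIdeal_mvPowerSeries]
    exact Groth.Agent.S4533.result Λ (IsLocalRing.maximalIdeal Λ) n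
  have hmap : 𝔞.map (algebraMap (ULift.{0} ℤ) Λ) = IsLocalRing.maximalIdeal Λ := by
    rw [hm]; exact Groth.Agent.Lead.CohenRingIso.map_span_up Λ p
  have h3 : EGA41.IsFormallySmoothAdic (ULift.{0} ℤ) 𝔞 (MvPowerSeries (Fin n) Λ)
      (IsLocalRing.maximalIdeal (MvPowerSeries (Fin n) Λ)) := by
    refine Groth.Agent.S4534.result 𝔞 (IsLocalRing.maximalIdeal Λ) _ ⟨1, ?_⟩ ⟨1, ?_⟩ h1 h2
    · rw [pow_one, hmap]
    · rw [pow_one, maximalIdeal_mvPowerSeries, ← MvPowerSeries.c_eq_algebraMap]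
      exact le_sup_left
  intro A _ _ J hJ ψ hψ
  obtain ⟨k, hk⟩ := hψ
  letI algA : Algebra (ULift.{0} ℤ) A := ULift.algebra' ℤ A
  let ψ' : MvPowerSeries (Fin n) Λ →ₐ[ULift.{0} ℤ] A ⧸ J :=
    { ψ.toRingHom with
      commutes' := fun z => RingHom.congr_fun (Groth.Agent.S2456.ulift_int_ringHom_ext
        (ψ.toRingHom.comp (algebraMap (ULift.{0} ℤ) _)) (algebraMap (ULift.{0} ℤ) (A ⧸ J))) z }
  have hnil : IsNilpotent J := ⟨2, by rw [hJ]; rfl⟩
  have hpS : ((p : ℕ) : MvPowerSeries (Fin n) Λ) ∈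
      IsLocalRing.maximalIdeal (MvPowerSeries (Fin n) Λ) := by
    rw [maximalIdeal_mvPowerSeries]
    apply Ideal.mem_sup_left
    have h0 : ((p : ℕ) : MvPowerSeries (Fin n) Λ) = MvPowerSeries.C ((p : ℕ) : Λ) :=
      (map_natCast _ p).symm
    rw [h0]
    apply Ideal.mem_map_of_mem
    rw [hm]; exact Ideal.subset_span rfl
  have h4 : ψ (((p : ℕ) : MvPowerSeries (Fin n) Λ) ^ k) = 0 := hk _ (Ideal.pow_mem_pow hpS k)
  rw [map_pow, map_natCast] at h4
  have h5 : ((p : ℕ) : A) ^ k ∈ J := by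
    rw [← Ideal.Quotient.eq_zero_iff_mem, map_pow, map_natCast]; exact h4
  have h6 : ((p : ℕ) : A) ^ (2 * k) = 0 := by
    have h : ((p : ℕ) : A) ^ (2 * k) ∈ J ^ 2 := by
      rw [two_mul, pow_add, pow_two]; exact Ideal.mul_mem_mul h5 h5
    rwa [hJ, Ideal.mem_bot] at h
  have h7 : algebraMap (ULift.{0} ℤ) A (ULift.up (p : ℤ)) = ((p : ℕ) : A) := by
    change algebraMap ℤ A ((p : ℤ)) = _
    rw [eq_intCast]; push_cast; rfl
  have hpk : ∃ k' : ℕ, (𝔞 ^ k').map (algebraMap (ULift.{0} ℤ) A) = ⊥ := by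
    refine ⟨2 * k, ?_⟩
    rw [h𝔞, Ideal.span_singleton_pow, Ideal.map_span, Set.image_singleton,
      Ideal.span_singleton_eq_bot, map_pow, h7]
    exact h6
  obtain ⟨v, hv⟩ := h3 A J hnil hpk ψ' ⟨k, hk⟩
  refine ⟨{ v.toRingHom with
      commutes' := fun z => RingHom.congr_fun (RingHom.ext_int
        (v.toRingHom.comp (algebraMap ℤ (MvPowerSeries (Fin n) Λ))) (algebraMap ℤ A)) z },
    AlgHom.ext fun x => ?_⟩
  have h8 := congrArg (fun f => f x) hv
  exact h8

end Groth.Agent.Lead.PowerSeriesFS
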