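import Groth.Agent.H98.GrCat
import Groth.Prelude.Def_CAlg
import Groth.Prelude.Def_GrSeg
import Groth.Prelude.Def_Wider

/-!
# (LOC) for helper98's S18663 squad: the ℤ-graded localisation `R_f` as a bundled graded module
-/

set_option autoImplicit false
set_option linter.style.haveILetI false
set_option warn.classDefReducibility false
universe u
open DirectSum

namespace Groth.Agent.Lead.SegCM

section Loc

variable {R : Type u} [CommRing R] (𝒜 : ℤ → AddSubgroup R) [GradedRing 𝒜]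
  (e : ℤ) (f : R)

local notation "S" => Localization.Away f

/-- `a / f^j` -/
noncomputable def mk (a : R) (j : ℕ) : S :=
  algebraMap R S a * (IsLocalization.Away.invSelf f : S) ^ j

omit [GradedRing 𝒜] in
theorem mk_mul_pow (a : R) (j : ℕ) : mk f a j * (algebraMap R S f) ^ j = algebraMap R S a := by
  unfold mk
  rw [mul_assoc, ← mul_pow, mul_comm (IsLocalization.Away.invSelf f : S),
    IsLocalization.Away.mul_invSelf, one_pow, mul_one]

theorem pow_mul_mk (a : R) (j : ℕ) : (algebraMap R S f) ^ j * mk f a j = algebraMap R S a := by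
  rw [mul_comm, mk_mul_pow]

theorem mk_zero_right (a : R) : mk f a 0 = algebraMap R S a := by
  unfold mk; rw [pow_zero, mul_one]

theorem exists_mk (x : S) : ∃ (a : R) (j : ℕ), x = mk f a j := by
  obtain ⟨j, a, h⟩ := IsLocalization.Away.surj f x
  refine ⟨a, j, ?_⟩
  unfold mk
  rw [← h, mul_assoc, ← mul_pow, IsLocalization.Away.mul_invSelf, one_pow, mul_one]

theorem mk_eq_of_eq {a b : R} {j l : ℕ} (h : f ^ l * a = f ^ j * b) : mk f a j = mk f b l := by
  have hu : IsUnit ((algebraMap R S f) ^ (j + l)) :=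
    (IsLocalization.Away.algebraMap_isUnit f).pow _
  apply hu.mul_left_cancel
  calc (algebraMap R S f) ^ (j + l) * mk f a j
      = (algebraMap R S f) ^ l * ((algebraMap R S f) ^ j * mk f a j) := by
        rw [pow_add]; ring
    _ = algebraMap R S (f ^ l * a) := by rw [pow_mul_mk, map_mul, map_pow]
    _ = algebraMap R S (f ^ j * b) := by rw [h]
    _ = (algebraMap R S f) ^ j * ((algebraMap R S f) ^ l * mk f b l) := by
        rw [pow_mul_mk, map_mul, map_pow]
    _ = (algebraMap R S f) ^ (j + l) * mk f b l := by rw [pow_add]; ring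

variable (hreg : IsSMulRegular R f)

include hreg in
theorem algebraMap_injective : Function.Injective (algebraMap R S) := by
  apply IsLocalization.injective S (M := Submonoid.powers f)
  rintro _ ⟨k, rfl⟩
  rw [mem_nonZeroDivisors_iff_right]
  intro x hx
  have hk : IsSMulRegular R (f ^ k) := hreg.pow k
  apply hk
  show f ^ k * x = f ^ k * 0
  rw [mul_zero, mul_comm]
  exact hx

include hreg in
theorem eq_of_mk_eq {a b : R} {j l : ℕ} (h : mk f a j = mk f b l) : f ^ l * a = f ^ j * b := by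
  apply algebraMap_injective f hreg
  rw [map_mul, map_mul, map_pow, map_pow, ← pow_mul_mk f a j, ← pow_mul_mk f b l, h]
  ring

omit [GradedRing 𝒜] in
theorem mk_add (a b : R) (j : ℕ) : mk f a j + mk f b j = mk f (a + b) j := by
  unfold mk; rw [map_add, add_mul]

omit [GradedRing 𝒜] in
theorem mk_raise (a : R) (j l : ℕ) : mk f a j = mk f (f ^ l * a) (j + l) :=
  mk_eq_of_eq f (by rw [pow_add]; ring)

omit [GradedRing 𝒜] in
theorem smul_mk (r a : R) (j : ℕ) : r • mk f a j = mk f (r * a) j := by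
  unfold mk; rw [Algebra.smul_def, map_mul, mul_assoc]

omit [GradedRing 𝒜] in
theorem mk_zero_left (j : ℕ) : mk f 0 j = 0 := by unfold mk; rw [map_zero, zero_mul]

variable {𝒜 e f}

theorem pow_mul_mem (hf : f ∈ 𝒜 e) {a : R} {m : ℤ} (ha : a ∈ 𝒜 m) (l : ℕ) :
    f ^ l * a ∈ 𝒜 (m + l * e) := by
  have h1 := SetLike.pow_mem_graded l hf
  have h2 := SetLike.mul_mem_graded h1 ha
  have h3 : l • e + m = m + l * e := by rw [nsmul_eq_mul]; ring
  rwa [h3] at h2

theorem pow_mem (hf : f ∈ 𝒜 e) (l : ℕ) : f ^ l ∈ 𝒜 (l * e) := by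
  have h1 := SetLike.pow_mem_graded l hf
  rwa [nsmul_eq_mul] at h1

variable (𝒜 e f)

/-- the pieces of `R_f` -/
def gr (hf : f ∈ 𝒜 e) (n : ℤ) : AddSubgroup S where
  carrier := {x | ∃ (j : ℕ) (a : R), a ∈ 𝒜 (n + j * e) ∧ x = mk f a j}
  zero_mem' := ⟨0, 0, zero_mem _, (mk_zero_left f 0).symm⟩
  add_mem' := by
    rintro _ _ ⟨j, a, ha, rfl⟩ ⟨l, b, hb, rfl⟩
    refine ⟨j + l, f ^ l * a + f ^ j * b, add_mem ?_ ?_, ?_⟩
    · have := pow_mul_mem hf ha l
      have h3 : n + j * e + l * e = n + ((j + l : ℕ) : ℤ) * e := by push_cast; ring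
      rwa [h3] at this
    · have := pow_mul_mem hf hb j
      have h3 : n + l * e + j * e = n + ((j + l : ℕ) : ℤ) * e := by push_cast; ring
      rwa [h3] at this
    · rw [← mk_add, ← mk_raise, add_comm j l, ← mk_raise]
  neg_mem' := by
    rintro _ ⟨j, a, ha, rfl⟩
    exact ⟨j, -a, neg_mem ha, by unfold mk; rw [map_neg, neg_mul]⟩

/-- the `n`-th component of `a / f^j` -/
noncomputable def cmp (n : ℤ) (a : R) (j : ℕ) : S :=
  mk f ((decompose 𝒜 a (n + j * e) : 𝒜 (n + j * e)) : R) j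

theorem cmp_add (n : ℤ) (a b : R) (j : ℕ) :
    cmp 𝒜 e f n (a + b) j = cmp 𝒜 e f n a j + cmp 𝒜 e f n b j := by
  unfold cmp
  rw [decompose_add, DirectSum.add_apply, AddMemClass.coe_add, ← mk_add]

theorem cmp_congr (hreg : IsSMulRegular R f) (hf : f ∈ 𝒜 e) {a b : R} {j l : ℕ}
    (h : mk f a j = mk f b l) (n : ℤ) : cmp 𝒜 e f n a j = cmp 𝒜 e f n b l := by
  have h1 := eq_of_mk_eq f hreg h
  apply mk_eq_of_eq
  have e1 : ((decompose 𝒜 (f ^ l * a) ((l : ℤ) * e + (n + j * e)) :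
      𝒜 ((l : ℤ) * e + (n + j * e))) : R) =
      f ^ l * ((decompose 𝒜 a (n + j * e) : 𝒜 (n + j * e)) : R) :=
    coe_decompose_mul_add_of_left_mem 𝒜 (pow_mem hf l)
  have e2 : ((decompose 𝒜 (f ^ j * b) ((j : ℤ) * e + (n + l * e)) :
      𝒜 ((j : ℤ) * e + (n + l * e))) : R) =
      f ^ j * ((decompose 𝒜 b (n + l * e) : 𝒜 (n + l * e)) : R) :=
    coe_decompose_mul_add_of_left_mem 𝒜 (pow_mem hf j)
  rw [← e1, ← e2, h1]
  have hidx : (l : ℤ) * e + (n + j * e) = (j : ℤ) * e + (n + l * e) := by ring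
  exact congrArg (fun i => ((decompose 𝒜 (f ^ j * b) i : 𝒜 i) : R)) hidx

/-- a chosen numerator -/
noncomputable def num (x : S) : R := Classical.choose (exists_mk f x)
/-- a chosen exponent -/
noncomputable def ex (x : S) : ℕ := Classical.choose (Classical.choose_spec (exists_mk f x))

omit [GradedRing 𝒜] in
theorem mk_num_ex (x : S) : mk f (num f x) (ex f x) = x :=
  (Classical.choose_spec (Classical.choose_spec (exists_mk f x))).symm

/-- the component maps, as functions -/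
noncomputable def piFun (n : ℤ) (x : S) : S := cmp 𝒜 e f n (num f x) (ex f x)

theorem piFun_mk (hreg : IsSMulRegular R f) (hf : f ∈ 𝒜 e) (n : ℤ) (a : R) (j : ℕ) :
    piFun 𝒜 e f n (mk f a j) = cmp 𝒜 e f n a j :=
  cmp_congr 𝒜 e f hreg hf (mk_num_ex f _) n

/-- the component maps -/
noncomputable def π (hreg : IsSMulRegular R f) (hf : f ∈ 𝒜 e) (n : ℤ) : S →+ S where
  toFun := piFun 𝒜 e f n
  map_zero' := by
    rw [← mk_zero_left f 0, piFun_mk 𝒜 e f hreg hf]
    unfold cmp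
    rw [decompose_zero, DirectSum.zero_apply, ZeroMemClass.coe_zero]
  map_add' x y := by
    obtain ⟨a, j, rfl⟩ := exists_mk f x
    obtain ⟨b, l, rfl⟩ := exists_mk f y
    rw [mk_raise f a j l, mk_raise f b l j, add_comm l j, mk_add,
      piFun_mk 𝒜 e f hreg hf, piFun_mk 𝒜 e f hreg hf, piFun_mk 𝒜 e f hreg hf, cmp_add]

theorem π_mk (hreg : IsSMulRegular R f) (hf : f ∈ 𝒜 e) (n : ℤ) (a : R) (j : ℕ) :
    π 𝒜 e f hreg hf n (mk f a j) = cmp 𝒜 e f n a j := piFun_mk 𝒜 e f hreg hf n a j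

end Loc

section Facts

variable {R : Type u} [CommRing R] (𝒜 : ℤ → AddSubgroup R) [GradedRing 𝒜]
  (e : ℤ) (f : R) (hreg : IsSMulRegular R f) (hf : f ∈ 𝒜 e)

local notation "S" => Localization.Away f

theorem mk_sum {α : Type*} (s : Finset α) (g : α → R) (j : ℕ) :
    mk f (∑ i ∈ s, g i) j = ∑ i ∈ s, mk f (g i) j := by
  unfold mk
  rw [map_sum, Finset.sum_mul]

theorem π_mem (n : ℤ) (x : S) : π 𝒜 e f hreg hf n x ∈ gr 𝒜 e f hf n := by
  obtain ⟨a, j, rfl⟩ := exists_mk f x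
  rw [π_mk]
  exact ⟨j, _, (decompose 𝒜 a _).2, rfl⟩

open Classical in
/-- a finite support for the components -/
noncomputable def supp (x : S) : Finset ℤ :=
  ((decompose 𝒜 (num f x)).support).image (fun m => m - (ex f x : ℤ) * e)

theorem π_eq_zero_of_not_mem (x : S) (n : ℤ) (hn : n ∉ supp 𝒜 e f x) :
    π 𝒜 e f hreg hf n x = 0 := by
  classical
  show cmp 𝒜 e f n (num f x) (ex f x) = 0
  have h0 : decompose 𝒜 (num f x) (n + (ex f x : ℤ) * e) = 0 := by
    by_contra hne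
    apply hn
    unfold supp
    rw [Finset.mem_image]
    exact ⟨n + (ex f x : ℤ) * e, DFinsupp.mem_support_iff.2 hne, by ring⟩
  unfold cmp
  rw [h0, ZeroMemClass.coe_zero, mk_zero_left]

theorem sum_π (x : S) : ∑ n ∈ supp 𝒜 e f x, π 𝒜 e f hreg hf n x = x := by
  classical
  have hinj : Function.Injective (fun m : ℤ => m - (ex f x : ℤ) * e) := fun a b h => by
    simpa using h
  unfold supp
  rw [Finset.sum_image (fun a _ b _ h => hinj h)]
  have h1 : ∀ m : ℤ, π 𝒜 e f hreg hf (m - (ex f x : ℤ) * e) x =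
      mk f ((decompose 𝒜 (num f x) m : 𝒜 m) : R) (ex f x) := by
    intro m
    show cmp 𝒜 e f (m - (ex f x : ℤ) * e) (num f x) (ex f x) = _
    unfold cmp
    have hidx : m - (ex f x : ℤ) * e + (ex f x : ℤ) * e = m := by ring
    exact congrArg (fun i => mk f ((decompose 𝒜 (num f x) i : 𝒜 i) : R) (ex f x)) hidx
  rw [Finset.sum_congr rfl (fun m _ => h1 m), ← mk_sum, sum_support_decompose, mk_num_ex]

theorem π_self (n : ℤ) (x : S) (hx : x ∈ gr 𝒜 e f hf n) : π 𝒜 e f hreg hf n x = x := by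
  obtain ⟨j, a, ha, rfl⟩ := hx
  rw [π_mk]
  unfold cmp
  rw [decompose_of_mem_same 𝒜 ha]

theorem π_other (n m : ℤ) (x : S) (hnm : n ≠ m) (hx : x ∈ gr 𝒜 e f hf m) :
    π 𝒜 e f hreg hf n x = 0 := by
  obtain ⟨j, a, ha, rfl⟩ := hx
  rw [π_mk]
  unfold cmp
  have hne : m + (j : ℤ) * e ≠ n + (j : ℤ) * e := fun h => hnm (by linarith)
  rw [decompose_of_mem_ne 𝒜 ha hne, mk_zero_left]

/-- the decomposition of `R_f` -/
noncomputable def dec : DirectSum.Decomposition (gr 𝒜 e f hf) :=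
  Groth.Agent.H98.GrCat.decompOfProj (gr 𝒜 e f hf) (π 𝒜 e f hreg hf) (supp 𝒜 e f)
    (π_mem 𝒜 e f hreg hf) (π_eq_zero_of_not_mem 𝒜 e f hreg hf) (sum_π 𝒜 e f hreg hf)
    (π_self 𝒜 e f hreg hf) (fun i j x hij hx => π_other 𝒜 e f hreg hf i j x hij hx)

theorem gsmul : SetLike.GradedSMul 𝒜 (gr 𝒜 e f hf) := by
  constructor
  rintro i n r _ hr ⟨j, a, ha, rfl⟩
  refine ⟨j, r * a, ?_, smul_mk f r a j⟩
  have h1 := SetLike.mul_mem_graded hr ha
  have h2 : i + (n + (j : ℤ) * e) = (i +ᵥ n) + (j : ℤ) * e := by rw [vadd_eq_add, add_assoc]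
  rwa [h2] at h1

end Facts

theorem exists_graded_away {R : Type u} [CommRing R] (𝒜 : ℤ → AddSubgroup R) [GradedRing 𝒜]
    (e : ℤ) (f : R) (hf : f ∈ 𝒜 e) (hreg : IsSMulRegular R f) :
    ∃ (X : GrLC.GMod.{u} 𝒜) (ι : R →ₗ[R] X.carrier), GrLC.IsGrHom 𝒜 X.gr ι ∧
      Function.Injective ι ∧ Function.Bijective (fun x : X.carrier => f • x) ∧
      ∀ x : X.carrier, ∃ j : ℕ, f ^ j • x ∈ LinearMap.range ι := by
  letI := dec 𝒜 e f hreg hf
  letI := gsmul 𝒜 e f hf
  refine ⟨{ carrier := Localization.Away f, gr := gr 𝒜 e f hf },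
    Algebra.linearMap R (Localization.Away f), ?_, ?_, ?_, ?_⟩
  · intro g m hm
    refine ⟨0, m, ?_, ?_⟩
    · simpa using hm
    · rw [mk_zero_right]; rfl
  · exact algebraMap_injective f hreg
  · have hu := IsLocalization.Away.algebraMap_isUnit (S := Localization.Away f) f
    have h1 : (fun x : Localization.Away f => f • x) = fun x => (hu.unit : Localization.Away f) * x := by
      funext x
      rw [Algebra.smul_def, IsUnit.unit_spec]
    show Function.Bijective (fun x : Localization.Away f => f • x)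
    rw [h1]
    exact Units.mulLeft_bijective hu.unit
  · intro x
    obtain ⟨a, j, rfl⟩ := exists_mk f (x : Localization.Away f)
    refine ⟨j, a, ?_⟩
    show algebraMap R (Localization.Away f) a = f ^ j • mk f a j
    rw [Algebra.smul_def, map_pow, pow_mul_mk]

end Groth.Agent.Lead.SegCM
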