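import Mathlib
import Groth.Prelude.Def_GrSeg

/-!
# (PC) for helper98's S18663 squad: a Segre piece vanishes iff one of the factors does
-/

set_option autoImplicit false
universe u
open scoped TensorProduct

namespace Groth.Agent.Lead.SegCM

theorem tmul_ne_zero_of_field {k : Type u} [Field k] {X N : Type u} [AddCommGroup X] [Module k X]
    [AddCommGroup N] [Module k N] {a : X} {b : N} (ha : a ≠ 0) (hb : b ≠ 0) :
    a ⊗ₜ[k] b ≠ 0 := by
  have hfa : Function.Injective (LinearMap.toSpanSingleton k X a) := by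
    intro r s hrs
    have h : r • a = s • a := hrs
    exact smul_left_injective k ha h
  have hfb : Function.Injective (LinearMap.toSpanSingleton k N b) := by
    intro r s hrs
    have h : r • b = s • b := hrs
    exact smul_left_injective k hb h
  obtain ⟨φ, hφ⟩ := LinearMap.exists_leftInverse_of_injective _ (LinearMap.ker_eq_bot.2 hfa)
  obtain ⟨ψ, hψ⟩ := LinearMap.exists_leftInverse_of_injective _ (LinearMap.ker_eq_bot.2 hfb)
  have h1 : φ a = 1 := by
    have := LinearMap.congr_fun hφ 1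
    simpa using this
  have h2 : ψ b = 1 := by
    have := LinearMap.congr_fun hψ 1
    simpa using this
  intro h0
  have h3 := congrArg (fun z => TensorProduct.lid k k (TensorProduct.map φ ψ z)) h0
  simp [h1, h2] at h3

theorem segrePiece_eq_bot_iff {k : Type u} [Field k] {X N : Type u} [AddCommGroup X] [Module k X]
    [AddCommGroup N] [Module k N] (𝒳 : ℤ → AddSubgroup X) (𝒩 : ℤ → AddSubgroup N) (n : ℤ) :
    GrSeg.segrePiece k 𝒳 𝒩 n = ⊥ ↔ (𝒳 n = ⊥ ∨ 𝒩 n = ⊥) := by
  constructor
  · intro h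
    by_contra hne
    rw [not_or] at hne
    obtain ⟨hX, hN⟩ := hne
    obtain ⟨⟨a, ha⟩, ha0⟩ := AddSubgroup.ne_bot_iff_exists_ne_zero.1 hX
    obtain ⟨⟨b, hb⟩, hb0⟩ := AddSubgroup.ne_bot_iff_exists_ne_zero.1 hN
    have ha0 : a ≠ 0 := fun h0 => ha0 (Subtype.ext h0)
    have hb0 : b ≠ 0 := fun h0 => hb0 (Subtype.ext h0)
    have hmem : a ⊗ₜ[k] b ∈ GrSeg.segrePiece k 𝒳 𝒩 n :=
      Submodule.subset_span ⟨a, ha, b, hb, rfl⟩
    rw [h] at hmem
    exact tmul_ne_zero_of_field ha0 hb0 ((Submodule.mem_bot k).1 hmem)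
  · intro h
    rw [eq_bot_iff]
    unfold GrSeg.segrePiece
    rw [Submodule.span_le]
    rintro _ ⟨a, ha, b, hb, rfl⟩
    rcases h with h | h
    · rw [h] at ha
      rw [(AddSubgroup.mem_bot).1 ha, TensorProduct.zero_tmul]
      exact zero_mem _
    · rw [h] at hb
      rw [(AddSubgroup.mem_bot).1 hb, TensorProduct.tmul_zero]
      exact zero_mem _

end Groth.Agent.Lead.SegCM
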