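import Groth.Agent.H98.GrCat
import Groth.Prelude.Def_CAlg
import Groth.Prelude.Def_GrSeg
import Groth.Prelude.Def_Wider

/-!
# (M5) for helper98's S19756 squad: the ℤ-graded localisation `M_f` of a graded module as a bundled
graded module (module mirror of `Lead/SegCM_LOC`).
-/

set_option autoImplicit false
set_option linter.style.haveILetI false
set_option warn.classDefReducibility false
universe u
open DirectSum

namespace Groth.Agent.Lead.SegMod_LOC

section Loc

variable {R : Type u} [CommRing R] (𝒜 : ℤ → AddSubgroup R) [GradedRing 𝒜]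
  {N : Type u} [AddCommGroup N] [Module R N] (ℳ : ℤ → AddSubgroup N)
  [DirectSum.Decomposition ℳ] [SetLike.GradedSMul 𝒜 ℳ]
  (e : ℤ) (f : R)

local notation "L" => LocalizedModule (Submonoid.powers f) N

/-- `f ^ j` as an element of the submonoid of powers. -/
def fp (j : ℕ) : Submonoid.powers f := ⟨f ^ j, j, rfl⟩

omit [GradedRing 𝒜] in
theorem fp_add (j l : ℕ) : fp f (j + l) = fp f j * fp f l := Subtype.ext (pow_add f j l)

omit [GradedRing 𝒜] in
theorem fp_zero : fp f 0 = 1 := Subtype.ext (pow_zero f)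

omit [GradedRing 𝒜] in
theorem fp_smul (j : ℕ) (x : N) : fp f j • x = f ^ j • x := rfl

/-- `a / f^j` -/
noncomputable def mk (a : N) (j : ℕ) : L := LocalizedModule.mk a (fp f j)

omit [GradedRing 𝒜] in
theorem pow_smul_mk (a : N) (j : ℕ) :
    f ^ j • mk f a j = LocalizedModule.mkLinearMap (Submonoid.powers f) N a := by
  unfold mk
  rw [LocalizedModule.smul'_mk, ← fp_smul, LocalizedModule.mk_cancel]
  rfl

omit [GradedRing 𝒜] in
theorem mk_zero_right (a : N) :
    mk f a 0 = LocalizedModule.mkLinearMap (Submonoid.powers f) N a := by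
  unfold mk; rw [fp_zero]; rfl

omit [GradedRing 𝒜] in
theorem exists_mk (x : L) : ∃ (a : N) (j : ℕ), x = mk f a j := by
  induction x using LocalizedModule.induction_on with
  | h m s =>
    obtain ⟨j, hj⟩ := s.2
    refine ⟨m, j, ?_⟩
    unfold mk
    congr 1
    exact Subtype.ext hj.symm

omit [GradedRing 𝒜] in
theorem mk_eq_of_eq {a b : N} {j l : ℕ} (h : f ^ l • a = f ^ j • b) : mk f a j = mk f b l := by
  unfold mk
  rw [LocalizedModule.mk_eq]
  exact ⟨1, by rw [one_smul, one_smul, fp_smul, fp_smul, h]⟩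

variable (hreg : IsSMulRegular N f)

omit [GradedRing 𝒜] in
include hreg in
theorem eq_of_mk_eq {a b : N} {j l : ℕ} (h : mk f a j = mk f b l) : f ^ l • a = f ^ j • b := by
  unfold mk at h
  rw [LocalizedModule.mk_eq] at h
  obtain ⟨⟨_, k, rfl⟩, hu⟩ := h
  have hk : IsSMulRegular N (f ^ k) := hreg.pow k
  apply hk
  exact hu

omit [GradedRing 𝒜] in
theorem mk_raise (a : N) (j l : ℕ) : mk f a j = mk f (f ^ l • a) (j + l) :=
  mk_eq_of_eq f (by rw [pow_add, mul_smul, smul_comm])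

omit [GradedRing 𝒜] in
theorem mk_add (a b : N) (j : ℕ) : mk f a j + mk f b j = mk f (a + b) j := by
  unfold mk
  rw [LocalizedModule.mk_add_mk, ← smul_add, LocalizedModule.mk_cancel_common_left]

omit [GradedRing 𝒜] in
theorem smul_mk (r : R) (a : N) (j : ℕ) : r • mk f a j = mk f (r • a) j := by
  unfold mk; rw [LocalizedModule.smul'_mk]

omit [GradedRing 𝒜] in
theorem mk_zero_left (j : ℕ) : mk f (0 : N) j = 0 := by unfold mk; rw [LocalizedModule.zero_mk]

omit [GradedRing 𝒜] in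
theorem mk_neg (a : N) (j : ℕ) : mk f (-a) j = - mk f a j := by
  unfold mk; rw [LocalizedModule.mk_neg]

omit [GradedRing 𝒜] in
theorem mk_sum {α : Type*} (s : Finset α) (g : α → N) (j : ℕ) :
    mk f (∑ i ∈ s, g i) j = ∑ i ∈ s, mk f (g i) j := by
  classical
  induction s using Finset.induction_on with
  | empty => simp [mk_zero_left]
  | insert a s ha ih => rw [Finset.sum_insert ha, Finset.sum_insert ha, ← mk_add, ih]

variable {𝒜 e f}

theorem pow_mem (hf : f ∈ 𝒜 e) (l : ℕ) : f ^ l ∈ 𝒜 (l * e) := by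
  have h1 := SetLike.pow_mem_graded l hf
  rwa [nsmul_eq_mul] at h1

omit [DirectSum.Decomposition ℳ] in
variable {ℳ} in
theorem pow_smul_mem (hf : f ∈ 𝒜 e) {a : N} {m : ℤ} (ha : a ∈ ℳ m) (l : ℕ) :
    f ^ l • a ∈ ℳ (m + l * e) := by
  have h1 := pow_mem hf l
  have h2 := SetLike.GradedSMul.smul_mem (A := 𝒜) (B := ℳ) h1 ha
  have h3 : ((l : ℤ) * e) +ᵥ m = m + l * e := by rw [vadd_eq_add]; ring
  rwa [h3] at h2

omit [GradedRing 𝒜] in
/-- components of `r • x` for homogeneous `r`. -/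
theorem coe_decompose_smul_add_of_left_mem {i : ℤ} {r : R} (hr : r ∈ 𝒜 i) (x : N) (n : ℤ) :
    ((decompose ℳ (r • x) (i + n) : ℳ (i + n)) : N) = r • ((decompose ℳ x n : ℳ n) : N) := by
  classical
  induction x using DirectSum.Decomposition.inductionOn ℳ with
  | zero => simp
  | @homogeneous l a =>
    have h1 : r • (a : N) ∈ ℳ (i + l) := by
      have := SetLike.GradedSMul.smul_mem (A := 𝒜) (B := ℳ) hr a.2
      rwa [vadd_eq_add] at this
    by_cases hl : l = n
    · subst hl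
      rw [decompose_of_mem_same ℳ h1, decompose_of_mem_same ℳ a.2]
    · have hne : i + l ≠ i + n := fun h => hl (add_left_cancel h)
      rw [decompose_of_mem_ne ℳ h1 hne, decompose_of_mem_ne ℳ a.2 hl, smul_zero]
  | add a b ha hb =>
    rw [smul_add, decompose_add, DirectSum.add_apply, AddMemClass.coe_add, ha, hb,
      decompose_add, DirectSum.add_apply, AddMemClass.coe_add, smul_add]

variable (𝒜 e f)

/-- the pieces of `M_f` -/
def gr (hf : f ∈ 𝒜 e) (n : ℤ) : AddSubgroup L where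
  carrier := {x | ∃ (j : ℕ) (a : N), a ∈ ℳ (n + j * e) ∧ x = mk f a j}
  zero_mem' := ⟨0, 0, zero_mem _, (mk_zero_left f 0).symm⟩
  add_mem' := by
    rintro _ _ ⟨j, a, ha, rfl⟩ ⟨l, b, hb, rfl⟩
    refine ⟨j + l, f ^ l • a + f ^ j • b, add_mem ?_ ?_, ?_⟩
    · have := pow_smul_mem (𝒜 := 𝒜) hf ha l
      have h3 : n + j * e + l * e = n + ((j + l : ℕ) : ℤ) * e := by push_cast; ring
      rwa [h3] at this
    · have := pow_smul_mem (𝒜 := 𝒜) hf hb j
      have h3 : n + l * e + j * e = n + ((j + l : ℕ) : ℤ) * e := by push_cast; ring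
      rwa [h3] at this
    · rw [← mk_add, ← mk_raise, add_comm j l, ← mk_raise]
  neg_mem' := by
    rintro _ ⟨j, a, ha, rfl⟩
    exact ⟨j, -a, neg_mem ha, (mk_neg f a j).symm⟩

/-- the `n`-th component of `a / f^j` -/
noncomputable def cmp (n : ℤ) (a : N) (j : ℕ) : L :=
  mk f ((decompose ℳ a (n + j * e) : ℳ (n + j * e)) : N) j

omit [GradedRing 𝒜] [SetLike.GradedSMul 𝒜 ℳ] in
theorem cmp_add (n : ℤ) (a b : N) (j : ℕ) :
    cmp ℳ e f n (a + b) j = cmp ℳ e f n a j + cmp ℳ e f n b j := by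
  unfold cmp
  rw [decompose_add, DirectSum.add_apply, AddMemClass.coe_add, ← mk_add]

theorem cmp_congr (hreg : IsSMulRegular N f) (hf : f ∈ 𝒜 e) {a b : N} {j l : ℕ}
    (h : mk f a j = mk f b l) (n : ℤ) : cmp ℳ e f n a j = cmp ℳ e f n b l := by
  have h1 := eq_of_mk_eq f hreg h
  apply mk_eq_of_eq
  have e1 : ((decompose ℳ (f ^ l • a) ((l : ℤ) * e + (n + j * e)) :
      ℳ ((l : ℤ) * e + (n + j * e))) : N) =
      f ^ l • ((decompose ℳ a (n + j * e) : ℳ (n + j * e)) : N) :=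
    coe_decompose_smul_add_of_left_mem (𝒜 := 𝒜) ℳ (pow_mem hf l) a _
  have e2 : ((decompose ℳ (f ^ j • b) ((j : ℤ) * e + (n + l * e)) :
      ℳ ((j : ℤ) * e + (n + l * e))) : N) =
      f ^ j • ((decompose ℳ b (n + l * e) : ℳ (n + l * e)) : N) :=
    coe_decompose_smul_add_of_left_mem (𝒜 := 𝒜) ℳ (pow_mem hf j) b _
  rw [← e1, ← e2, h1]
  have hidx : (l : ℤ) * e + (n + j * e) = (j : ℤ) * e + (n + l * e) := by ring
  exact congrArg (fun i => ((decompose ℳ (f ^ j • b) i : ℳ i) : N)) hidx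

/-- a chosen numerator -/
noncomputable def num (x : L) : N := Classical.choose (exists_mk f x)
/-- a chosen exponent -/
noncomputable def ex (x : L) : ℕ := Classical.choose (Classical.choose_spec (exists_mk f x))

omit [GradedRing 𝒜] in
theorem mk_num_ex (x : L) : mk f (num f x) (ex f x) = x :=
  (Classical.choose_spec (Classical.choose_spec (exists_mk f x))).symm

/-- the component maps, as functions -/
noncomputable def piFun (n : ℤ) (x : L) : L := cmp ℳ e f n (num f x) (ex f x)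

theorem piFun_mk (hreg : IsSMulRegular N f) (hf : f ∈ 𝒜 e) (n : ℤ) (a : N) (j : ℕ) :
    piFun ℳ e f n (mk f a j) = cmp ℳ e f n a j :=
  cmp_congr 𝒜 ℳ e f hreg hf (mk_num_ex f _) n

/-- the component maps -/
noncomputable def π (hreg : IsSMulRegular N f) (hf : f ∈ 𝒜 e) (n : ℤ) : L →+ L where
  toFun := piFun ℳ e f n
  map_zero' := by
    rw [← mk_zero_left f 0, piFun_mk 𝒜 ℳ e f hreg hf]
    unfold cmp
    rw [decompose_zero, DirectSum.zero_apply, ZeroMemClass.coe_zero]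
  map_add' x y := by
    obtain ⟨a, j, rfl⟩ := exists_mk f x
    obtain ⟨b, l, rfl⟩ := exists_mk f y
    rw [mk_raise f a j l, mk_raise f b l j, add_comm l j, mk_add,
      piFun_mk 𝒜 ℳ e f hreg hf, piFun_mk 𝒜 ℳ e f hreg hf, piFun_mk 𝒜 ℳ e f hreg hf, cmp_add]

theorem π_mk (hreg : IsSMulRegular N f) (hf : f ∈ 𝒜 e) (n : ℤ) (a : N) (j : ℕ) :
    π 𝒜 ℳ e f hreg hf n (mk f a j) = cmp ℳ e f n a j := piFun_mk 𝒜 ℳ e f hreg hf n a j

end Loc

section Facts

variable {R : Type u} [CommRing R] (𝒜 : ℤ → AddSubgroup R) [GradedRing 𝒜]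
  {N : Type u} [AddCommGroup N] [Module R N] (ℳ : ℤ → AddSubgroup N)
  [DirectSum.Decomposition ℳ] [SetLike.GradedSMul 𝒜 ℳ]
  (e : ℤ) (f : R) (hreg : IsSMulRegular N f) (hf : f ∈ 𝒜 e)

local notation "L" => LocalizedModule (Submonoid.powers f) N

theorem π_mem (n : ℤ) (x : L) : π 𝒜 ℳ e f hreg hf n x ∈ gr 𝒜 ℳ e f hf n := by
  obtain ⟨a, j, rfl⟩ := exists_mk f x
  rw [π_mk]
  exact ⟨j, _, (decompose ℳ a _).2, rfl⟩

open Classical in
/-- a finite support for the components -/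
noncomputable def supp (x : L) : Finset ℤ :=
  ((decompose ℳ (num f x)).support).image (fun m => m - (ex f x : ℤ) * e)

theorem π_eq_zero_of_not_mem (x : L) (n : ℤ) (hn : n ∉ supp ℳ e f x) :
    π 𝒜 ℳ e f hreg hf n x = 0 := by
  classical
  show cmp ℳ e f n (num f x) (ex f x) = 0
  have h0 : decompose ℳ (num f x) (n + (ex f x : ℤ) * e) = 0 := by
    by_contra hne
    apply hn
    unfold supp
    rw [Finset.mem_image]
    exact ⟨n + (ex f x : ℤ) * e, DFinsupp.mem_support_iff.2 hne, by ring⟩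
  unfold cmp
  rw [h0, ZeroMemClass.coe_zero, mk_zero_left]

theorem sum_π (x : L) : ∑ n ∈ supp ℳ e f x, π 𝒜 ℳ e f hreg hf n x = x := by
  classical
  have hinj : Function.Injective (fun m : ℤ => m - (ex f x : ℤ) * e) := fun a b h => by
    simpa using h
  unfold supp
  rw [Finset.sum_image (fun a _ b _ h => hinj h)]
  have h1 : ∀ m : ℤ, π 𝒜 ℳ e f hreg hf (m - (ex f x : ℤ) * e) x =
      mk f ((decompose ℳ (num f x) m : ℳ m) : N) (ex f x) := by
    intro m
    show cmp ℳ e f (m - (ex f x : ℤ) * e) (num f x) (ex f x) = _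
    unfold cmp
    have hidx : m - (ex f x : ℤ) * e + (ex f x : ℤ) * e = m := by ring
    exact congrArg (fun i => mk f ((decompose ℳ (num f x) i : ℳ i) : N) (ex f x)) hidx
  rw [Finset.sum_congr rfl (fun m _ => h1 m), ← mk_sum, sum_support_decompose, mk_num_ex]

theorem π_self (n : ℤ) (x : L) (hx : x ∈ gr 𝒜 ℳ e f hf n) : π 𝒜 ℳ e f hreg hf n x = x := by
  obtain ⟨j, a, ha, rfl⟩ := hx
  rw [π_mk]
  unfold cmp
  rw [decompose_of_mem_same ℳ ha]

theorem π_other (n m : ℤ) (x : L) (hnm : n ≠ m) (hx : x ∈ gr 𝒜 ℳ e f hf m) :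
    π 𝒜 ℳ e f hreg hf n x = 0 := by
  obtain ⟨j, a, ha, rfl⟩ := hx
  rw [π_mk]
  unfold cmp
  have hne : m + (j : ℤ) * e ≠ n + (j : ℤ) * e := fun h => hnm (by linarith)
  rw [decompose_of_mem_ne ℳ ha hne, mk_zero_left]

/-- the decomposition of `M_f` -/
noncomputable def dec : DirectSum.Decomposition (gr 𝒜 ℳ e f hf) :=
  Groth.Agent.H98.GrCat.decompOfProj (gr 𝒜 ℳ e f hf) (π 𝒜 ℳ e f hreg hf) (supp ℳ e f)
    (π_mem 𝒜 ℳ e f hreg hf) (π_eq_zero_of_not_mem 𝒜 ℳ e f hreg hf) (sum_π 𝒜 ℳ e f hreg hf)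
    (π_self 𝒜 ℳ e f hreg hf) (fun i j x hij hx => π_other 𝒜 ℳ e f hreg hf i j x hij hx)

theorem gsmul : SetLike.GradedSMul 𝒜 (gr 𝒜 ℳ e f hf) := by
  constructor
  rintro i n r _ hr ⟨j, a, ha, rfl⟩
  refine ⟨j, r • a, ?_, smul_mk f r a j⟩
  have h1 := SetLike.GradedSMul.smul_mem (A := 𝒜) (B := ℳ) hr ha
  have h2 : i +ᵥ (n + (j : ℤ) * e) = (i +ᵥ n) + (j : ℤ) * e := by
    rw [vadd_eq_add, vadd_eq_add, add_assoc]
  rwa [h2] at h1

end Facts

theorem exists_graded_away_module {R : Type u} [CommRing R] (𝒜 : ℤ → AddSubgroup R) [GradedRing 𝒜]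
    (M : GrLC.GMod.{u} 𝒜) (e : ℤ) (f : R) (hf : f ∈ 𝒜 e) (hreg : IsSMulRegular M.carrier f) :
    ∃ (X : GrLC.GMod.{u} 𝒜) (ι : M.carrier →ₗ[R] X.carrier), GrLC.IsGrHom M.gr X.gr ι ∧
      Function.Injective ι ∧ Function.Bijective (fun x : X.carrier => f • x) ∧
      ∀ x : X.carrier, ∃ j : ℕ, f ^ j • x ∈ LinearMap.range ι := by
  letI := dec 𝒜 M.gr e f hreg hf
  letI := gsmul 𝒜 M.gr e f hf
  refine ⟨{ carrier := LocalizedModule (Submonoid.powers f) M.carrier, gr := gr 𝒜 M.gr e f hf },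
    LocalizedModule.mkLinearMap (Submonoid.powers f) M.carrier, ?_, ?_, ?_, ?_⟩
  · intro g m hm
    refine ⟨0, m, ?_, ?_⟩
    · simpa using hm
    · rw [mk_zero_right]
  · intro x y hxy
    rw [← mk_zero_right, ← mk_zero_right] at hxy
    have := eq_of_mk_eq f hreg hxy
    simpa using this
  · constructor
    · intro x y hxy
      obtain ⟨a, j, rfl⟩ := exists_mk f (x : LocalizedModule (Submonoid.powers f) M.carrier)
      obtain ⟨b, l, rfl⟩ := exists_mk f (y : LocalizedModule (Submonoid.powers f) M.carrier)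
      have h1 : mk f (f • a) j = mk f (f • b) l := by
        rw [← smul_mk, ← smul_mk]; exact hxy
      have h2 := eq_of_mk_eq f hreg h1
      apply mk_eq_of_eq
      apply hreg
      show f • (f ^ l • a) = f • (f ^ j • b)
      rw [smul_comm f (f ^ l) a, smul_comm f (f ^ j) b]
      exact h2
    · intro x
      obtain ⟨a, j, rfl⟩ := exists_mk f (x : LocalizedModule (Submonoid.powers f) M.carrier)
      refine ⟨mk f a (j + 1), ?_⟩
      show f • mk f a (j + 1) = mk f a j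
      rw [smul_mk, mk_raise f a j 1, pow_one]
  · intro x
    obtain ⟨a, j, rfl⟩ := exists_mk f (x : LocalizedModule (Submonoid.powers f) M.carrier)
    refine ⟨j, a, ?_⟩
    show LocalizedModule.mkLinearMap (Submonoid.powers f) M.carrier a = f ^ j • mk f a j
    rw [pow_smul_mk]

end Groth.Agent.Lead.SegMod_LOC
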