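import Groth.Agent.H98.SegMod
import Groth.Agent.H98.TensRange

/-!
# (WP5) for helper98's S19758 squad: torsion on the `T` side gives torsion on the `R` side
-/

set_option autoImplicit false
universe u
open scoped TensorProduct
open DirectSum
open Groth.Agent.H98.GrCat Groth.Agent.H98.GrConv Groth.Agent.H98.Seg Groth.Agent.H98.TensRange

namespace Groth.Agent.Lead.SegWP5

section Gen

variable {k : Type u} [Field k]
  {R : Type u} [CommRing R] [Algebra k R]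
  {S : Type u} [CommRing S] [Algebra k S]
  {X : Type u} [AddCommGroup X] [Module R X] [Module k X] [IsScalarTower k R X]
  {N : Type u} [AddCommGroup N] [Module S N] [Module k N] [IsScalarTower k S N]

theorem act_tmul_eq (f : R) (s : S) :
    GrSeg.act k R S X N (f ⊗ₜ[k] s) =
      (LinearMap.lTensor X (Algebra.lsmul k k N s)) ∘ₗ
        (LinearMap.rTensor N (Algebra.lsmul k k X f)) := by
  apply TensorProduct.ext'
  intro x y
  rw [GrSeg.act_tmul, LinearMap.comp_apply, LinearMap.rTensor_tmul, LinearMap.lTensor_tmul]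
  rfl

omit [Module k X] [IsScalarTower k R X] in
theorem mem_gam_of_list (fs : List R) (n : ℕ) (x : X) (h : ∀ f ∈ fs, f ^ n • x = 0) :
    x ∈ GrLC.gam (Ideal.span {c | c ∈ fs}) X := by
  induction fs with
  | nil =>
    refine ⟨1, fun r hr => ?_⟩
    have h0 : ({c | c ∈ ([] : List R)} : Set R) = ∅ := by
      ext c; simp
    rw [h0, Ideal.span_empty, pow_one] at hr
    rw [(Submodule.mem_bot R).1 hr, zero_smul]
  | cons f fs ih =>
    obtain ⟨m, hm⟩ := ih (fun g hg => h g (List.mem_cons_of_mem _ hg))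
    refine ⟨n + m, fun r hr => ?_⟩
    have h0 : ({c | c ∈ f :: fs} : Set R) = {f} ∪ {c | c ∈ fs} := by
      ext c; simp
    rw [h0, Ideal.span_union] at hr
    have hr' := Ideal.sup_pow_add_le_pow_sup_pow hr
    obtain ⟨a, ha, b, hb, rfl⟩ := Submodule.mem_sup.1 hr'
    rw [Ideal.span_singleton_pow, Ideal.mem_span_singleton'] at ha
    obtain ⟨c, rfl⟩ := ha
    rw [add_smul, mul_smul, h f List.mem_cons_self, smul_zero, hm b hb, add_zero]

end Gen

variable {k : Type u} [Field k]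
  {R : Type u} [CommRing R] [Algebra k R] (𝒜 : ℤ → Submodule k R) [GradedAlgebra 𝒜]
  {S : Type u} [CommRing S] [Algebra k S] (ℬ : ℤ → Submodule k S) [GradedAlgebra ℬ]
  {T : Type u} [CommRing T] [Algebra k T] (𝒯 : ℤ → Submodule k T) [GradedAlgebra 𝒯]
  (ψ : T →ₐ[k] R ⊗[k] S) (hT : GrSeg.IsSegreRing 𝒜 ℬ 𝒯 ψ)
  {X : Type u} [AddCommGroup X] [Module R X] [Module k X] [IsScalarTower k R X]
  (𝒳 : ℤ → AddSubgroup X) [Decomposition 𝒳] [SetLike.GradedSMul 𝒜 𝒳]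
  {N : Type u} [AddCommGroup N] [Module S N] [Module k N] [IsScalarTower k S N]
  (𝒩 : ℤ → AddSubgroup N) [Decomposition 𝒩] [SetLike.GradedSMul ℬ 𝒩]

theorem sι_mem_tR_ker (t : T) (f : R) (s : S) (hψt : ψ t = f ⊗ₜ[k] s)
    (hs : Function.Injective (fun y : N => s • y)) (L : ℕ)
    (v : (segG 𝒜 ℬ 𝒯 ψ hT 𝒳 𝒩).carrier) (hv : t ^ L • v = 0) :
    sι 𝒜 ℬ 𝒯 ψ hT 𝒳 𝒩 v ∈ tR N (LinearMap.ker (Algebra.lsmul k k X (f ^ L))) := by
  have h1 : sι 𝒜 ℬ 𝒯 ψ hT 𝒳 𝒩 (t ^ L • v) = 0 := by rw [hv, map_zero]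
  rw [sι_smul, map_pow, hψt, Algebra.TensorProduct.tmul_pow, act_tmul_eq,
    LinearMap.comp_apply] at h1
  have hinj : Function.Injective (Algebra.lsmul k k N (s ^ L)) := by
    intro a b hab
    have hab' : s ^ L • a = s ^ L • b := hab
    have h2 : (fun y : N => s • y)^[L] a = (fun y : N => s • y)^[L] b := by
      rw [smul_iterate]; exact hab'
    exact (hs.iterate L) h2
  have h2 := lTensor_injective (X := X) (Algebra.lsmul k k N (s ^ L)) hinj
  have h3 : LinearMap.rTensor N (Algebra.lsmul k k X (f ^ L)) (sι 𝒜 ℬ 𝒯 ψ hT 𝒳 𝒩 v) = 0 :=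
    h2 (by rw [h1, map_zero])
  rw [← ker_rTensor]
  exact h3

theorem sι_mem_tR_gam (l : List (T × R × S))
    (hl : ∀ p ∈ l, ψ p.1 = p.2.1 ⊗ₜ[k] p.2.2 ∧ Function.Injective (fun y : N => p.2.2 • y))
    (v : (segG 𝒜 ℬ 𝒯 ψ hT 𝒳 𝒩).carrier)
    (hv : v ∈ GrLC.gam (Ideal.span {c | c ∈ l.map (fun p => p.1)}) (segG 𝒜 ℬ 𝒯 ψ hT 𝒳 𝒩).carrier) :
    sι 𝒜 ℬ 𝒯 ψ hT 𝒳 𝒩 v ∈
      tR N ((GrLC.gam (Ideal.span {c | c ∈ l.map (fun p => p.2.1)}) X).restrictScalars k) := by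
  obtain ⟨n, hn⟩ := hv
  have hker : ∀ p ∈ l, sι 𝒜 ℬ 𝒯 ψ hT 𝒳 𝒩 v ∈
      tR N (LinearMap.ker (Algebra.lsmul k k X (p.2.1 ^ n))) := by
    intro p hp
    have hh : p.1 ^ n • v = 0 := by
      apply hn
      apply Ideal.pow_mem_pow
      apply Ideal.subset_span
      exact List.mem_map.2 ⟨p, hp, rfl⟩
    exact sι_mem_tR_ker 𝒜 ℬ 𝒯 ψ hT 𝒳 𝒩 p.1 p.2.1 p.2.2 (hl p hp).1 (hl p hp).2 n v hh
  -- the intersection of the kernels
  have hinf : ∀ l' : List (T × R × S), (∀ p ∈ l', p ∈ l) →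
      ∃ K : Submodule k X, (∀ x ∈ K, ∀ p ∈ l', p.2.1 ^ n • x = 0) ∧
        sι 𝒜 ℬ 𝒯 ψ hT 𝒳 𝒩 v ∈ tR N K := by
    intro l'
    induction l' with
    | nil =>
      intro _
      refine ⟨⊤, fun x _ p hp => absurd hp (List.not_mem_nil), ?_⟩
      rw [tR_top]; exact Submodule.mem_top
    | cons q l' ih =>
      intro hsub
      obtain ⟨K, hK, hvK⟩ := ih (fun p hp => hsub p (List.mem_cons_of_mem _ hp))
      refine ⟨LinearMap.ker (Algebra.lsmul k k X (q.2.1 ^ n)) ⊓ K, ?_, ?_⟩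
      · intro x hx p hp
        rcases List.mem_cons.1 hp with h | hp
        · rw [h]; exact hx.1
        · exact hK x hx.2 p hp
      · rw [← tR_inf]
        exact ⟨hker q (hsub q List.mem_cons_self), hvK⟩
  obtain ⟨K, hK, hvK⟩ := hinf l (fun p hp => hp)
  have hle : K ≤ (GrLC.gam (Ideal.span {c | c ∈ l.map (fun p => p.2.1)}) X).restrictScalars k := by
    intro x hx
    have hx' : x ∈ GrLC.gam (Ideal.span {c | c ∈ l.map (fun p => p.2.1)}) X := by
      apply mem_gam_of_list _ n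
      intro g hg
      obtain ⟨p, hp, rfl⟩ := List.mem_map.1 hg
      exact hK x hx p hp
    exact hx'
  exact tR_mono hle hvK

end Groth.Agent.Lead.SegWP5
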