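import Mathlib
import Groth.Prelude.Def_RegImm

set_option autoImplicit false
universe u
open CategoryTheory AlgebraicGeometry

namespace Groth.Agent.Lead.SyntCoverAux

variable {X : Scheme.{u}} {U : X.Opens} (hU : IsAffineOpen U) {B : CommRingCat.{u}}
  (φ : Γ(X, U) ⟶ B)

theorem top_le_preimage : (⊤ : (Spec B).Opens) ≤ (Spec.map φ ≫ hU.fromSpec) ⁻¹ᵁ U := by
  intro y _
  change (Spec.map φ ≫ hU.fromSpec) y ∈ U
  have h1 : (Spec.map φ ≫ hU.fromSpec) y = hU.fromSpec ((Spec.map φ) y) := by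
    simp
  rw [h1]
  have h2 : hU.fromSpec ((Spec.map φ) y) ∈ Set.range hU.fromSpec := Set.mem_range_self _
  rw [hU.range_fromSpec] at h2
  exact h2

theorem appLE_eq :
    (Spec.map φ ≫ hU.fromSpec).appLE U ⊤ (top_le_preimage hU φ) =
      φ ≫ (Scheme.ΓSpecIso B).inv := by
  rw [Scheme.Hom.comp_appLE, hU.fromSpec_app_self, Category.assoc]
  erw [Scheme.Hom.map_appLE]
  rw [Scheme.ΓSpecIso_inv_naturality φ]
  congr 1

end Groth.Agent.Lead.SyntCoverAux
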