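import Mathlib
import Groth.Prelude.Def_RegImm
import Groth.Agent.S18934
import Groth.Agent.Lead.SyntIso
import Groth.Agent.Lead.SyntCoverAux

set_option autoImplicit false
universe u
open CategoryTheory AlgebraicGeometry

namespace Groth.Agent.Lead.SyntCover

variable (p : ℕ) [Fact p.Prime] (Z : Scheme.{u}) (a : Γ(Z, ⊤))

/-- restriction of `a` to an affine open -/
noncomputable def aU (U : Z.affineOpens) : Γ(Z, U.1) :=
  (Z.presheaf.map (homOfLE (le_top : U.1 ≤ ⊤)).op).hom a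

/-- `Γ(Z,U)[T]/(T^p - a)` -/
abbrev B (U : Z.affineOpens) : Type u :=
  AdjoinRoot (Polynomial.X ^ p - Polynomial.C (aU Z a U))

noncomputable def φ (U : Z.affineOpens) : Γ(Z, U.1) ⟶ CommRingCat.of (B p Z a U) :=
  CommRingCat.ofHom (algebraMap Γ(Z, U.1) (B p Z a U))

noncomputable def f (U : Z.affineOpens) : Spec (CommRingCat.of (B p Z a U)) ⟶ Z :=
  Spec.map (φ p Z a U) ≫ U.2.fromSpec

theorem covers (x : Z) : ∃ (U : Z.affineOpens) (y : Spec (CommRingCat.of (B p Z a U))),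
    f p Z a U y = x := by
  obtain ⟨_, ⟨U, hU, rfl⟩, hxU, -⟩ :=
    Z.isBasis_affineOpens.exists_subset_of_mem_open (Set.mem_univ x) isOpen_univ
  have hx : x ∈ Set.range hU.fromSpec := by rw [hU.range_fromSpec]; exact hxU
  obtain ⟨x', rfl⟩ := hx
  have hff : Module.FaithfullyFlat Γ(Z, U) (B p Z a ⟨U, hU⟩) :=
    (Groth.Agent.S18934.result p Γ(Z, U) (aU Z a ⟨U, hU⟩)).2
  obtain ⟨y, hy⟩ := PrimeSpectrum.comap_surjective_of_faithfullyFlat
    (A := Γ(Z, U)) (B := B p Z a ⟨U, hU⟩) x'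
  refine ⟨⟨U, hU⟩, y, ?_⟩
  have h1 : (Spec.map (φ p Z a ⟨U, hU⟩) ≫ IsAffineOpen.fromSpec (U := U) hU) y =
      (IsAffineOpen.fromSpec (U := U) hU) ((Spec.map (φ p Z a ⟨U, hU⟩)) y) := rfl
  change (Spec.map (φ p Z a ⟨U, hU⟩) ≫ IsAffineOpen.fromSpec (U := U) hU) y = _
  rw [h1]
  congr 1

theorem map_prop (U : Z.affineOpens) : Synt.IsSyntomicMor (f p Z a U) := by
  intro y
  refine ⟨⟨⊤, isAffineOpen_top _⟩, U, SyntCoverAux.top_le_preimage U.2 (φ p Z a U), trivial, ?_⟩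
  let alg : Algebra Γ(Z, U.1) Γ(Spec (CommRingCat.of (B p Z a U)), ⊤) :=
    ((f p Z a U).appLE U.1 ⊤ (SyntCoverAux.top_le_preimage U.2 (φ p Z a U))).hom.toAlgebra
  change Synt.IsSyntomic Γ(Z, U.1) Γ(Spec (CommRingCat.of (B p Z a U)), ⊤)
  have hsy : Synt.IsSyntomic Γ(Z, U.1) (B p Z a U) :=
    (Groth.Agent.S18934.result p Γ(Z, U.1) (aU Z a U)).1
  let e₀ : B p Z a U ≃+* Γ(Spec (CommRingCat.of (B p Z a U)), ⊤) :=
    (Scheme.ΓSpecIso (CommRingCat.of (B p Z a U))).symm.commRingCatIsoToRingEquiv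
  let e : B p Z a U ≃ₐ[Γ(Z, U.1)] Γ(Spec (CommRingCat.of (B p Z a U)), ⊤) :=
    { e₀ with
      commutes' := fun r => by
        change (Scheme.ΓSpecIso (CommRingCat.of (B p Z a U))).inv.hom (algebraMap _ _ r) =
          ((f p Z a U).appLE U.1 ⊤ (SyntCoverAux.top_le_preimage U.2 (φ p Z a U))).hom r
        have := SyntCoverAux.appLE_eq U.2 (φ p Z a U)
        change (f p Z a U).appLE U.1 ⊤ _ = _ at this
        rw [this]
        rfl }
  exact SyntIso.isSyntomic_of_algEquiv e hsy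

theorem pow_eq (U : Z.affineOpens) :
    ((Scheme.ΓSpecIso (CommRingCat.of (B p Z a U))).inv.hom
      (AdjoinRoot.root (Polynomial.X ^ p - Polynomial.C (aU Z a U)))) ^ p =
      (f p Z a U).appTop.hom a := by
  rw [← map_pow]
  have hroot : (AdjoinRoot.root (Polynomial.X ^ p - Polynomial.C (aU Z a U))) ^ p =
      algebraMap Γ(Z, U.1) (B p Z a U) (aU Z a U) := by
    have h := AdjoinRoot.eval₂_root (Polynomial.X ^ p - Polynomial.C (aU Z a U))
    simp only [Polynomial.eval₂_sub, Polynomial.eval₂_pow, Polynomial.eval₂_X,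
      Polynomial.eval₂_C, sub_eq_zero] at h
    exact h
  rw [hroot]
  have h1 := SyntCoverAux.appLE_eq U.2 (φ p Z a U)
  change (f p Z a U).appLE U.1 ⊤ _ = _ at h1
  have h2 : (Scheme.ΓSpecIso (CommRingCat.of (B p Z a U))).inv.hom
      (algebraMap Γ(Z, U.1) (B p Z a U) (aU Z a U)) =
      ((f p Z a U).appLE U.1 ⊤ (SyntCoverAux.top_le_preimage U.2 (φ p Z a U))).hom (aU Z a U) := by
    rw [h1]; rfl
  refine h2.trans ?_
  have h3 := Scheme.Hom.map_appLE (f p Z a U)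
    (SyntCoverAux.top_le_preimage U.2 (φ p Z a U)) (homOfLE (le_top : U.1 ≤ ⊤)).op
  have h5 : (f p Z a U).appLE ⊤ ⊤ (le_of_eq rfl) = (f p Z a U).appTop := by
    unfold Scheme.Hom.appLE Scheme.Hom.appTop
    have hid : (Spec (CommRingCat.of (B p Z a U))).presheaf.map
        (homOfLE (le_of_eq rfl : (⊤ : (Spec (CommRingCat.of (B p Z a U))).Opens) ≤
          (f p Z a U) ⁻¹ᵁ ⊤)).op = 𝟙 _ := by
      exact (Spec (CommRingCat.of (B p Z a U))).presheaf.map_id _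
    rw [hid]
    exact Category.comp_id _
  have h4 := congrArg (fun g => g.hom a) (h3.trans h5)
  exact h4

end Groth.Agent.Lead.SyntCover
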