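import Mathlib
import Groth.Agent.Lead.NagataVal2
import Groth.Agent.H72.PdLocal
import Groth.Agent.S0563

/-!
# Projective dimension over local rings essentially of finite type over a valuation ring

`V` a valuation ring, `V → A` local, flat, essentially of finite type, `J = 𝔪_V A`.  If the fibre
ring `A ⧸ J` is regular of dimension `n`, then every finite `V`-flat `A`-module has projective
dimension `≤ n`, every finitely presented `A`-module has projective dimension `≤ n + 1`.
-/

set_option autoImplicit false
universe u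

open CategoryTheory IsLocalRing
open Groth.Agent.H72.PdLocal

namespace Groth.Agent.Lead.ValPd

open Groth.Agent.Lead.NagataVal

section Fibre

variable {A : Type u} [CommRing A] (J : Ideal A)

/-- the `A ⧸ J`-linear map induced on `X ⧸ J X`. -/
noncomputable def fibMap {X Y : Type u} [AddCommGroup X] [Module A X] [AddCommGroup Y] [Module A Y]
    (f : X →ₗ[A] Y) :
    (X ⧸ (J • ⊤ : Submodule A X)) →ₗ[A ⧸ J] (Y ⧸ (J • ⊤ : Submodule A Y)) :=
  LinearMap.extendScalarsOfSurjective Ideal.Quotient.mk_surjective
    (Submodule.mapQ _ _ f (fun _ hx => Submodule.smul_top_le_comap_smul_top J f hx))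

@[simp] lemma fibMap_mk {X Y : Type u} [AddCommGroup X] [Module A X] [AddCommGroup Y] [Module A Y]
    (f : X →ₗ[A] Y) (x : X) :
    fibMap J f (Submodule.Quotient.mk x) = Submodule.Quotient.mk (f x) := rfl

instance fib_free (F : Type u) [AddCommGroup F] [Module A F] [Module.Free A F] :
    Module.Free (A ⧸ J) (F ⧸ (J • ⊤ : Submodule A F)) :=
  Module.Free.of_equiv ((TensorProduct.quotTensorEquivQuotSMul F J).extendScalarsOfSurjective
    Ideal.Quotient.mk_surjective)

theorem pdLT_fibre_succ_iff {F M : Type u} [AddCommGroup F] [Module A F] [Module.Free A F]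
    [AddCommGroup M] [Module A M] (g : F →ₗ[A] M) (hg : Function.Surjective g)
    (hK : ∀ x : LinearMap.ker g, (x : F) ∈ (J • ⊤ : Submodule A F) →
      x ∈ (J • ⊤ : Submodule A (LinearMap.ker g))) (k : ℕ) :
    PdLT (A ⧸ J) (M ⧸ (J • ⊤ : Submodule A M)) (k + 1 + 1) ↔
      PdLT (A ⧸ J) ((LinearMap.ker g) ⧸ (J • ⊤ : Submodule A (LinearMap.ker g))) (k + 1) := by
  refine pdLT_succ_iff_of_exact (fibMap J (LinearMap.ker g).subtype) (fibMap J g) ?_ ?_ ?_ k
  · rw [injective_iff_map_eq_zero]
    intro y hy
    obtain ⟨x, rfl⟩ := Submodule.Quotient.mk_surjective _ y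
    rw [fibMap_mk, Submodule.Quotient.mk_eq_zero] at hy
    exact (Submodule.Quotient.mk_eq_zero _).2 (hK x hy)
  · intro y
    constructor
    · intro hy
      obtain ⟨f, rfl⟩ := Submodule.Quotient.mk_surjective _ y
      rw [fibMap_mk, Submodule.Quotient.mk_eq_zero] at hy
      have hmap : (J • ⊤ : Submodule A M) = Submodule.map g (J • ⊤ : Submodule A F) := by
        rw [Submodule.map_smul'', Submodule.map_top, LinearMap.range_eq_top.2 hg]
      rw [hmap] at hy
      obtain ⟨f', hf', hff'⟩ := hy
      have hk : f - f' ∈ LinearMap.ker g := by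
        rw [LinearMap.mem_ker, map_sub, hff', sub_self]
      refine ⟨Submodule.Quotient.mk ⟨f - f', hk⟩, ?_⟩
      rw [fibMap_mk]
      change Submodule.Quotient.mk (f - f') = _
      rw [Submodule.Quotient.mk_sub, (Submodule.Quotient.mk_eq_zero _).2 hf', sub_zero]
    · rintro ⟨z, rfl⟩
      obtain ⟨x, rfl⟩ := Submodule.Quotient.mk_surjective _ z
      rw [fibMap_mk, fibMap_mk]
      change Submodule.Quotient.mk (g (x : F)) = 0
      rw [LinearMap.mem_ker.1 x.2, Submodule.Quotient.mk_zero]
  · intro y
    obtain ⟨m, rfl⟩ := Submodule.Quotient.mk_surjective _ y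
    obtain ⟨f, rfl⟩ := hg m
    exact ⟨Submodule.Quotient.mk f, rfl⟩

end Fibre

section Core

/-- torsion-free modules over a valuation ring are flat. -/
lemma flat_of_torsionFree {V X : Type*} [CommRing V] [IsDomain V] [ValuationRing V]
    [AddCommGroup X] [Module V X]
    (htf : ∀ (r : V) (x : X), r ≠ 0 → r • x = 0 → x = 0) : Module.Flat V X := by
  rw [Module.Flat.flat_iff_torsion_eq_bot_of_isBezout, eq_bot_iff]
  rintro x ⟨⟨r, hr⟩, h⟩
  exact htf r x (nonZeroDivisors.ne_zero hr) h

variable {V A : Type u} [CommRing V] [IsDomain V] [ValuationRing V] [CommRing A]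
  [IsLocalRing A] [Algebra V A] [IsLocalHom (algebraMap V A)] [Algebra.EssFiniteType V A]
  [Module.Flat V A]

omit [Algebra.EssFiniteType V A] [Module.Flat V A] in
lemma map_maximalIdeal_le : (maximalIdeal V).map (algebraMap V A) ≤ maximalIdeal A :=
  Ideal.map_le_iff_le_comap.2 (fun v hv => map_nonunit (algebraMap V A) v hv)

/-- **Key step**: a finite `V`-flat `A`-module whose fibre is free is free. -/
theorem free_of_fibre_projective (M : Type u) [AddCommGroup M] [Module A M] [Module V M]
    [IsScalarTower V A M] [Module.Finite A M] [Module.Flat V M]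
    (h : Module.Projective (A ⧸ (maximalIdeal V).map (algebraMap V A))
      (M ⧸ (((maximalIdeal V).map (algebraMap V A)) • ⊤ : Submodule A M))) :
    Module.Free A M := by
  classical
  set J : Ideal A := (maximalIdeal V).map (algebraMap V A) with hJdef
  have hJle : J ≤ maximalIdeal A := map_maximalIdeal_le
  haveI : Nontrivial (A ⧸ J) := Ideal.Quotient.nontrivial_iff.2
    (fun htop => (maximalIdeal.isMaximal A).ne_top (top_le_iff.1 (htop ▸ hJle)))
  haveI : IsLocalRing (A ⧸ J) :=
    IsLocalRing.of_surjective' (Ideal.Quotient.mk J) Ideal.Quotient.mk_surjective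
  haveI : Module.Finite (A ⧸ J) (M ⧸ (J • ⊤ : Submodule A M)) :=
    Module.Finite.of_restrictScalars_finite A (A ⧸ J) _
  haveI : Module.Free (A ⧸ J) (M ⧸ (J • ⊤ : Submodule A M)) := Module.free_of_flat_of_isLocalRing
  let ι := Module.Free.ChooseBasisIndex (A ⧸ J) (M ⧸ (J • ⊤ : Submodule A M))
  let b : Module.Basis ι (A ⧸ J) (M ⧸ (J • ⊤ : Submodule A M)) := Module.Free.chooseBasis _ _
  have hm : ∀ i : ι, ∃ m : M, (Submodule.Quotient.mk m : M ⧸ (J • ⊤ : Submodule A M)) = b i :=
    fun i => Submodule.Quotient.mk_surjective _ (b i)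
  choose m hm using hm
  let u : (ι → A) →ₗ[A] M := Fintype.linearCombination A m
  have hmk : ∀ x : ι → A, (Submodule.Quotient.mk (u x) : M ⧸ (J • ⊤ : Submodule A M)) =
      ∑ i, (Ideal.Quotient.mk J (x i)) • b i := by
    intro x
    change Submodule.Quotient.mk (Fintype.linearCombination A m x) = _
    rw [Fintype.linearCombination_apply]
    change (Submodule.mkQ _) (∑ i, x i • m i) = _
    rw [map_sum]
    refine Finset.sum_congr rfl (fun i _ => ?_)
    rw [map_smul, Submodule.mkQ_apply, hm i]
    rfl
  have hu : ∀ x : ι → A, u x ∈ (maximalIdeal V • ⊤ : Submodule V M) →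
      x ∈ (maximalIdeal V • ⊤ : Submodule V (ι → A)) := by
    intro x hx
    have h1 : u x ∈ (J • ⊤ : Submodule A M) :=
      (mem_map_smul_top_iff (A := V) (S := A) (X := M) (maximalIdeal V) (u x)).2 hx
    have h2 : ∑ i, (Ideal.Quotient.mk J (x i)) • b i = 0 := by
      rw [← hmk x]; exact (Submodule.Quotient.mk_eq_zero _).2 h1
    have h3 : ∀ i, x i ∈ J := fun i =>
      Ideal.Quotient.eq_zero_iff_mem.1
        (Fintype.linearIndependent_iff.1 b.linearIndependent _ h2 i)
    refine (mem_map_smul_top_iff (A := V) (S := A) (X := ι → A) (maximalIdeal V) x).1 ?_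
    rw [pi_eq_sum_univ x]
    exact Submodule.sum_mem _ (fun i _ => Submodule.smul_mem_smul (h3 i) Submodule.mem_top)
  obtain ⟨hinj, -⟩ := injective_and_flat_coker u hu
  have hsurj : Function.Surjective u := by
    rw [← LinearMap.range_eq_top, ← top_le_iff]
    refine Submodule.le_of_le_smul_of_le_jacobson_bot (I := J) Module.Finite.fg_top
      (hJle.trans (IsLocalRing.maximalIdeal_le_jacobson ⊥)) ?_
    intro x _
    have hc : ∀ i : ι, ∃ c : A, Ideal.Quotient.mk J c = b.equivFun (Submodule.Quotient.mk x) i :=
      fun i => Ideal.Quotient.mk_surjective _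
    choose c hc using hc
    have h1 : (Submodule.Quotient.mk (u c) : M ⧸ (J • ⊤ : Submodule A M)) =
        Submodule.Quotient.mk x := by
      rw [hmk c]
      simp_rw [hc]
      exact b.sum_equivFun _
    have h2 : x - u c ∈ (J • ⊤ : Submodule A M) := by
      rw [← Submodule.Quotient.mk_eq_zero, Submodule.Quotient.mk_sub, h1, sub_self]
    exact Submodule.mem_sup.2 ⟨u c, ⟨c, rfl⟩, x - u c, h2, by abel⟩
  exact Module.Free.of_equiv (LinearEquiv.ofBijective u ⟨hinj, hsurj⟩)

/-- **Main induction**: fibrewise projective dimension bounds lift for finite `V`-flat modules. -/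
theorem pdLT_of_fibre (k : ℕ) :
    ∀ (M : Type u) [AddCommGroup M] [Module A M] [Module V M] [IsScalarTower V A M]
      [Module.Finite A M] [Module.Flat V M],
      PdLT (A ⧸ (maximalIdeal V).map (algebraMap V A))
        (M ⧸ (((maximalIdeal V).map (algebraMap V A)) • ⊤ : Submodule A M)) (k + 1) →
      PdLT A M (k + 1) := by
  induction k with
  | zero =>
    intro M _ _ _ _ _ _ h
    rw [zero_add, pdLT_one_iff] at h ⊢
    haveI := free_of_fibre_projective (V := V) (A := A) M h
    infer_instance
  | succ k ih =>
    intro M _ _ _ _ _ _ h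
    set J : Ideal A := (maximalIdeal V).map (algebraMap V A) with hJdef
    obtain ⟨r, g, hg⟩ := Module.Finite.exists_fin' A M
    have htfM : ∀ (v : V) (x : M), v ≠ 0 → v • x = 0 → x = 0 :=
      fun v x hv hx => torsionFree_of_flat (R := V) v x hv hx
    haveI : Module.Flat V (Fin r → A) := Module.Flat.trans V A (Fin r → A)
    have htfF : ∀ (v : V) (x : Fin r → A), v ≠ 0 → v • x = 0 → x = 0 :=
      fun v x hv hx => torsionFree_of_flat (R := V) v x hv hx
    haveI : Module.FinitePresentation A M := finitePresentation_of_essFiniteType (R := V) A M htfM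
    haveI : Module.Finite A (LinearMap.ker g) :=
      Module.Finite.iff_fg.2 (Module.FinitePresentation.fg_ker g hg)
    haveI : Module.Flat V (LinearMap.ker g) := flat_of_torsionFree (fun v x hv hx =>
      Subtype.ext (htfF v x hv (congrArg Subtype.val hx)))
    have hK : ∀ x : LinearMap.ker g, (x : Fin r → A) ∈ (J • ⊤ : Submodule A (Fin r → A)) →
        x ∈ (J • ⊤ : Submodule A (LinearMap.ker g)) := by
      intro x hx
      have hx' := (mem_map_smul_top_iff (A := V) (S := A) (X := Fin r → A) (maximalIdeal V) _).1 hx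
      obtain ⟨a, ha, y, hy⟩ := exists_eq_smul_of_mem_smul_top _ _ hx'
      by_cases ha0 : a = 0
      · have : x = 0 := Subtype.ext (by rw [hy, ha0, zero_smul]; rfl)
        rw [this]; exact zero_mem _
      · have hgy : g y = 0 := by
          refine htfM a (g y) ha0 ?_
          rw [← algebraMap_smul A a (g y), ← map_smul, algebraMap_smul, ← hy]
          exact LinearMap.mem_ker.1 x.2
        have hxy : x = algebraMap V A a • (⟨y, LinearMap.mem_ker.2 hgy⟩ : LinearMap.ker g) :=
          Subtype.ext (by rw [hy]; change a • y = algebraMap V A a • y; rw [algebraMap_smul])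
        rw [hxy]
        exact Submodule.smul_mem_smul (Ideal.mem_map_of_mem _ ha) Submodule.mem_top
    have h1 : PdLT (A ⧸ J) ((LinearMap.ker g) ⧸ (J • ⊤ : Submodule A (LinearMap.ker g))) (k + 1) :=
      (pdLT_fibre_succ_iff J g hg hK k).1 h
    have h2 : PdLT A (LinearMap.ker g) (k + 1) := ih (LinearMap.ker g) h1
    exact (pdLT_succ_iff_of_exact (LinearMap.ker g).subtype g (Submodule.injective_subtype _)
      (LinearMap.exact_subtype_ker_map g) hg k).2 h2

/-- Fibre ring regular of dimension `n` ⇒ finite `V`-flat `A`-modules have pd `≤ n`. -/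
theorem pdLT_of_regular_fibre (n : ℕ)
    [IsRegularLocalRing (A ⧸ (maximalIdeal V).map (algebraMap V A))]
    (hn : ringKrullDim (A ⧸ (maximalIdeal V).map (algebraMap V A)) = n)
    (M : Type u) [AddCommGroup M] [Module A M] [Module V M] [IsScalarTower V A M]
    [Module.Finite A M] [Module.Flat V M] : PdLT A M (n + 1) :=
  pdLT_of_fibre n M (Groth.Agent.S0563.result _ n hn _)

/-- Fibre ring regular of dimension `n` ⇒ finitely presented `A`-modules have pd `≤ n + 1`. -/
theorem pdLT_succ_of_regular_fibre (n : ℕ)
    [IsRegularLocalRing (A ⧸ (maximalIdeal V).map (algebraMap V A))]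
    (hn : ringKrullDim (A ⧸ (maximalIdeal V).map (algebraMap V A)) = n)
    (M : Type u) [AddCommGroup M] [Module A M] [Module.FinitePresentation A M] :
    PdLT A M (n + 1 + 1) := by
  obtain ⟨r, g, hg⟩ := Module.Finite.exists_fin' A M
  haveI : Module.Flat V (Fin r → A) := Module.Flat.trans V A (Fin r → A)
  have htfF : ∀ (v : V) (x : Fin r → A), v ≠ 0 → v • x = 0 → x = 0 :=
    fun v x hv hx => torsionFree_of_flat (R := V) v x hv hx
  haveI : Module.Finite A (LinearMap.ker g) :=
    Module.Finite.iff_fg.2 (Module.FinitePresentation.fg_ker g hg)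
  haveI : Module.Flat V (LinearMap.ker g) := flat_of_torsionFree (fun v x hv hx =>
    Subtype.ext (htfF v x hv (congrArg Subtype.val hx)))
  have h2 : PdLT A (LinearMap.ker g) (n + 1) := pdLT_of_regular_fibre n hn (LinearMap.ker g)
  exact (pdLT_succ_iff_of_exact (LinearMap.ker g).subtype g (Submodule.injective_subtype _)
    (LinearMap.exact_subtype_ker_map g) hg n).2 h2

end Core

section Wrap

/-- the localization of a valuation ring at a prime is a valuation ring. -/
instance valuationRing_atPrime (V : Type*) [CommRing V] [IsDomain V] [ValuationRing V]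
    (p : Ideal V) [p.IsPrime] : ValuationRing (Localization.AtPrime p) := by
  rw [ValuationRing.iff_dvd_total]
  refine ⟨fun a b => ?_⟩
  obtain ⟨x, s, rfl⟩ := IsLocalization.exists_mk'_eq p.primeCompl a
  obtain ⟨y, t, rfl⟩ := IsLocalization.exists_mk'_eq p.primeCompl b
  have key : ∀ (x y : V) (s t : p.primeCompl), x ∣ y →
      IsLocalization.mk' (Localization.AtPrime p) x s ∣
        IsLocalization.mk' (Localization.AtPrime p) y t := by
    intro x y s t hxy
    have h1 : IsLocalization.mk' (Localization.AtPrime p) x s ∣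
        algebraMap V (Localization.AtPrime p) x :=
      ⟨algebraMap V _ (s : V), (IsLocalization.mk'_spec _ x s).symm⟩
    have h2 : algebraMap V (Localization.AtPrime p) x ∣ algebraMap V (Localization.AtPrime p) y :=
      map_dvd _ hxy
    have h3 : algebraMap V (Localization.AtPrime p) y ∣
        IsLocalization.mk' (Localization.AtPrime p) y t := by
      have hu : IsUnit (algebraMap V (Localization.AtPrime p) (t : V)) :=
        IsLocalization.map_units _ t
      rw [← hu.dvd_mul_right, IsLocalization.mk'_spec]
    exact h1.trans (h2.trans h3)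
  rcases ValuationRing.dvd_total x y with h | h
  · exact Or.inl (key x y s t h)
  · exact Or.inr (key y x t s h)

variable {V B : Type u} [CommRing V] [IsDomain V] [ValuationRing V] [CommRing B] [Algebra V B]
  [Module.Flat V B] [Algebra.FiniteType V B] (q : Ideal B) [q.IsPrime]

/-- the algebra structure of `B_q` over `V_p`, `p = q ∩ V`. -/
noncomputable abbrev algAtPrime :
    Algebra (Localization.AtPrime (Ideal.comap (algebraMap V B) q)) (Localization.AtPrime q) :=
  (Localization.localRingHom (Ideal.comap (algebraMap V B) q) q (algebraMap V B) rfl).toAlgebra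

/-- torsion-freeness over `V` implies torsion-freeness over `V_p`. -/
lemma torsionFree_atPrime (p : Ideal V) [p.IsPrime] {X : Type*} [AddCommGroup X] [Module V X]
    [Module (Localization.AtPrime p) X] [IsScalarTower V (Localization.AtPrime p) X]
    (htf : ∀ (v : V) (x : X), v ≠ 0 → v • x = 0 → x = 0) :
    ∀ (c : Localization.AtPrime p) (x : X), c ≠ 0 → c • x = 0 → x = 0 := by
  intro c x hc hx
  obtain ⟨v, s, rfl⟩ := IsLocalization.exists_mk'_eq p.primeCompl c
  have hv : v ≠ 0 := by
    rintro rfl
    exact hc (IsLocalization.mk'_zero _)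
  refine htf v x hv ?_
  rw [← algebraMap_smul (Localization.AtPrime p) v x,
    ← IsLocalization.mk'_spec (Localization.AtPrime p) v s, mul_comm, mul_smul, hx, smul_zero]

/-- **Wrapper**: all the structure needed to apply the core theorems to `V_p → B_q`. -/
theorem wrapper (n : ℕ)
    (hreg : IsRegularLocalRing (Localization.AtPrime q ⧸ Ideal.map (algebraMap V (Localization.AtPrime q)) (Ideal.comap (algebraMap V B) q)))
    (hn : ringKrullDim (Localization.AtPrime q ⧸ Ideal.map (algebraMap V (Localization.AtPrime q)) (Ideal.comap (algebraMap V B) q)) = n) :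
    (∀ (M : Type u) [AddCommGroup M] [Module (Localization.AtPrime q) M]
      [Module.FinitePresentation (Localization.AtPrime q) M],
      PdLT (Localization.AtPrime q) M (n + 1 + 1)) ∧
    (∀ (M : Type u) [AddCommGroup M] [Module (Localization.AtPrime q) M]
      [Module.FinitePresentation (Localization.AtPrime q) M]
      [Module V M] [IsScalarTower V (Localization.AtPrime q) M] [Module.Flat V M],
      PdLT (Localization.AtPrime q) M (n + 1)) := by
  classical
  let p : Ideal V := Ideal.comap (algebraMap V B) q
  let Vp := Localization.AtPrime p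
  let A := Localization.AtPrime q
  letI : Algebra Vp A := algAtPrime q
  haveI : IsScalarTower V Vp A := IsScalarTower.of_algebraMap_eq (fun v => by
    change algebraMap V A v = Localization.localRingHom p q (algebraMap V B) rfl (algebraMap V Vp v)
    rw [Localization.localRingHom_to_map, IsScalarTower.algebraMap_apply V B A])
  haveI : IsLocalHom (algebraMap Vp A) :=
    Localization.isLocalHom_localRingHom p q (algebraMap V B) rfl
  haveI : Algebra.EssFiniteType B A := Algebra.EssFiniteType.of_isLocalization A q.primeCompl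
  haveI : Algebra.EssFiniteType V A := Algebra.EssFiniteType.comp V B A
  haveI : Algebra.EssFiniteType Vp A := Algebra.EssFiniteType.of_comp V Vp A
  haveI : Module.Flat B A := IsLocalization.flat A q.primeCompl
  haveI : Module.Flat V A := Module.Flat.trans V B A
  have htfA : ∀ (v : V) (x : A), v ≠ 0 → v • x = 0 → x = 0 :=
    fun v x hv hx => torsionFree_of_flat (R := V) v x hv hx
  haveI : Module.Flat Vp A := flat_of_torsionFree (torsionFree_atPrime p htfA)
  have hJ : (maximalIdeal Vp).map (algebraMap Vp A) = Ideal.map (algebraMap V A) p := by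
    rw [← IsLocalization.AtPrime.map_eq_maximalIdeal p Vp, Ideal.map_map,
      ← IsScalarTower.algebraMap_eq V Vp A]
  have hregn : ∀ J : Ideal A, J = Ideal.map (algebraMap V A) p →
      ∃ _ : IsRegularLocalRing (A ⧸ J), ringKrullDim (A ⧸ J) = n := by
    rintro _ rfl
    exact ⟨hreg, hn⟩
  obtain ⟨hreg', hn'⟩ := hregn _ hJ
  refine ⟨fun M _ _ _ => pdLT_succ_of_regular_fibre (V := Vp) (A := A) n hn' M, ?_⟩
  intro M _ _ _ _ _ _
  letI : Module Vp M := Module.compHom M (algebraMap Vp A)
  haveI : IsScalarTower Vp A M := ⟨fun c a x => by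
    change (algebraMap Vp A c * a) • x = algebraMap Vp A c • (a • x)
    rw [mul_smul]⟩
  haveI : IsScalarTower V Vp M := ⟨fun v c x => by
    change algebraMap Vp A (v • c) • x = v • (algebraMap Vp A c • x)
    rw [Algebra.smul_def, map_mul, ← IsScalarTower.algebraMap_apply V Vp A, mul_smul,
      algebraMap_smul]⟩
  have htfM : ∀ (v : V) (x : M), v ≠ 0 → v • x = 0 → x = 0 :=
    fun v x hv hx => torsionFree_of_flat (R := V) v x hv hx
  haveI : Module.Flat Vp M := flat_of_torsionFree (torsionFree_atPrime p htfM)
  exact pdLT_of_regular_fibre (V := Vp) (A := A) n hn' M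

end Wrap

end Groth.Agent.Lead.ValPd
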