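import Mathlib
import Groth.Agent.Lead.ValPd

/-!
# Reflexive modules over local rings essentially of finite type over a valuation ring

Continuation of `Lead/ValPd`: duals of finitely presented modules are finite, and reflexive
finitely presented modules have projective dimension `≤ n - 1` when the fibre ring is regular of
dimension `n`.
-/

set_option autoImplicit false
universe u

open CategoryTheory IsLocalRing
open Groth.Agent.H72.PdLocal

namespace Groth.Agent.Lead.ValPd

open Groth.Agent.Lead.NagataVal

section DualSeq

variable {A : Type*} [CommRing A] {F N : Type*} [AddCommGroup F] [Module A F] [AddCommGroup N]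
  [Module A N]

/-- left exactness of the dual: `0 → N^∨ → F^∨ → (ker π)^∨` for `π : F ↠ N`. -/
lemma dual_exact (π : F →ₗ[A] N) (hπ : Function.Surjective π) :
    Function.Exact π.dualMap (LinearMap.ker π).subtype.dualMap := by
  intro φ
  constructor
  · intro h
    have hφ : LinearMap.ker π ≤ LinearMap.ker φ := fun x hx => by
      have := LinearMap.congr_fun h ⟨x, hx⟩
      exact this
    refine ⟨((LinearMap.ker π).liftQ φ hφ).comp
      (π.quotKerEquivOfSurjective hπ).symm.toLinearMap, ?_⟩
    ext x
    rw [LinearMap.dualMap_apply, LinearMap.comp_apply, LinearEquiv.coe_coe,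
      LinearMap.quotKerEquivOfSurjective_symm_apply, Submodule.liftQ_apply]
  · rintro ⟨ψ, rfl⟩
    ext ⟨x, hx⟩
    rw [LinearMap.dualMap_apply, LinearMap.dualMap_apply, Submodule.subtype_apply,
      LinearMap.mem_ker.1 hx, map_zero, LinearMap.zero_apply]

end DualSeq

section Core

variable {V A : Type u} [CommRing V] [IsDomain V] [ValuationRing V] [CommRing A]
  [IsLocalRing A] [Algebra V A] [IsLocalHom (algebraMap V A)] [Algebra.EssFiniteType V A]
  [Module.Flat V A]

omit [IsLocalRing A] [IsLocalHom (algebraMap V A)] [Algebra.EssFiniteType V A] in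
/-- submodules of a dual are `V`-torsion-free. -/
lemma torsionFree_sub_dual {K : Type u} [AddCommGroup K] [Module A K]
    (C : Submodule A (Module.Dual A K)) :
    ∀ (v : V) (x : C), v ≠ 0 → v • x = 0 → x = 0 := by
  intro v x hv hx
  apply Subtype.ext
  ext k
  have h1 : (v • (x : Module.Dual A K)) k = 0 := by
    have := congrArg (fun y : C => (y : Module.Dual A K) k) hx
    exact this
  rw [LinearMap.smul_apply] at h1
  exact torsionFree_of_flat (R := V) v _ hv h1

/-- the dual of a finitely presented `A`-module is a finite `A`-module. -/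
theorem dual_finite (V : Type u) {A : Type u} [CommRing V] [IsDomain V] [ValuationRing V]
    [CommRing A] [Algebra V A] [Algebra.EssFiniteType V A] [Module.Flat V A]
    (M : Type u) [AddCommGroup M] [Module A M] [Module.FinitePresentation A M] :
    Module.Finite A (Module.Dual A M) := by
  obtain ⟨r, g, hg⟩ := Module.Finite.exists_fin' A M
  let ρ : Module.Dual A (Fin r → A) →ₗ[A] Module.Dual A (LinearMap.ker g) :=
    (LinearMap.ker g).subtype.dualMap
  haveI : Module.Finite A (LinearMap.range ρ) := Module.Finite.range ρ
  haveI : Module.FinitePresentation A (LinearMap.range ρ) :=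
    finitePresentation_of_essFiniteType (R := V) A (LinearMap.range ρ)
      (torsionFree_sub_dual (V := V) (LinearMap.range ρ))
  have hfg : (LinearMap.ker ρ.rangeRestrict).FG :=
    Module.FinitePresentation.fg_ker (R := A) (M := Module.Dual A (Fin r → A))
      (N := LinearMap.range ρ) ρ.rangeRestrict ρ.surjective_rangeRestrict
  rw [LinearMap.ker_rangeRestrict] at hfg
  have hex := dual_exact g hg
  have hrange : LinearMap.ker ρ = LinearMap.range g.dualMap := LinearMap.exact_iff.1 hex
  have hinj : Function.Injective g.dualMap := LinearMap.dualMap_injective_of_surjective hg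
  rw [hrange] at hfg
  haveI : Module.Finite A (LinearMap.range g.dualMap) := Module.Finite.iff_fg.2 hfg
  exact Module.Finite.equiv (LinearEquiv.ofInjective g.dualMap hinj).symm

/-- reflexive finitely presented modules have pd `≤ n - 1` when the fibre is regular of dim `n`. -/
theorem pdLT_reflexive (n : ℕ)
    [IsRegularLocalRing (A ⧸ (maximalIdeal V).map (algebraMap V A))]
    (hn : ringKrullDim (A ⧸ (maximalIdeal V).map (algebraMap V A)) = n)
    (M : Type u) [AddCommGroup M] [Module A M] [Module.FinitePresentation A M]
    [Module.IsReflexive A M] : PdLT A M (n - 1 + 1) := by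
  haveI : Module.Finite A (Module.Dual A M) := dual_finite V M
  obtain ⟨r, π, hπ⟩ := Module.Finite.exists_fin' A (Module.Dual A M)
  let ρ : Module.Dual A (Fin r → A) →ₗ[A] Module.Dual A (LinearMap.ker π) :=
    (LinearMap.ker π).subtype.dualMap
  haveI : Module.Finite A (LinearMap.range ρ) := Module.Finite.range ρ
  haveI : Module.Flat V (LinearMap.range ρ) :=
    flat_of_torsionFree (V := V) (X := LinearMap.range ρ)
      (torsionFree_sub_dual (V := V) (LinearMap.range ρ))
  have hC : PdLT A (LinearMap.range ρ) (n + 1) := pdLT_of_regular_fibre n hn _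
  have hex := dual_exact π hπ
  have hinj : Function.Injective π.dualMap := LinearMap.dualMap_injective_of_surjective hπ
  have hex' : Function.Exact π.dualMap ρ.rangeRestrict := by
    intro φ
    rw [← hex φ]
    constructor
    · intro h; exact congrArg Subtype.val h
    · intro h; exact Subtype.ext h
  have hD : PdLT A (Module.Dual A (Module.Dual A M)) (n - 1 + 1) := by
    rcases Nat.eq_zero_or_pos n with rfl | hpos
    · have hC2 : PdLT A (LinearMap.range ρ) (0 + 1 + 1) := by
        haveI : HasProjectiveDimensionLT (ModuleCat.of A (LinearMap.range ρ)) (0 + 1) := hC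
        exact hasProjectiveDimensionLT_of_ge _ (0 + 1) (0 + 1 + 1) (by omega)
      exact (pdLT_succ_iff_of_exact π.dualMap ρ.rangeRestrict hinj hex'
        ρ.surjective_rangeRestrict 0).1 hC2
    · obtain ⟨k, rfl⟩ : ∃ k, n = k + 1 := ⟨n - 1, by omega⟩
      rw [Nat.add_sub_cancel]
      exact (pdLT_succ_iff_of_exact π.dualMap ρ.rangeRestrict hinj hex'
        ρ.surjective_rangeRestrict k).1 hC
  exact hD.of_equiv (Module.evalEquiv A M).symm

end Core

section Wrap2

variable {V B : Type u} [CommRing V] [IsDomain V] [ValuationRing V] [CommRing B] [Algebra V B]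
  [Module.Flat V B] [Algebra.FiniteType V B] (q : Ideal B) [q.IsPrime]

/-- **Wrapper** for reflexive modules over `B_q`. -/
theorem wrapper_reflexive (n : ℕ)
    (hreg : IsRegularLocalRing (Localization.AtPrime q ⧸ Ideal.map (algebraMap V (Localization.AtPrime q)) (Ideal.comap (algebraMap V B) q)))
    (hn : ringKrullDim (Localization.AtPrime q ⧸ Ideal.map (algebraMap V (Localization.AtPrime q)) (Ideal.comap (algebraMap V B) q)) = n)
    (M : Type u) [AddCommGroup M] [Module (Localization.AtPrime q) M]
    [Module.FinitePresentation (Localization.AtPrime q) M]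
    [Module.IsReflexive (Localization.AtPrime q) M] :
    PdLT (Localization.AtPrime q) M (n - 1 + 1) := by
  classical
  let p : Ideal V := Ideal.comap (algebraMap V B) q
  let Vp := Localization.AtPrime p
  let A := Localization.AtPrime q
  letI : Algebra Vp A := algAtPrime q
  haveI : IsScalarTower V Vp A := IsScalarTower.of_algebraMap_eq (fun v => by
    change algebraMap V A v = Localization.localRingHom p q (algebraMap V B) rfl (algebraMap V Vp v)
    rw [Localization.localRingHom_to_map, IsScalarTower.algebraMap_apply V B A])
  haveI : IsLocalHom (algebraMap Vp A) :=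
    Localization.isLocalHom_localRingHom p q (algebraMap V B) rfl
  haveI : Algebra.EssFiniteType B A := Algebra.EssFiniteType.of_isLocalization A q.primeCompl
  haveI : Algebra.EssFiniteType V A := Algebra.EssFiniteType.comp V B A
  haveI : Algebra.EssFiniteType Vp A := Algebra.EssFiniteType.of_comp V Vp A
  haveI : Module.Flat B A := IsLocalization.flat A q.primeCompl
  haveI : Module.Flat V A := Module.Flat.trans V B A
  have htfA : ∀ (v : V) (x : A), v ≠ 0 → v • x = 0 → x = 0 :=
    fun v x hv hx => torsionFree_of_flat (R := V) v x hv hx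
  haveI : Module.Flat Vp A := flat_of_torsionFree (torsionFree_atPrime p htfA)
  have hJ : (maximalIdeal Vp).map (algebraMap Vp A) = Ideal.map (algebraMap V A) p := by
    rw [← IsLocalization.AtPrime.map_eq_maximalIdeal p Vp, Ideal.map_map,
      ← IsScalarTower.algebraMap_eq V Vp A]
  have hregn : ∀ J : Ideal A, J = Ideal.map (algebraMap V A) p →
      ∃ _ : IsRegularLocalRing (A ⧸ J), ringKrullDim (A ⧸ J) = n := by
    rintro _ rfl
    exact ⟨hreg, hn⟩
  obtain ⟨hreg', hn'⟩ := hregn _ hJ
  exact pdLT_reflexive (V := Vp) (A := A) n hn' M

end Wrap2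

end Groth.Agent.Lead.ValPd
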